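import Mathlib

/-!
Arithmetic for the simple groups of order `9 * 2 ^ a * q ^ b`.
-/

set_option autoImplicit false

namespace CfsgLib.NineTwoPrimes

theorem odd_geom_plus (x : ℤ) (hx : Odd x) (i : ℕ) :
    ∃ m : ℤ, Odd m ∧ x ^ (2 * i + 1) + 1 = (x + 1) * m := by
  induction i with
  | zero => exact ⟨1, odd_one, by ring⟩
  | succ i ih =>
      obtain ⟨m, hm, e⟩ := ih
      refine ⟨x ^ 2 * m - (x - 1), ((hx.pow).mul hm).sub_even ?_, ?_⟩
      · obtain ⟨t, rfl⟩ := hx; exact ⟨t, by ring⟩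
      · calc x ^ (2 * (i + 1) + 1) + 1 = x ^ 2 * (x ^ (2 * i + 1) + 1) - x ^ 2 + 1 := by ring
          _ = (x + 1) * (x ^ 2 * m - (x - 1)) := by rw [e]; ring

theorem odd_geom_minus (x : ℤ) (hx : Odd x) (i : ℕ) :
    ∃ m : ℤ, Odd m ∧ x ^ (2 * i + 1) - 1 = (x - 1) * m := by
  induction i with
  | zero => exact ⟨1, odd_one, by ring⟩
  | succ i ih =>
      obtain ⟨m, hm, e⟩ := ih
      refine ⟨x ^ 2 * m + (x + 1), ((hx.pow).mul hm).add_even ?_, ?_⟩
      · obtain ⟨t, rfl⟩ := hx; exact ⟨t + 1, by ring⟩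
      · calc x ^ (2 * (i + 1) + 1) - 1 = x ^ 2 * (x ^ (2 * i + 1) - 1) + x ^ 2 - 1 := by ring
          _ = (x - 1) * (x ^ 2 * m + (x + 1)) := by rw [e]; ring

theorem eq_one_of_odd_dvd_two_pow {m : ℤ} (hm : Odd m) {k : ℕ} (h : m ∣ (2 : ℤ) ^ k) :
    m = 1 ∨ m = -1 := by
  have h1 : m.natAbs ∣ 2 ^ k := by
    have := Int.natAbs_dvd_natAbs.mpr h
    simpa [Int.natAbs_pow] using this
  obtain ⟨j, -, hj⟩ := (Nat.dvd_prime_pow Nat.prime_two).mp h1
  rcases Nat.eq_zero_or_pos j with rfl | hj0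
  · simpa using Int.natAbs_eq_iff.mp (hj.trans (pow_zero 2))
  · exfalso
    have h2 : Odd m.natAbs := Int.natAbs_odd.mpr hm
    rw [hj] at h2
    exact (Nat.not_odd_iff_even.mpr (Nat.even_pow.mpr ⟨even_two, hj0.ne'⟩)) h2

/-- A power of a prime above three next to a power of two is a prime. -/
theorem prime_of_adjacent {q j k : ℕ} (hq : q.Prime) (h2 : q ≠ 2) (h3 : q ≠ 3) (hj : 1 ≤ j)
    (hk : 1 ≤ k) (h : q ^ j = 2 ^ k + 1 ∨ q ^ j + 1 = 2 ^ k) : j = 1 := by
  have hq5 : 5 ≤ q := by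
    have := hq.two_le
    rcases Nat.lt_or_ge q 5 with hlt | hge
    · interval_cases q <;> norm_num at *
    · exact hge
  have hodd : Odd (q : ℤ) := by exact_mod_cast hq.odd_of_ne_two h2
  have hsmall : ∀ i : ℕ, ((q : ℤ) ^ (2 * i + 1) = q) → i = 0 := fun i e => by
    have e' : q ^ (2 * i + 1) = q ^ 1 := by rw [pow_one]; exact_mod_cast e
    have := Nat.pow_right_injective hq.two_le e'
    omega
  obtain ⟨i, rfl | rfl⟩ := Nat.even_or_odd' j
  · exfalso
    have hi : i ≠ 0 := by omega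
    rcases h with h | h
    · -- the two factors of a difference of squares
      have e : (q ^ i - 1) * (q ^ i + 1) = 2 ^ k := by
        have h1 : 1 ≤ q ^ i := Nat.one_le_pow _ _ hq.pos
        obtain ⟨x, hx⟩ := Nat.exists_eq_add_of_le h1
        rw [pow_mul', hx] at h
        rw [hx, Nat.add_sub_cancel_left]
        nlinarith
      obtain ⟨u, -, hu⟩ := (Nat.dvd_prime_pow Nat.prime_two).mp (Dvd.intro _ e)
      obtain ⟨v, -, hv⟩ := (Nat.dvd_prime_pow Nat.prime_two).mp (Dvd.intro_left _ e)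
      have hge : 5 ≤ q ^ i := hq5.trans (Nat.le_self_pow hi q)
      have hu2 : 2 ≤ u := by
        by_contra hc
        interval_cases u <;> omega
      have hv2 : 2 ≤ v := by
        by_contra hc
        interval_cases v <;> omega
      have d1 : 4 ∣ q ^ i - 1 := hu ▸ pow_dvd_pow 2 hu2
      have d2 : 4 ∣ q ^ i + 1 := hv ▸ pow_dvd_pow 2 hv2
      omega
    · have h4 : q ^ (2 * i) % 4 = 1 := by
        rw [pow_mul, Nat.pow_mod, Nat.pow_mod q 2]
        have := hq.eq_one_or_self_of_dvd 2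
        rcases (by omega : q % 4 = 1 ∨ q % 4 = 3 ∨ q % 2 = 0) with r | r | r
        · rw [r]; simp
        · rw [r]; simp
        · rcases hq.eq_two_or_odd with e | e <;> omega
      rcases Nat.lt_or_ge k 2 with hk2 | hk2
      · interval_cases k
        have hge : 5 ≤ q ^ (2 * i) := hq5.trans (Nat.le_self_pow (by omega) q)
        omega
      · have : 4 ∣ 2 ^ k := pow_dvd_pow 2 hk2
        omega
  · rcases h with h | h
    · obtain ⟨m, hm, e⟩ := odd_geom_minus (q : ℤ) hodd i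
      have e2 : ((q : ℤ) - 1) * m = (2 : ℤ) ^ k := by
        rw [← e]
        have := congrArg (Nat.cast : ℕ → ℤ) h
        push_cast at this
        linarith
      rcases eq_one_of_odd_dvd_two_pow hm (Dvd.intro_left _ e2) with rfl | rfl
      · rw [mul_one] at e
        rw [hsmall i (by linarith)]
      · have hp : (0 : ℤ) < (2 : ℤ) ^ k := by positivity
        have hq' : (5 : ℤ) ≤ q := by exact_mod_cast hq5
        omega
    · obtain ⟨m, hm, e⟩ := odd_geom_plus (q : ℤ) hodd i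
      have e2 : ((q : ℤ) + 1) * m = (2 : ℤ) ^ k := by
        rw [← e]
        exact_mod_cast congrArg (Nat.cast : ℕ → ℤ) h
      rcases eq_one_of_odd_dvd_two_pow hm (Dvd.intro_left _ e2) with rfl | rfl
      · rw [mul_one] at e
        rw [hsmall i (by linarith)]
      · have hp : (0 : ℤ) < (2 : ℤ) ^ k := by positivity
        have hq' : (5 : ℤ) ≤ q := by exact_mod_cast hq5
        omega

/-- A divisor of `2 ^ a * q ^ b`. -/
theorem dvd_two_mul_prime {q a b d : ℕ} (hq : q.Prime) (h : d ∣ 2 ^ a * q ^ b) :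
    ∃ i j, d = 2 ^ i * q ^ j := by
  obtain ⟨u, v, hu, hv, rfl⟩ := Nat.dvd_mul.mp h
  obtain ⟨i, -, rfl⟩ := (Nat.dvd_prime_pow Nat.prime_two).mp hu
  obtain ⟨j, -, rfl⟩ := (Nat.dvd_prime_pow hq).mp hv
  exact ⟨i, j, rfl⟩

/-- Two adjacent numbers without prime divisors other than `2` and `q`. -/
theorem pair_shape {q i j i' j' : ℕ} (hq : q.Prime) (h2 : q ≠ 2) (h3 : q ≠ 3)
    (hd : 2 ≤ 2 ^ i * q ^ j) (hd' : 2 ≤ 2 ^ i' * q ^ j')
    (h : 2 ^ i * q ^ j = 2 ^ i' * q ^ j' + 1 ∨ 2 ^ i * q ^ j + 1 = 2 ^ i' * q ^ j') :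
    (i = 0 ∧ j = 1 ∧ j' = 0 ∧ (q = 2 ^ i' + 1 ∨ q + 1 = 2 ^ i')) ∨
      (i' = 0 ∧ j' = 1 ∧ j = 0 ∧ (q = 2 ^ i + 1 ∨ q + 1 = 2 ^ i)) := by
  have hcop : ∀ r, 2 ≤ r → r ∣ 2 ^ i * q ^ j → r ∣ 2 ^ i' * q ^ j' → False := by
    intro r hr h1 h1'
    rcases h with h | h
    · exact absurd (Nat.le_of_dvd one_pos ((Nat.dvd_add_right h1').mp (by rwa [← h]))) (by omega)
    · exact absurd (Nat.le_of_dvd one_pos ((Nat.dvd_add_right h1).mp (by rwa [h]))) (by omega)
  have hpar : i = 0 ∨ i' = 0 := by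
    by_contra hc
    push Not at hc
    exact hcop 2 le_rfl ((dvd_pow_self 2 hc.1).mul_right _) ((dvd_pow_self 2 hc.2).mul_right _)
  have hpq : j = 0 ∨ j' = 0 := by
    by_contra hc
    push Not at hc
    exact hcop q hq.two_le ((dvd_pow_self q hc.1).mul_left _) ((dvd_pow_self q hc.2).mul_left _)
  rcases hpar with rfl | rfl <;> rcases hpq with rfl | rfl <;> norm_num at hd <;> norm_num at hd' <;> norm_num at h ⊢
  · have hi : 1 ≤ i' := by
      by_contra hc
      obtain rfl : i' = 0 := by omega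
      norm_num at hd'
    have hj : 1 ≤ j := by
      by_contra hc
      obtain rfl : j = 0 := by omega
      norm_num at hd
    have hj1 := prime_of_adjacent hq h2 h3 hj hi h
    subst hj1
    simpa using h
  · have hi : 1 ≤ i := by
      by_contra hc
      obtain rfl : i = 0 := by omega
      norm_num at hd
    have hj : 1 ≤ j' := by
      by_contra hc
      obtain rfl : j' = 0 := by omega
      norm_num at hd'
    have hj1 := prime_of_adjacent hq h2 h3 hj hi (h.symm.imp (fun e => e.symm) (fun e => e.symm))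
    subst hj1
    simpa using (h.symm.imp (fun e => e.symm) (fun e => e.symm))

/-- An odd multiple of a power of two below `2 ^ k` is not next to a multiple of `2 ^ k ± 1`. -/
theorem not_adjacent {k q c r : ℕ} (hk : 5 ≤ k) (hq : q = 2 ^ k + 1 ∨ q + 1 = 2 ^ k) (hr : r < k)
    (hc : c = 1 ∨ c = 3 ∨ c = 9) (hne : c ≠ 1 ∨ r ≠ 0)
    (h : q ∣ c * 2 ^ r + 1 ∨ q ∣ c * 2 ^ r - 1) : False := by
  have hkr : 2 * 2 ^ r ≤ 2 ^ k := by
    rw [← pow_succ']
    exact Nat.pow_le_pow_right (by norm_num) hr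
  have h32 : 32 ≤ 2 ^ k := (Nat.pow_le_pow_right (by norm_num) hk : 2 ^ 5 ≤ 2 ^ k)
  have hr0 : 1 ≤ 2 ^ r := Nat.one_le_two_pow
  obtain ⟨l, e, hl⟩ : ∃ l, (c * 2 ^ r + 1 = q * l ∨ c * 2 ^ r = q * l + 1) ∧ 1 ≤ l := by
    rcases h with ⟨l, e⟩ | ⟨l, e⟩
    · refine ⟨l, Or.inl e, ?_⟩
      rcases Nat.eq_zero_or_pos l with rfl | hl
      · rw [mul_zero] at e; omega
      · exact hl
    · have h2 : 2 ≤ c * 2 ^ r := by
        rcases hne with hc1 | hr1
        · calc 2 ≤ c := by omega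
            _ ≤ c * 2 ^ r := Nat.le_mul_of_pos_right _ hr0
        · calc 2 ≤ 2 ^ r := Nat.le_self_pow hr1 2
            _ ≤ c * 2 ^ r := Nat.le_mul_of_pos_left _ (by omega)
      refine ⟨l, Or.inr (by omega), ?_⟩
      rcases Nat.eq_zero_or_pos l with rfl | hl
      · rw [mul_zero] at e; omega
      · exact hl
  have hl4 : l ≤ 4 := by
    by_contra hc5
    have : q * 5 ≤ q * l := Nat.mul_le_mul_left _ (by omega)
    rcases hc with rfl | rfl | rfl <;> rcases hq with hq | hq <;> omega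
  obtain ⟨s, hs⟩ : ∃ s, k = r + 1 + s := ⟨k - r - 1, by omega⟩
  have e2 : 2 ^ k = 2 ^ r * (2 * 2 ^ s) := by rw [hs, pow_add, pow_add]; ring
  have hne2 : c * 2 ^ r ≠ 2 ^ k := by
    intro he
    rcases hc with rfl | rfl | rfl
    · rw [one_mul] at he
      have := Nat.pow_right_injective le_rfl he
      omega
    all_goals
      have h3 : 3 ∣ 2 ^ k := he ▸ dvd_mul_of_dvd_left (by norm_num) _
      exact absurd (Nat.prime_three.dvd_of_dvd_pow h3) (by norm_num)
  have hr2 : r ≤ 2 := by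
    by_contra hr3
    have h8 : 8 ∣ 2 ^ r := pow_dvd_pow 2 (by omega : 3 ≤ r)
    have h8c : 8 ∣ c * 2 ^ r := dvd_mul_of_dvd_right h8 _
    have h8k : 8 ∣ 2 ^ k := pow_dvd_pow 2 (by omega : 3 ≤ k)
    interval_cases l <;> rcases e with e | e <;> rcases hq with hq | hq <;> omega
  have h37 : c * 2 ^ r ≤ 36 := by
    calc c * 2 ^ r ≤ 9 * 2 ^ 2 := Nat.mul_le_mul (by omega) (Nat.pow_le_pow_right (by norm_num) hr2)
      _ = 36 := by norm_num
  have hk5 : k = 5 := by
    by_contra hk6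
    have : 64 ≤ 2 ^ k := (Nat.pow_le_pow_right (by norm_num) (by omega : 6 ≤ k) : 2 ^ 6 ≤ 2 ^ k)
    have : q * 1 ≤ q * l := Nat.mul_le_mul_left _ hl
    rcases hq with hq | hq <;> rcases e with e | e <;> omega
  subst hk5
  interval_cases r <;> rcases hc with rfl | rfl | rfl <;> interval_cases l <;>
    rcases e with e | e <;> rcases hq with hq | hq <;> omega

end CfsgLib.NineTwoPrimes
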