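import Mathlib

/-!
Automorphism groups of order prime to three of a group of order nine with at least three orbits
on the nonidentity elements and without common fixed points.
-/

set_option autoImplicit false
set_option linter.style.haveILetI false
set_option linter.unusedSectionVars false

namespace CfsgLib.NineTwoPrimes

variable {A : Type*} [CommGroup A] [Finite A]

/-- The subgroup of fixed points. -/
def fixedSub (w : MulAut A) : Subgroup A where
  carrier := {x | w x = x}
  one_mem' := map_one w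
  mul_mem' {x y} hx hy := by
    show w (x * y) = x * y
    rw [map_mul, show w x = x from hx, show w y = y from hy]
  inv_mem' {x} hx := by
    show w x⁻¹ = x⁻¹
    rw [map_inv, show w x = x from hx]

/-- The subgroup of inverted points. -/
def invertedSub (w : MulAut A) : Subgroup A where
  carrier := {x | w x = x⁻¹}
  one_mem' := by simp
  mul_mem' {x y} hx hy := by
    show w (x * y) = (x * y)⁻¹
    rw [map_mul, show w x = x⁻¹ from hx, show w y = y⁻¹ from hy, mul_inv]
  inv_mem' {x} hx := by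
    show w x⁻¹ = x⁻¹⁻¹
    rw [map_inv, show w x = x⁻¹ from hx]

theorem mem_fixedSub {w : MulAut A} {x : A} : x ∈ fixedSub w ↔ w x = x := Iff.rfl

theorem mem_invertedSub {w : MulAut A} {x : A} : x ∈ invertedSub w ↔ w x = x⁻¹ := Iff.rfl

variable (h9 : Nat.card A = 9)
include h9

theorem ne_inv {x : A} (hx : x ≠ 1) : x ≠ x⁻¹ := by
  intro e
  have h2 : x ^ 2 = 1 := by rw [pow_two]; exact mul_eq_one_iff_eq_inv.mpr e
  have h9' : x ^ 9 = 1 := by rw [← h9]; exact pow_card_eq_one'
  exact hx (by simpa using (pow_gcd_eq_one (m := 2) (n := 9)).mpr ⟨h2, h9'⟩)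

theorem card_of_proper {H : Subgroup A} (hne : H ≠ ⊤) {x : A} (hx : x ∈ H) (hx1 : x ≠ 1) :
    Nat.card H = 3 := by
  have hd : Nat.card H ∣ 3 ^ 2 := by
    have := H.card_subgroup_dvd_card; rwa [h9] at this
  obtain ⟨i, hi, e⟩ := (Nat.dvd_prime_pow Nat.prime_three).mp hd
  interval_cases i
  · exfalso
    rw [pow_zero, Subgroup.card_eq_one] at e
    rw [e] at hx
    exact hx1 (Subgroup.mem_bot.mp hx)
  · simpa using e
  · exact absurd (Subgroup.eq_top_of_card_eq H (by rw [e, h9]; norm_num)) hne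

omit h9 in
theorem eq_or_inv_of_card_three {H : Subgroup A} (h3 : Nat.card H = 3) {x y : A} (hx : x ∈ H)
    (hy : y ∈ H) (hx1 : x ≠ 1) (hy1 : y ≠ 1) : y = x ∨ y = x⁻¹ := by
  haveI : Fact (Nat.Prime 3) := ⟨Nat.prime_three⟩
  have hz : Subgroup.zpowers (⟨x, hx⟩ : H) = ⊤ :=
    zpowers_eq_top_of_prime_card h3 fun e => hx1 (congrArg Subtype.val e)
  obtain ⟨n, hn⟩ := Subgroup.mem_zpowers_iff.mp (hz ▸ Subgroup.mem_top (⟨y, hy⟩ : H))
  have e : x ^ n = y := by simpa using congrArg Subtype.val hn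
  have hx3 : x ^ (3 : ℤ) = 1 := by
    have := congrArg Subtype.val (pow_card_eq_one' (x := (⟨x, hx⟩ : H)))
    rw [h3] at this
    simpa [zpow_ofNat] using this
  obtain ⟨q, r, hr0, hr3, rfl⟩ : ∃ q r : ℤ, 0 ≤ r ∧ r < 3 ∧ n = 3 * q + r :=
    ⟨n / 3, n % 3, Int.emod_nonneg _ (by norm_num), Int.emod_lt_of_pos _ (by norm_num),
      (Int.mul_ediv_add_emod n 3).symm⟩
  rw [zpow_add, zpow_mul, hx3, one_zpow, one_mul] at e
  interval_cases r
  · exact absurd (by simpa using e.symm) hy1
  · exact Or.inl (by simpa using e.symm)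
  · right
    rw [← e]
    refine eq_inv_of_mul_eq_one_left ?_
    rw [← zpow_add_one]
    exact hx3

/-- Fixed and inverted elements of an involution which is not an inversion. -/
theorem split_involution {v : MulAut A} (hv1 : v ≠ 1) (hv : v * v = 1) {a : A} (ha1 : a ≠ 1)
    (ha : v a = a) :
    Nat.card (fixedSub v) = 3 ∧ Nat.card (invertedSub v) = 3 ∧ ∃ b, b ≠ 1 ∧ v b = b⁻¹ := by
  have hF : fixedSub v ≠ ⊤ := fun e => hv1 (MulEquiv.ext fun x => by
    have : x ∈ fixedSub v := e ▸ Subgroup.mem_top x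
    exact this)
  obtain ⟨y, -, hy⟩ := SetLike.exists_of_lt (lt_top_iff_ne_top.mpr hF)
  have hvv : v (v y) = y := by
    have := DFunLike.congr_fun hv y
    simpa using this
  set b := y * (v y)⁻¹
  have hb : v b = b⁻¹ := by
    simp only [b, map_mul, map_inv, hvv, mul_inv, inv_inv, mul_comm]
  have hb1 : b ≠ 1 := fun e => hy (mul_inv_eq_one.mp e).symm
  have hD : invertedSub v ≠ ⊤ := fun e => by
    have : a ∈ invertedSub v := e ▸ Subgroup.mem_top a
    exact ne_inv h9 ha1 (ha.symm.trans this)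
  exact ⟨card_of_proper h9 hF (x := a) ha ha1, card_of_proper h9 hD (x := b) hb hb1, b, hb1, hb⟩

omit [Finite A] in
/-- Two commuting automorphisms agreeing on generators. -/
theorem span_eq {a b : A} (ha1 : a ≠ 1) (hb1 : b ≠ 1) {v : MulAut A} (ha : v a = a) (hb : v b = b⁻¹)
    (y : A) : ∃ i j : ℤ, y = a ^ i * b ^ j := by
  haveI : Finite A := Nat.finite_of_card_ne_zero (by rw [h9]; norm_num)
  have htop : Subgroup.zpowers a ⊔ Subgroup.zpowers b = ⊤ := by
    by_contra hne
    have h3 := card_of_proper h9 hne (Subgroup.mem_sup_left (Subgroup.mem_zpowers a)) ha1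
    rcases eq_or_inv_of_card_three h3 (Subgroup.mem_sup_left (Subgroup.mem_zpowers a))
      (Subgroup.mem_sup_right (Subgroup.mem_zpowers b)) ha1 hb1 with rfl | rfl
    · exact ne_inv h9 ha1 (ha.symm.trans hb)
    · rw [map_inv, ha, inv_inv] at hb
      exact ne_inv h9 ha1 hb.symm
  obtain ⟨u, hu, w, hw, e⟩ := Subgroup.mem_sup.mp (htop ▸ Subgroup.mem_top y)
  obtain ⟨i, rfl⟩ := Subgroup.mem_zpowers_iff.mp hu
  obtain ⟨j, rfl⟩ := Subgroup.mem_zpowers_iff.mp hw
  exact ⟨i, j, e.symm⟩

variable (W : Subgroup (MulAut A)) (h3 : ¬ 3 ∣ Nat.card W)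
  (horb : ∃ x y z : A, x ≠ 1 ∧ y ≠ 1 ∧ z ≠ 1 ∧
    (∀ w ∈ W, w x ≠ y) ∧ (∀ w ∈ W, w x ≠ z) ∧ (∀ w ∈ W, w y ≠ z))
include h3 horb

theorem mul_self_eq_one {w : MulAut A} (hw : w ∈ W) : w * w = 1 := by
  classical
  haveI : Finite (MulAut A) := Finite.of_injective (fun e : MulAut A => (e : A → A)) DFunLike.coe_injective
  by_contra hww
  have h2 : ∀ r : ℕ, r.Prime → r ∣ orderOf w → r = 2 := by
    intro r hr hrd
    haveI := Fact.mk hr
    have hr3 : r ≠ 3 := fun e => h3 ((e ▸ hrd).trans (Subgroup.orderOf_dvd_natCard W hw))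
    by_contra hr2
    set u : MulAut A := w ^ (orderOf w / r) with hu
    have hu' : orderOf u = r := orderOf_pow_orderOf_div (orderOf_pos w).ne' hrd
    have hpg : IsPGroup r (Subgroup.zpowers u) := IsPGroup.of_card (n := 1) (by
      rw [Nat.card_zpowers, hu', pow_one])
    have h := hpg.card_modEq_card_fixedPoints A
    have hfix : Nat.card (MulAction.fixedPoints (Subgroup.zpowers u) A) = Nat.card (fixedSub u) := by
      refine Nat.card_congr (Equiv.setCongr ?_)
      ext x
      simp only [MulAction.mem_fixedPoints, Subtype.forall, SetLike.mem_coe, mem_fixedSub]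
      constructor
      · intro hx; exact hx u (Subgroup.mem_zpowers u)
      · intro hx g hg
        obtain ⟨n, rfl⟩ := Subgroup.mem_zpowers_iff.mp hg
        show (u ^ n) x = x
        have hmem : u ^ n ∈ MulAction.stabilizer (MulAut A) x :=
          zpow_mem (show u ∈ MulAction.stabilizer (MulAut A) x from hx) n
        exact hmem
    have hF : fixedSub u ≠ ⊤ := fun e => by
      have : u = 1 := MulEquiv.ext fun x => (e ▸ Subgroup.mem_top x : x ∈ fixedSub u)
      rw [this, orderOf_one] at hu'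
      exact hr.one_lt.ne hu'
    have hd : Nat.card (fixedSub u) ∣ 3 ^ 2 := by
      have := (fixedSub u).card_subgroup_dvd_card; rwa [h9] at this
    obtain ⟨i, hi, e⟩ := (Nat.dvd_prime_pow Nat.prime_three).mp hd
    rw [hfix, h9, e] at h
    have hrd' : r ∣ 9 - 3 ^ i :=
      (Nat.modEq_iff_dvd' (Nat.pow_le_pow_right (by norm_num) hi)).mp h.symm
    interval_cases i
    · have := (Nat.prime_dvd_prime_iff_eq hr Nat.prime_two).mp
        (hr.dvd_of_dvd_pow (show r ∣ 2 ^ 3 from hrd'))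
      exact hr2 this
    · rcases hr.dvd_mul.mp (show r ∣ 2 * 3 from hrd') with h' | h'
      · exact hr2 ((Nat.prime_dvd_prime_iff_eq hr Nat.prime_two).mp h')
      · exact hr3 ((Nat.prime_dvd_prime_iff_eq hr Nat.prime_three).mp h')
    · exact hF (Subgroup.eq_top_of_card_eq _ (by rw [e, h9]; norm_num))
  have h4 : 4 ∣ orderOf w := by
    have hne1 : orderOf w ≠ 1 := fun e => hww (by rw [orderOf_eq_one_iff.mp e, one_mul])
    obtain ⟨r, hr, hrd⟩ := Nat.exists_prime_and_dvd hne1
    rw [h2 r hr hrd] at hrd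
    obtain ⟨m, hm⟩ := hrd
    have hm1 : m ≠ 1 := fun e => hww (by rw [← pow_two, ← orderOf_dvd_iff_pow_eq_one, hm, e])
    obtain ⟨r', hr', hrd'⟩ := Nat.exists_prime_and_dvd hm1
    rw [h2 r' hr' (hrd'.trans (hm ▸ dvd_mul_left m 2))] at hrd'
    rw [hm]; exact mul_dvd_mul_left 2 hrd'
  set u : MulAut A := w ^ (orderOf w / 4) with hu
  have hu4 : orderOf u = 4 := orderOf_pow_orderOf_div (orderOf_pos w).ne' h4
  have huW : u ∈ W := pow_mem hw _
  set v := u * u with hv
  have hv1 : v ≠ 1 := fun e => by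
    have := orderOf_dvd_of_pow_eq_one (x := u) (n := 2) (by rw [pow_two]; exact e)
    rw [hu4] at this; norm_num at this
  have hvv : v * v = 1 := by
    have := pow_orderOf_eq_one u
    rw [hu4] at this
    rw [hv, ← this, pow_succ, pow_succ, pow_succ, pow_one]; group
  have huv : ∀ x, u (v x) = v (u x) := fun x => rfl
  by_cases hfix : ∃ a, a ≠ 1 ∧ v a = a
  · obtain ⟨a, ha1, ha⟩ := hfix
    obtain ⟨hF, hD, b, hb1, hb⟩ := split_involution h9 hv1 hvv ha1 ha
    have hua : u a = a ∨ u a = a⁻¹ :=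
      eq_or_inv_of_card_three hF (x := a) ha
        (show v (u a) = u a by rw [← huv, ha]) ha1 ((map_ne_one_iff u u.injective).mpr ha1)
    have hub : u b = b ∨ u b = b⁻¹ :=
      eq_or_inv_of_card_three hD (x := b) hb
        (show v (u b) = (u b)⁻¹ by rw [← huv, hb, map_inv]) hb1 ((map_ne_one_iff u u.injective).mpr hb1)
    have hvb : v b = b := by
      show u (u b) = b
      rcases hub with e | e
      · rw [e, e]
      · rw [e, map_inv, e, inv_inv]
    exact ne_inv h9 hb1 (hvb.symm.trans hb)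
  · push Not at hfix
    have hinv : ∀ x, v x = x⁻¹ := fun x => by
      have h1 : v (x * v x) = x * v x := by
        have : v (v x) = x := by simpa using DFunLike.congr_fun hvv x
        rw [map_mul, this, mul_comm]
      by_contra hc
      exact hfix _ (fun e => hc (eq_inv_of_mul_eq_one_right e)) h1
    obtain ⟨x, y, z, hx, hy, hz, hxy, hxz, hyz⟩ := horb
    haveI := Fintype.ofFinite A
    let S : A → Finset A := fun x => {x, u x, v x, u (v x)}
    have hS : ∀ x, x ≠ 1 → (S x).card = 4 ∧ S x ⊆ Finset.univ.erase 1 (α := A) := by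
      intro x hx
      have hux : u x ≠ x := fun e => by
        have : v x = x := by show u (u x) = x; rw [e, e]
        exact hfix x hx this
      have hux' : u x ≠ x⁻¹ := fun e => by
        have : v x = x := by show u (u x) = x; rw [e, map_inv, e, inv_inv]
        exact hfix x hx this
      have hne := ne_inv h9 hx
      have hux1 : u x ≠ 1 := (map_ne_one_iff u u.injective).mpr hx
      have hne' := ne_inv h9 hux1
      refine ⟨?_, ?_⟩
      · simp only [S, hinv, map_inv]
        rw [Finset.card_eq_four]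
        exact ⟨x, u x, x⁻¹, (u x)⁻¹, fun e => hux e.symm, hne,
          fun e => hux' (inv_eq_iff_eq_inv.mp e.symm), hux', hne', fun e => hux (inv_injective e).symm, rfl⟩
      · intro t ht
        simp only [S, Finset.mem_insert, Finset.mem_singleton, hinv, map_inv] at ht
        rcases ht with rfl | rfl | rfl | rfl <;> simp [hx, hux1]
    have hrel : ∀ x t : A, t ∈ S x → ∃ g ∈ W, g x = t := by
      intro x t ht
      simp only [S, Finset.mem_insert, Finset.mem_singleton] at ht
      rcases ht with rfl | rfl | rfl | rfl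
      · exact ⟨1, one_mem W, rfl⟩
      · exact ⟨u, huW, rfl⟩
      · exact ⟨v, mul_mem huW huW, rfl⟩
      · exact ⟨u * v, mul_mem huW (mul_mem huW huW), rfl⟩
    have hdis : ∀ x y : A, (∀ g ∈ W, g x ≠ y) → Disjoint (S x) (S y) := by
      intro x y h
      rw [Finset.disjoint_left]
      intro t ht ht'
      obtain ⟨g, hg, e⟩ := hrel x t ht
      obtain ⟨g', hg', e'⟩ := hrel y t ht'
      refine h (g'⁻¹ * g) (mul_mem (inv_mem hg') hg) ?_
      rw [MulAut.mul_apply, e, ← e', MulAut.inv_apply_self]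
    have hle : (S x ∪ S y ∪ S z).card ≤ (Finset.univ.erase (1 : A)).card :=
      Finset.card_le_card (Finset.union_subset (Finset.union_subset (hS x hx).2 (hS y hy).2) (hS z hz).2)
    rw [Finset.card_union_of_disjoint (Finset.disjoint_union_left.mpr ⟨hdis x z hxz, hdis y z hyz⟩),
      Finset.card_union_of_disjoint (hdis x y hxy), (hS x hx).1, (hS y hy).1, (hS z hz).1,
      Finset.card_erase_of_mem (Finset.mem_univ _), Finset.card_univ, ← Nat.card_eq_fintype_card,
      h9] at hle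
    omega

/-- The two possibilities. -/
theorem dichotomy (hfix : ∀ a : A, (∀ w ∈ W, w a = a) → a = 1) :
    (∀ w ∈ W, w = 1 ∨ ∀ x, w x = x⁻¹) ∨
    (∃ (a b : A) (w₁ w₂ : MulAut A), a ≠ 1 ∧ b ≠ 1 ∧ w₁ ∈ W ∧ w₂ ∈ W ∧
      w₁ a = a ∧ w₁ b = b⁻¹ ∧ w₂ a = a⁻¹ ∧ w₂ b = b ∧
      (∀ y, ∃ i j : ℤ, y = a ^ i * b ^ j) ∧
      ∀ w ∈ W, (w a = a ∨ w a = a⁻¹) ∧ (w b = b ∨ w b = b⁻¹)) := by
  have hinvol : ∀ w ∈ W, w * w = 1 := fun w hw => mul_self_eq_one h9 W h3 horb hw
  by_cases h : ∀ w ∈ W, w = 1 ∨ ∀ a, w a = a → a = 1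
  · refine Or.inl fun w hw => (h w hw).imp_right fun hw' x => ?_
    have : w (w x) = x := by simpa using DFunLike.congr_fun (hinvol w hw) x
    have h1 : w (x * w x) = x * w x := by rw [map_mul, this, mul_comm]
    exact eq_inv_of_mul_eq_one_right (hw' _ h1)
  push Not at h
  obtain ⟨w₁, hw₁, hne, a, ha, ha1⟩ := h
  obtain ⟨hF, hD, b, hb1, hb⟩ := split_involution h9 hne (hinvol w₁ hw₁) ha1 ha
  have hcomm : ∀ w ∈ W, ∀ x, w₁ (w x) = w (w₁ x) := fun w hw x => by
    have e := hinvol (w₁ * w) (mul_mem hw₁ hw)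
    have e1 := inv_eq_of_mul_eq_one_right (hinvol w₁ hw₁)
    have e2 := inv_eq_of_mul_eq_one_right (hinvol w hw)
    have e' : w₁ * w = w * w₁ := by
      have h' := inv_eq_of_mul_eq_one_right e
      rw [mul_inv_rev, e1, e2] at h'
      exact h'.symm
    exact DFunLike.congr_fun e' x
  have hdiag : ∀ w ∈ W, (w a = a ∨ w a = a⁻¹) ∧ (w b = b ∨ w b = b⁻¹) := fun w hw =>
    ⟨eq_or_inv_of_card_three hF (x := a) ha (show w₁ (w a) = w a by rw [hcomm w hw, ha]) ha1
        ((map_ne_one_iff w w.injective).mpr ha1),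
      eq_or_inv_of_card_three hD (x := b) hb (show w₁ (w b) = (w b)⁻¹ by rw [hcomm w hw, hb, map_inv])
        hb1 ((map_ne_one_iff w w.injective).mpr hb1)⟩
  obtain ⟨w', hw', hwa⟩ : ∃ w ∈ W, w a ≠ a := by
    by_contra hc
    push Not at hc
    exact ha1 (hfix a hc)
  have ha' := ((hdiag w' hw').1).resolve_left hwa
  refine Or.inr ⟨a, b, w₁, ?_⟩
  rcases (hdiag w' hw').2 with e | e
  · exact ⟨w', ha1, hb1, hw₁, hw', ha, hb, ha', e, span_eq h9 ha1 hb1 ha hb, hdiag⟩
  · exact ⟨w₁ * w', ha1, hb1, hw₁, mul_mem hw₁ hw', ha, hb,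
      by rw [MulAut.mul_apply, ha', map_inv, ha],
      by rw [MulAut.mul_apply, e, map_inv, hb, inv_inv], span_eq h9 ha1 hb1 ha hb, hdiag⟩

end CfsgLib.NineTwoPrimes
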