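import Cfsg.Agent.Lib.NineTwoPrimes.Arith
import Cfsg.Agent.Lib.BrauerTuan.Data
import Cfsg.Agent.Lib.BrauerTuan.SelfCentralizing
import Cfsg.Agent.Lib.Char.Kernel

/-!
Simple groups of order `9 * 2 ^ a * q ^ b`: character degrees, the exponent of `q` and the range
of `q`.
-/

set_option autoImplicit false
set_option linter.style.haveILetI false
set_option linter.unusedSectionVars false

namespace CfsgLib.NineTwoPrimes

open Cfsg CfsgLib
open scoped ComplexConjugate CfsgLib.Char

universe u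

variable {G : Type u} [Group G] [Fintype G]

/-- The value of an irreducible character at a central element is not zero. -/
theorem value_central_ne_zero {H : Type*} [Group H] [Fintype H] (ξ : IrrCharacter H) {z : H}
    (hz : z ∈ Subgroup.center H) : (ξ : H → ℂ) z ≠ 0 := by
  classical
  obtain ⟨n, ρ, hρ, e⟩ := ξ.2
  have hc : Char.classSum ρ z = ρ z := by
    rw [Char.classSum]
    refine Finset.sum_eq_single_of_mem z (Finset.mem_filter.mpr ⟨Finset.mem_univ _, IsConj.refl z⟩)
      fun x hx hxz => ?_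
    obtain ⟨c, hc⟩ := isConj_iff.mp (Finset.mem_filter.mp hx).2
    exfalso
    refine hxz ?_
    have h1 : c * x = z * c := by rw [← hc]; group
    rw [← Subgroup.mem_center_iff.mp hz c] at h1
    exact mul_left_cancel h1
  intro h0
  have h1 := Char.classSum_eq_omega ρ z
  rw [hc, Char.omega, show ρ.character z = 0 by rw [e]; exact h0, mul_zero, zero_div, zero_smul] at h1
  have h2 : (LinearMap.id : (Fin n → ℂ) →ₗ[ℂ] (Fin n → ℂ)) = 0 := by
    rw [← Module.End.one_eq_id, ← map_one ρ, ← mul_inv_cancel z, map_mul, h1, zero_mul]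
  have hd : (Fin n → ℂ) → False := fun _ => by
    have h3 := congrArg (LinearMap.trace ℂ (Fin n → ℂ)) h2
    rw [LinearMap.trace_id, map_zero, Nat.cast_eq_zero] at h3
    exact (Char.finrank_pos_of_irreducible ρ).ne' h3
  exact hd 0

/-- The data: the group is simple of order `9 * 2 ^ a * q ^ b`. -/
structure Ctx (G : Type u) [Group G] (q a b : ℕ) : Prop where
  simple : IsSimpleGroup G
  nonab : ¬ IsMulCommutative G
  hq : q.Prime
  hq2 : q ≠ 2
  hq3 : q ≠ 3
  hcard : Nat.card G = 9 * 2 ^ a * q ^ b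

variable {q a b : ℕ}

theorem Ctx.five_le (C : Ctx G q a b) : 5 ≤ q := by
  have := C.hq.two_le
  have h2 := C.hq2
  have h3 := C.hq3
  rcases Nat.lt_or_ge q 5 with h | h
  · interval_cases q <;> norm_num at *
    exact absurd C.hq (by norm_num)
  · exact h

theorem Ctx.not_cyclic (C : Ctx G q a b) : ¬ IsCyclic G := fun h =>
  C.nonab ⟨⟨fun x y => by haveI := h; exact (IsCyclic.commGroup (α := G)).mul_comm x y⟩⟩

theorem Ctx.degree_dvd (C : Ctx G q a b) (χ : IrrCharacter G) :
    charDegree (χ : G → ℂ) ∣ 9 * 2 ^ a * q ^ b := by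
  obtain ⟨n, hn, -, hd⟩ := Char.exists_degree_dvd_card χ.2
  rw [BrauerReynolds.value_one, Nat.cast_inj] at hn
  rw [← C.hcard, hn]; exact hd

theorem Ctx.two_le_degree (C : Ctx G q a b) {χ : IrrCharacter G} (hχ : χ ≠ Blocks.trivIrr G) :
    2 ≤ charDegree (χ : G → ℂ) := by
  haveI := C.simple
  exact BrauerReynolds.one_lt_degree_of_simple C.nonab hχ

/-- A degree prime to three. -/
theorem Ctx.degree_shape (C : Ctx G q a b) (χ : IrrCharacter G) (h3 : ¬ 3 ∣ charDegree (χ : G → ℂ)) :
    ∃ i j, charDegree (χ : G → ℂ) = 2 ^ i * q ^ j := by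
  refine dvd_two_mul_prime (a := a) (b := b) C.hq ?_
  have h : Nat.Coprime (charDegree (χ : G → ℂ)) 9 :=
    ((Nat.prime_three.coprime_iff_not_dvd.mpr h3).symm.pow_right 2)
  refine h.dvd_of_dvd_mul_left ?_
  rw [← mul_assoc]
  exact C.degree_dvd χ

/-- Burnside: an element with a class of size prime to the degree. -/
theorem Ctx.vanish (C : Ctx G q a b) {χ : IrrCharacter G} (hχ : χ ≠ Blocks.trivIrr G) {g : G}
    (hg : g ≠ 1) (hcop : Nat.Coprime (charDegree (χ : G → ℂ)) (Subgroup.centralizer ({g} : Set G)).index) :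
    (χ : G → ℂ) g = 0 := by
  haveI := C.simple
  exact BrauerTuan.eq_zero_of_coprime C.nonab hχ hg hcop

/-- A character of degree `q` bounds the Sylow `q`-subgroup. -/
theorem Ctx.exponent_eq_one (C : Ctx G q a b) {χ : IrrCharacter G}
    (hd : charDegree (χ : G → ℂ) = q) : b = 1 := by
  classical
  haveI := C.simple
  haveI := Fact.mk C.hq
  have hχ : χ ≠ Blocks.trivIrr G := fun e => by
    have h1 := BrauerReynolds.value_one χ
    rw [hd, e] at h1
    have : ((1 : ℕ) : ℂ) = (q : ℂ) := by rw [← h1]; simp [Blocks.trivIrr]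
    exact C.hq.one_lt.ne (Nat.cast_inj.mp this)
  obtain ⟨Q⟩ : Nonempty (Sylow q G) := inferInstance
  haveI := Fintype.ofFinite (Q : Subgroup G)
  have hcQ : Nat.card (Q : Subgroup G) = q ^ b := by
    rw [Q.card_eq_multiplicity, C.hcard, Nat.factorization_mul
      (Nat.mul_ne_zero (by norm_num) (pow_pos two_pos a).ne') (pow_pos C.hq.pos b).ne',
      Finsupp.add_apply, Nat.factorization_eq_zero_of_not_dvd (fun h => ?_), C.hq.factorization_pow,
      Finsupp.single_eq_same, zero_add]
    rcases C.hq.dvd_mul.mp h with h' | h'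
    · exact C.hq3 ((Nat.prime_dvd_prime_iff_eq C.hq Nat.prime_three).mp
        (C.hq.dvd_of_dvd_pow (show q ∣ 3 ^ 2 from h')))
    · exact C.hq2 ((Nat.prime_dvd_prime_iff_eq C.hq Nat.prime_two).mp (C.hq.dvd_of_dvd_pow h'))
  have hb0 : b ≠ 0 := by
    intro hb
    have h := C.degree_dvd χ
    rw [hd, hb, pow_zero, mul_one] at h
    rcases C.hq.dvd_mul.mp h with h' | h'
    · exact C.hq3 ((Nat.prime_dvd_prime_iff_eq C.hq Nat.prime_three).mp
        (C.hq.dvd_of_dvd_pow (show q ∣ 3 ^ 2 from h')))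
    · exact C.hq2 ((Nat.prime_dvd_prime_iff_eq C.hq Nat.prime_two).mp (C.hq.dvd_of_dvd_pow h'))
  have hvan : ∀ z : (Q : Subgroup G), z ∈ Subgroup.center (Q : Subgroup G) → z ≠ 1 →
      (χ : G → ℂ) z = 0 := by
    intro z hz hz1
    refine C.vanish hχ (fun e => hz1 (Subtype.ext e)) ?_
    rw [hd, C.hq.coprime_iff_not_dvd]
    have hle : (Q : Subgroup G) ≤ Subgroup.centralizer ({(z : G)} : Set G) := fun x hx =>
      Subgroup.mem_centralizer_singleton_iff.mpr
        (congrArg Subtype.val (Subgroup.mem_center_iff.mp hz ⟨x, hx⟩))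
    exact fun h => Q.not_dvd_index (h.trans (Subgroup.index_dvd_of_le hle))
  -- the centre has order at most `q`
  set Z := Subgroup.center (Q : Subgroup G)
  have hsum : Nat.card Z ∣ q := by
    obtain ⟨m, hm⟩ := Char.exists_nat_classInner
      (Char.isCharacter_restrict Z (Char.isCharacter_restrict (Q : Subgroup G)
        (Char.isCharacter_of_isIrr χ.2))) (Char.isCharacter_of_isIrr (Blocks.trivIrr Z).2)
    rw [classInner, Finset.sum_eq_single (1 : Z)
      (fun z _ hz => by rw [hvan z z.2 (fun e => hz (Subtype.ext e)), zero_mul])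
      (fun h => absurd (Finset.mem_univ _) h)] at hm
    rw [show ((Blocks.trivIrr Z : IrrCharacter Z) : Z → ℂ) 1 = 1 from rfl] at hm
    simp only [OneMemClass.coe_one, BrauerReynolds.value_one, hd, map_one, mul_one,
      inv_mul_eq_iff_eq_mul₀ (Nat.cast_ne_zero.mpr (Nat.card_pos (α := Z)).ne' : (Nat.card Z : ℂ) ≠ 0)] at hm
    exact ⟨m, by exact_mod_cast hm⟩
  have hZne : Nat.card Z ≠ 1 := by
    haveI : Nontrivial (Q : Subgroup G) := Finite.one_lt_card_iff_nontrivial.mp (by
      rw [hcQ]; exact Nat.one_lt_pow hb0 C.hq.one_lt)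
    haveI := Q.2.center_nontrivial
    exact (Finite.one_lt_card_iff_nontrivial.mpr inferInstance).ne'
  have hZ : Nat.card Z = q := (C.hq.eq_one_or_self_of_dvd _ hsum).resolve_left hZne
  -- the Sylow subgroup is abelian
  obtain ⟨m, hm⟩ := Char.exists_multiplicities
    (Char.isCharacter_restrict (Q : Subgroup G) (Char.isCharacter_of_isIrr χ.2))
  have hm' : ∀ x : (Q : Subgroup G), (χ : G → ℂ) x =
      ∑ ξ : IrrCharacter (Q : Subgroup G), (m ξ : ℂ) * (ξ : ↥(Q : Subgroup G) → ℂ) x := fun x => by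
    have := congrFun hm x
    simpa using this
  have hdeg : (∑ ξ : IrrCharacter (Q : Subgroup G), m ξ * charDegree (ξ : ↥(Q : Subgroup G) → ℂ)) = q := by
    have h := hm' 1
    rw [OneMemClass.coe_one, BrauerReynolds.value_one, hd] at h
    simp only [BrauerReynolds.value_one] at h
    exact_mod_cast h.symm
  have hlin : ∀ ξ : IrrCharacter (Q : Subgroup G), m ξ ≠ 0 →
      charDegree (ξ : ↥(Q : Subgroup G) → ℂ) = 1 := by
    intro ξ hξ
    obtain ⟨d, hd', -, hdd⟩ := Char.exists_degree_dvd_card ξ.2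
    rw [BrauerReynolds.value_one, Nat.cast_inj] at hd'
    rw [hcQ, ← hd'] at hdd
    obtain ⟨i, -, hi⟩ := (Nat.dvd_prime_pow C.hq).mp hdd
    rcases Nat.eq_zero_or_pos i with rfl | hi0
    · rw [hi, pow_zero]
    exfalso
    have hle : m ξ * charDegree (ξ : ↥(Q : Subgroup G) → ℂ) ≤ q := by
      calc _ ≤ _ := Finset.single_le_sum (f := fun η => m η * charDegree (η : ↥(Q : Subgroup G) → ℂ))
            (fun _ _ => Nat.zero_le _) (Finset.mem_univ ξ)
        _ = q := hdeg
    have hge : q ≤ charDegree (ξ : ↥(Q : Subgroup G) → ℂ) := hi ▸ Nat.le_self_pow hi0.ne' q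
    have hmeq : m ξ = 1 ∧ charDegree (ξ : ↥(Q : Subgroup G) → ℂ) = q := by
      have h1 : charDegree (ξ : ↥(Q : Subgroup G) → ℂ) ≤ m ξ * charDegree (ξ : ↥(Q : Subgroup G) → ℂ) :=
        Nat.le_mul_of_pos_left _ (Nat.pos_of_ne_zero hξ)
      have h2 : charDegree (ξ : ↥(Q : Subgroup G) → ℂ) = q := by omega
      rw [h2] at hle
      exact ⟨le_antisymm (Nat.le_of_mul_le_mul_right (by rwa [one_mul]) C.hq.pos)
        (Nat.pos_of_ne_zero hξ), h2⟩
    have hothers : ∀ η, η ≠ ξ → m η = 0 := fun η hη => by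
      have h := hdeg
      rw [← Finset.add_sum_erase _ _ (Finset.mem_univ ξ), hmeq.1, hmeq.2, one_mul, add_eq_left,
        Finset.sum_eq_zero_iff] at h
      exact (Nat.mul_eq_zero.mp (h η (Finset.mem_erase.mpr ⟨hη, Finset.mem_univ _⟩))).resolve_right
        (Blocks.irr_degree_eq η).2.ne'
    obtain ⟨z, hz, hz1⟩ : ∃ z ∈ Z, z ≠ 1 := by
      by_contra hc
      push Not at hc
      exact hZne (Subgroup.card_eq_one.mpr ((Subgroup.eq_bot_iff_forall _).mpr hc))
    refine value_central_ne_zero ξ hz ?_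
    have h := hm' z
    rw [hvan z hz hz1, Finset.sum_eq_single ξ (fun η _ hη => by rw [hothers η hη, Nat.cast_zero, zero_mul])
      (fun h => absurd (Finset.mem_univ _) h), hmeq.1, Nat.cast_one, one_mul] at h
    exact h.symm
  have habel : ∀ x y : (Q : Subgroup G), x * y = y * x := by
    intro x y
    have key : ((x * y * x⁻¹ * y⁻¹ : (Q : Subgroup G)) : G) = 1 := by
      refine BrauerReynolds.faithful_of_simple hχ ?_
      have h1 := hm' (x * y * x⁻¹ * y⁻¹)
      rw [h1, ← OneMemClass.coe_one (Q : Subgroup G), hm' 1]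
      refine Finset.sum_congr rfl fun ξ _ => ?_
      by_cases hξ : m ξ = 0
      · rw [hξ, Nat.cast_zero, zero_mul, zero_mul]
      have hc := Char.isCharacter_of_isIrr ξ.2
      have h1' : (ξ : ↥(Q : Subgroup G) → ℂ) 1 = 1 := by
        rw [BrauerReynolds.value_one, hlin ξ hξ, Nat.cast_one]
      congr 1
      rw [h1', ← Char.linearHom_apply hc h1' (x * y * x⁻¹ * y⁻¹), map_mul, map_mul, map_mul, map_inv,
        map_inv, mul_right_comm (Char.linearHom hc h1' x) (Char.linearHom hc h1' y), mul_inv_cancel,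
        one_mul, mul_inv_cancel, Units.val_one]
    have key' : x * y * x⁻¹ * y⁻¹ = 1 := Subtype.ext key
    rwa [← commutatorElement_def, commutatorElement_eq_one_iff_mul_comm] at key'
  have hZtop : Z = ⊤ := Subgroup.eq_top_iff' _ |>.mpr fun x => Subgroup.mem_center_iff.mpr fun y => habel y x
  rw [hZtop, Subgroup.card_top, hcQ] at hZ
  exact Nat.pow_right_injective C.hq.two_le (hZ.trans (pow_one q).symm)

end CfsgLib.NineTwoPrimes
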