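import Cfsg.Agent.Lib.NineTwoPrimes.Range
import Cfsg.Agent.Lib.Blocks.AbelianFrobeniusSylow
import Cfsg.Agent.Lib.Blocks.BrauerFeit
import Cfsg.Agent.Lib.Char.Eigen

/-!
An abelian Sylow `3`-subgroup of order nine inverted by its normalizer: the six characters of the
principal block and their degrees.
-/

set_option autoImplicit false
set_option linter.style.haveILetI false
set_option linter.unusedSectionVars false

namespace CfsgLib.NineTwoPrimes

open Cfsg CfsgLib Module
open scoped ComplexConjugate CfsgLib.Char IsMulCommutative commutatorElement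

universe u

variable {G : Type u} [Group G] [Fintype G]

/-- The determinant of an involution in a perfect group is one. -/
theorem four_dvd_degree_sub {χ : G → ℂ} (hχ : IsCharacter G χ) (hperf : commutator G = ⊤) {z : G}
    (hz : z * z = 1) {d : ℕ} (hd : χ 1 = d) {c : ℤ} (hc : χ z = c) : (4 : ℤ) ∣ (d : ℤ) - c := by
  classical
  obtain ⟨n, ρ, rfl⟩ := hχ
  obtain ⟨b, μ, -, h2⟩ := Char.exists_eigenBasis ρ z
  have hpm : ∀ i, μ i = 1 ∨ μ i = -1 := fun i => by
    have h := h2 i 2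
    rw [pow_two, hz, map_one, Module.End.one_apply] at h
    have h' : (μ i ^ 2 - 1) • b i = 0 := by rw [sub_smul, one_smul, ← h, sub_self]
    exact sq_eq_one_iff.mp (sub_eq_zero.mp ((smul_eq_zero.mp h').resolve_right (b.ne_zero i)))
  have hdiag : ∀ i, ρ z (b i) = μ i • b i := fun i => by simpa using h2 i 1
  have hdet : LinearMap.det (ρ z) = 1 := by
    let f : G →* ℂˣ := ((LinearMap.det : Module.End ℂ (Fin n → ℂ) →* ℂ).comp ρ).toHomUnits
    have hg : z ∈ f.ker := Abelianization.commutator_subset_ker f (hperf ▸ Subgroup.mem_top z)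
    have := congrArg Units.val (MonoidHom.mem_ker.mp hg)
    simpa [f, MonoidHom.coe_toHomUnits] using this
  have hprod : ∏ i, μ i = 1 := by
    rw [← hdet, ← LinearMap.det_toMatrix b, show LinearMap.toMatrix b b (ρ z) = Matrix.diagonal μ from ?_,
      Matrix.det_diagonal]
    ext i j
    rw [LinearMap.toMatrix_apply, hdiag j, map_smul, b.repr_self, Finsupp.smul_apply, smul_eq_mul,
      Matrix.diagonal_apply]
    by_cases h : i = j
    · subst h; simp
    · simp [h]
  rw [show ρ.character z = ∑ i, μ i from Char.trace_eq_sum_of_diag b _ _ hdiag] at hc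
  rw [Representation.char_one, Nat.cast_inj] at hd
  set N := Finset.univ.filter fun i => μ i = -1
  have hsum : ∑ i, μ i = (d : ℂ) - 2 * N.card := by
    rw [Finset.sum_congr rfl fun i _ => show μ i = 1 - 2 * (if μ i = -1 then (1 : ℂ) else 0) by
      rcases hpm i with h | h <;> rw [h] <;> norm_num,
      Finset.sum_sub_distrib, ← Finset.mul_sum, Finset.sum_boole, Finset.sum_const, Finset.card_univ,
      Fintype.card_fin, nsmul_one]
    rw [show ((finrank ℂ (Fin n → ℂ) : ℕ) : ℂ) = (d : ℂ) from congrArg Nat.cast hd]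
  have hev : (-1 : ℂ) ^ N.card = 1 := by
    refine Eq.trans ?_ hprod
    rw [← Finset.prod_const, ← Finset.prod_filter_mul_prod_filter_not Finset.univ (fun i => μ i = -1) μ,
      Finset.prod_congr (s₁ := Finset.univ.filter fun i => ¬ μ i = -1) rfl (g := fun _ => (1 : ℂ))
        fun i hi => (hpm i).resolve_right (Finset.mem_filter.mp hi).2,
      Finset.prod_const_one, mul_one]
    refine Finset.prod_congr rfl fun i hi => ?_
    exact (Finset.mem_filter.mp hi).2.symm
  obtain ⟨j, hj⟩ : Even N.card := by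
    rcases Nat.even_or_odd N.card with h | h
    · exact h
    · rw [h.neg_one_pow] at hev; norm_num at hev
  have hc' : (c : ℂ) = (((d : ℤ) - 2 * N.card : ℤ) : ℂ) := by rw [← hc, hsum]; push_cast; ring
  exact ⟨j, by rw [Int.cast_inj.mp hc', hj]; push_cast; ring⟩

theorem commutator_eq_top (hS : IsSimpleGroup G) (hG : ¬ IsMulCommutative G) : commutator G = ⊤ :=
  (Subgroup.Normal.eq_bot_or_eq_top (inferInstance : (commutator G).Normal)).resolve_left fun h =>
    hG ⟨⟨fun x y => by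
      have : ⁅x, y⁆ ∈ commutator G := Subgroup.commutator_mem_commutator (Subgroup.mem_top x) (Subgroup.mem_top y)
      rw [h, Subgroup.mem_bot] at this
      exact commutatorElement_eq_one_iff_mul_comm.mp this⟩⟩

/-- The normalizer of `P` induces exactly the inversion. -/
structure Inverted (P : Sylow 3 G) : Prop where
  comm : IsMulCommutative (P : Subgroup G)
  card : Nat.card (P : Subgroup G) = 9
  dich : ∀ w ∈ Blocks.AbelianFrob.autG P, w = 1 ∨ ∀ x : (P : Subgroup G), w x = x⁻¹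
  inv : ∃ w ∈ Blocks.AbelianFrob.autG P, ∀ x : (P : Subgroup G), w x = x⁻¹

namespace Inverted

variable {P : Sylow 3 G}

theorem coe_inv_ne (H : Inverted P) {x : (P : Subgroup G)} (hx : x ≠ 1) : x⁻¹ ≠ x := by
  intro e
  have h2 : x ^ 2 = 1 := by rw [pow_two]; exact mul_eq_one_iff_eq_inv.mpr e.symm
  have h9 : x ^ 9 = 1 := by rw [← H.card]; exact pow_card_eq_one'
  exact hx (by simpa using (pow_gcd_eq_one (m := 2) (n := 9)).mpr ⟨h2, h9⟩)

theorem nontrivial (H : Inverted P) : ∃ x : (P : Subgroup G), x ≠ 1 := by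
  by_contra hc
  push Not at hc
  have h1 : Nat.card (P : Subgroup G) = 1 :=
    Nat.card_eq_one_iff_unique.mpr ⟨⟨fun x y => by rw [hc x, hc y]⟩, ⟨1⟩⟩
  rw [H.card] at h1
  norm_num at h1

theorem isFrob (H : Inverted P) : Blocks.AbelianFrob.IsFrob P := by
  intro y hy hy1
  refine le_antisymm ?_ (le_inf (Subgroup.centralizer_le (Set.singleton_subset_iff.mpr hy)) ?_)
  · rintro n ⟨hnC, hnN⟩
    rw [show n = ((⟨n, hnN⟩ : Subgroup.normalizer ((P : Subgroup G) : Set G)) : G) from rfl,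
      ← Subgroup.mem_subgroupOf, ← Subgroup.normalizerMonoidHom_ker, MonoidHom.mem_ker]
    rcases H.dich _ ⟨⟨n, hnN⟩, rfl⟩ with h | h
    · exact h
    exfalso
    refine H.coe_inv_ne (x := ⟨y, hy⟩) (fun e => hy1 (congrArg Subtype.val e)) ?_
    rw [← h]
    refine Subtype.ext ?_
    show n * y * n⁻¹ = y
    rw [Subgroup.mem_centralizer_singleton_iff.mp hnC, mul_inv_cancel_right]
  · intro x hx
    rw [Subgroup.mem_normalizer_iff]
    intro z
    constructor
    · intro hz
      rw [← Subgroup.mem_centralizer_iff.mp hx z hz, mul_inv_cancel_right]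
      exact hz
    · intro hz
      have e := Subgroup.mem_centralizer_iff.mp hx _ hz
      have e' : z = x * z * x⁻¹ := by
        have e2 := congrArg (fun t => x⁻¹ * t) e
        simp only [← mul_assoc, inv_mul_cancel, one_mul, inv_mul_cancel_right] at e2
        exact e2
      rw [e']
      exact hz

theorem card_autG (H : Inverted P) : Nat.card (Blocks.AbelianFrob.autG P) = 2 := by
  obtain ⟨v, hv, hvx⟩ := H.inv
  obtain ⟨x₀, hx₀⟩ := H.nontrivial
  have hne : v ≠ 1 := fun e => H.coe_inv_ne hx₀ (by rw [← hvx, e, MulAut.one_apply])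
  refine Nat.card_eq_two_iff.mpr ⟨1, ⟨v, hv⟩, fun e => hne (congrArg Subtype.val e).symm, ?_⟩
  ext ⟨w, hw⟩
  simp only [Set.mem_insert_iff, Set.mem_singleton_iff, Set.mem_univ, iff_true]
  rcases H.dich w hw with h | h
  · exact Or.inl (Subtype.ext h)
  · exact Or.inr (Subtype.ext (MulEquiv.ext fun x => by rw [h, hvx]))

theorem card_orb (H : Inverted P) : Nat.card (Blocks.AbelianFrob.Orb P) = 4 := by
  have h := Blocks.AbelianFrob.card_orb_mul P H.comm H.isFrob
  rw [H.card_autG, H.card] at h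
  omega

theorem orbSum_eq (H : Inverted P) {ψ : (P : Subgroup G) →* ℂˣ} (hψ : ψ ≠ 1) (y : (P : Subgroup G)) :
    Blocks.AbelianFrob.orbSum P ψ y = ((ψ y : ℂˣ) : ℂ) + ((ψ y⁻¹ : ℂˣ) : ℂ) := by
  classical
  haveI := Fintype.ofFinite (Blocks.AbelianFrob.autG P)
  rw [Blocks.AbelianFrob.orbSum_eq P H.comm H.isFrob hψ y]
  obtain ⟨v, hv, hvx⟩ := H.inv
  obtain ⟨x₀, hx₀⟩ := H.nontrivial
  have hne : (1 : Blocks.AbelianFrob.autG P) ≠ ⟨v, hv⟩ := fun e =>
    H.coe_inv_ne hx₀ (by rw [← hvx, ← show (1 : MulAut (P : Subgroup G)) = v from congrArg Subtype.val e, MulAut.one_apply])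
  rw [show (Finset.univ : Finset (Blocks.AbelianFrob.autG P)) = {1, ⟨v, hv⟩} from
    (Finset.eq_univ_of_card _ (by
      rw [Finset.card_pair hne, ← Nat.card_eq_fintype_card, H.card_autG])).symm, Finset.sum_pair hne]
  simp [hvx]

end Inverted

/-- The values of the six characters. -/
theorem exists_six (P : Sylow 3 G) (H : Inverted P) :
    ∃ (χ : IrrCharacter G) (ε δ : ℤ) (θ : ((P : Subgroup G) →* ℂˣ) → IrrCharacter G),
      (ε = 1 ∨ ε = -1) ∧ (δ = 1 ∨ δ = -1) ∧ χ ≠ Blocks.trivIrr G ∧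
      (∀ ψ, ψ ≠ 1 → θ ψ ≠ Blocks.trivIrr G) ∧
      (∀ (z : G) (y : (P : Subgroup G)), IsPPart 3 z (y : G) → (y : G) ≠ 1 → (χ : G → ℂ) z = ε) ∧
      (∀ ψ, ψ ≠ 1 → ∀ (z : G) (y : (P : Subgroup G)), IsPPart 3 z (y : G) → (y : G) ≠ 1 →
        (θ ψ : G → ℂ) z = (δ : ℂ) * (((ψ y : ℂˣ) : ℂ) + ((ψ y⁻¹ : ℂˣ) : ℂ))) ∧
      (∀ ψ, ψ ≠ 1 → ∀ g, ¬ 3 ∣ orderOf g →
        1 + (ε : ℂ) * (χ : G → ℂ) g - (δ : ℂ) * (θ ψ : G → ℂ) g = 0) := by
  classical
  haveI : Fact (Nat.Prime 3) := ⟨Nat.prime_three⟩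
  obtain ⟨M, hM⟩ := Blocks.exists_isPModular Nat.prime_three
  haveI := H.comm
  have hfrob := H.isFrob
  have h2 : 2 ≤ Nat.card (Blocks.AbelianFrob.Orb P) := by rw [H.card_orb]; norm_num
  obtain ⟨D⟩ := Blocks.AbelianFrob.exists_data P hM H.comm hfrob h2
  obtain ⟨h1X, h1a⟩ := Blocks.AbelianFrob.one_mem_X hM H.comm hfrob D h2 (χ := Blocks.trivIrr G) rfl
  have hsq := Blocks.AbelianFrob.sum_sq hM H.comm hfrob D h2
  rw [H.card_orb, H.card_autG] at hsq
  have hT : Blocks.trivIrr G ∈ Finset.univ.filter fun χ : IrrCharacter G => χ ∈ D.X :=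
    Finset.mem_filter.mpr ⟨Finset.mem_univ _, h1X⟩
  rw [← Finset.add_sum_erase _ _ hT, h1a] at hsq
  set R := (Finset.univ.filter fun χ : IrrCharacter G => χ ∈ D.X).erase (Blocks.trivIrr G)
  set T : ℤ := ∑ χ ∈ R, D.a h2 χ ^ 2
  have hT0 : 0 ≤ T := Finset.sum_nonneg fun χ _ => sq_nonneg _
  have hk : D.k = 0 := by
    push_cast at hsq
    by_contra hk0
    have h1 : 1 ≤ D.k ^ 2 := by have : 0 < D.k ^ 2 := by positivity
                                omega
    have h0 := sq_nonneg (D.k - D.δ)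
    nlinarith
  have hT1 : T = 1 := by
    rw [hk] at hsq
    push_cast at hsq
    rcases D.sign with h | h <;> rw [h] at hsq <;> linarith
  have hmem : ∀ χ ∈ R, χ ∈ D.X := fun χ hχ => (Finset.mem_filter.mp (Finset.mem_of_mem_erase hχ)).2
  have hge : ∀ χ ∈ R, 1 ≤ D.a h2 χ ^ 2 := fun χ hχ => by
    have := Blocks.AbelianFrob.a_ne_zero hM H.comm hfrob D h2 (hmem χ hχ)
    have : 0 < D.a h2 χ ^ 2 := by positivity
    omega
  obtain ⟨χ, hχ⟩ : R.Nonempty := by
    by_contra h
    rw [Finset.not_nonempty_iff_eq_empty] at h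
    simp [T, h] at hT1
  have hRχ : R = {χ} := by
    refine Finset.eq_singleton_iff_unique_mem.mpr ⟨hχ, fun η hη => ?_⟩
    by_contra hne
    have h : D.a h2 χ ^ 2 + D.a h2 η ^ 2 ≤ T := by
      rw [← Finset.sum_pair (f := fun x => D.a h2 x ^ 2) (Ne.symm hne)]
      refine Finset.sum_le_sum_of_subset_of_nonneg (fun x hx => ?_) fun x _ _ => sq_nonneg _
      rcases Finset.mem_insert.mp hx with rfl | hx
      · exact hχ
      · exact Finset.mem_singleton.mp hx ▸ hη
    have := hge χ hχ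
    have := hge η hη
    omega
  have ha : D.a h2 χ = 1 ∨ D.a h2 χ = -1 := sq_eq_one_iff.mp (by simpa [T, hRχ] using hT1)
  haveI := Fintype.ofFinite (Blocks.AbelianFrob.Orb P)
  haveI := Fintype.ofFinite (P : Subgroup G)
  haveI := Blocks.AbelianFrob.finite_hom (A := (P : Subgroup G)) fun a b => mul_comm' (a := a) (b := b)
  haveI := Fintype.ofFinite ((P : Subgroup G) →* ℂˣ)
  refine ⟨χ, D.a h2 χ, D.δ, fun ψ => D.ζ ψ, ha, D.sign, (Finset.mem_erase.mp hχ).1, fun ψ hψ => ?_,
    fun z y hz hy => ?_, fun ψ hψ z y hz hy => ?_, fun ψ hψ g hg => ?_⟩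
  · obtain ⟨o, ho⟩ := (Blocks.AbelianFrob.zeta_props hM H.comm hfrob D h2).1 ψ hψ
    exact fun e => h1X.2 ⟨o, ho.trans e⟩
  · rw [Blocks.AbelianFrob.value_section P hM H.comm hfrob (hmem χ hχ).1 hz y.2 hy]
    exact Blocks.AbelianFrob.value_X hM H.comm hfrob D h2 (hmem χ hχ) fun e => hy (congrArg Subtype.val e)
  · simp only [Blocks.AbelianFrob.Data.ζ, dif_pos hψ]
    rw [Blocks.AbelianFrob.value_section P hM H.comm hfrob (D.mem _) hz y.2 hy,
      Blocks.AbelianFrob.value_Y hM H.comm hfrob D h2 hψ fun e => hy (congrArg Subtype.val e),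
      H.orbSum_eq hψ y, hk, Int.cast_zero, zero_add]
  · simp only [Blocks.AbelianFrob.Data.ζ, dif_pos hψ]
    have h := Blocks.AbelianFrob.regular_relation hM H.comm hfrob D h2
      (Quotient.mk (Blocks.AbelianFrob.orbSetoid P) ⟨ψ, hψ⟩) hg
    rw [hk, ← Finset.add_sum_erase _ _ hT, h1a,
      show (Finset.univ.filter fun χ : IrrCharacter G => χ ∈ D.X).erase (Blocks.trivIrr G) = {χ} from hRχ,
      Finset.sum_singleton, show ((Blocks.trivIrr G : IrrCharacter G) : G → ℂ) g = 1 from rfl] at h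
    push_cast at h
    linear_combination h

end CfsgLib.NineTwoPrimes
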