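import Cfsg.Agent.Lib.NineTwoPrimes.FrobPairs
import Cfsg.Agent.Lib.NineTwoPrimes.Auto

/-!
The order of a simple group of order `9 * 2 ^ a * q` with an inverted Sylow `3`-subgroup.
-/

set_option autoImplicit false
set_option linter.style.haveILetI false
set_option linter.unusedSectionVars false

namespace CfsgLib.NineTwoPrimes

open Cfsg CfsgLib
open scoped ComplexConjugate CfsgLib.Char IsMulCommutative

universe u

variable {G : Type u} [Group G] [Fintype G] {q a k d : ℕ}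

open scoped _root_.Classical in
/-- The `3`-regular elements centralizing `y`. -/
noncomputable def regCent (y : G) : Finset G :=
  Finset.univ.filter fun c => c ∈ Subgroup.centralizer ({y} : Set G) ∧ ¬ 3 ∣ orderOf c

theorem mem_regCent {y c : G} :
    c ∈ regCent y ↔ c ∈ Subgroup.centralizer ({y} : Set G) ∧ ¬ 3 ∣ orderOf c := by
  simp [regCent]

open scoped _root_.Classical in
/-- The conjugates `u` of `t` inverting `y` with `u₀ * u` regular. -/
noncomputable def fibre (t u₀ y : G) : Finset G :=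
  (classFinset t).filter fun u => u₀ * u ∈ regCent y

theorem mem_fibre {t u₀ y u : G} : u ∈ fibre t u₀ y ↔ u ∈ classFinset t ∧ u₀ * u ∈ regCent y := by
  simp [fibre]

/-- The ratio attached to `y`. -/
noncomputable def ratio (t u₀ y : G) : ℚ :=
  ((fibre t u₀ y).card : ℚ) ^ 2 / ((regCent y).card : ℚ)

theorem regCent_inv (y : G) : regCent y⁻¹ = regCent y := by
  ext c
  rw [mem_regCent, mem_regCent, Subgroup.mem_centralizer_singleton_iff,
    Subgroup.mem_centralizer_singleton_iff]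
  exact and_congr_left' ⟨fun h => by simpa using (show Commute c y⁻¹ from h).inv_right.eq,
    fun h => (show Commute c y from h).inv_right.eq⟩

theorem fibre_inv (t u₀ y : G) : fibre t u₀ y⁻¹ = fibre t u₀ y := by
  ext u
  rw [mem_fibre, mem_fibre, regCent_inv]

theorem ratio_inv (t u₀ y : G) : ratio t u₀ y⁻¹ = ratio t u₀ y := by
  rw [ratio, ratio, fibre_inv, regCent_inv]

theorem regCent_card_pos (y : G) : 0 < (regCent y).card :=
  Finset.card_pos.mpr ⟨1, mem_regCent.mpr ⟨one_mem _, by rw [orderOf_one]; norm_num⟩⟩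

namespace Setup

/-- An involution inverting the Sylow subgroup. -/
theorem exists_inversion (T : Setup G q a k d) :
    ∃ u₀ : G, u₀ * u₀ = 1 ∧ ∀ x ∈ (T.P : Subgroup G), u₀ * x * u₀⁻¹ = x⁻¹ := by
  obtain ⟨v, ⟨⟨n, hn⟩, rfl⟩, hv⟩ := T.inv.inv
  have hx : ∀ x ∈ (T.P : Subgroup G), n * x * n⁻¹ = x⁻¹ := fun x hx =>
    congrArg Subtype.val (hv ⟨x, hx⟩)
  have hn2 : n * n ∈ (T.P : Subgroup G) := by
    rw [← T.selfCent, Subgroup.mem_centralizer_iff]
    intro x hxP
    have e : n * n * x * (n * n)⁻¹ = x := by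
      calc n * n * x * (n * n)⁻¹ = n * (n * x * n⁻¹) * n⁻¹ := by group
        _ = n * x⁻¹ * n⁻¹ := by rw [hx x hxP]
        _ = (n * x * n⁻¹)⁻¹ := by group
        _ = x := by rw [hx x hxP, inv_inv]
    exact (mul_inv_eq_iff_eq_mul.mp e).symm
  have h9 : (n * n) ^ 9 = 1 := by
    have h := congrArg Subtype.val (pow_card_eq_one' (x := (⟨n * n, hn2⟩ : (T.P : Subgroup G))))
    rw [T.inv.card] at h
    simpa using h
  refine ⟨n * (n * n) ^ 4, ?_, fun x hxP => ?_⟩
  · calc n * (n * n) ^ 4 * (n * (n * n) ^ 4) = (n * n) ^ 9 := by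
          simp only [← pow_two, ← pow_mul, ← pow_succ']
      _ = 1 := h9
  · have hc : (n * n) ^ 4 * x = x * (n * n) ^ 4 :=
      congrArg Subtype.val (T.inv.comm.is_comm.comm
        (⟨(n * n) ^ 4, pow_mem hn2 4⟩ : (T.P : Subgroup G)) ⟨x, hxP⟩)
    calc n * (n * n) ^ 4 * x * (n * (n * n) ^ 4)⁻¹ = n * ((n * n) ^ 4 * x) * ((n * n) ^ 4)⁻¹ * n⁻¹ := by group
      _ = n * x * n⁻¹ := by rw [hc]; group
      _ = x⁻¹ := hx x hxP

theorem le_centralizer (T : Setup G q a k d) {y : G} (hy : y ∈ (T.P : Subgroup G)) :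
    (T.P : Subgroup G) ≤ Subgroup.centralizer ({y} : Set G) :=
  Blocks.AbelianFrob.le_centralizer_singleton T.P T.inv.comm hy

/-- The projection of a centralizer on the Sylow subgroup. -/
theorem exists_proj (T : Setup G q a k d) {y : G} (hy : y ∈ (T.P : Subgroup G)) (hy1 : y ≠ 1) :
    ∃ π : Subgroup.centralizer ({y} : Set G) →* (T.P : Subgroup G),
      (∀ p : (T.P : Subgroup G), π ⟨p, T.le_centralizer hy p.2⟩ = p) ∧
      ∀ c : Subgroup.centralizer ({y} : Set G), π c = 1 ↔ ¬ 3 ∣ orderOf c := by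
  classical
  haveI : Fact (Nat.Prime 3) := ⟨Nat.prime_three⟩
  haveI := T.inv.comm
  set Q := T.P.subtype (T.le_centralizer hy)
  have hQ := Blocks.AbelianFrob.normalizer_subtype_le T.P T.inv.isFrob hy hy1 (T.le_centralizer hy)
  set κ : ↥(Q : Subgroup (Subgroup.centralizer ({y} : Set G))) ≃* (T.P : Subgroup G) :=
    Subgroup.subgroupOfEquivOfLe (T.le_centralizer hy)
  set f : Subgroup.centralizer ({y} : Set G) →* (T.P : Subgroup G) :=
    κ.toMonoidHom.comp (MonoidHom.transferSylow Q hQ)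
  have hf : ∀ p : (T.P : Subgroup G), f ⟨p, T.le_centralizer hy p.2⟩ =
      p ^ (Q : Subgroup (Subgroup.centralizer ({y} : Set G))).index := fun p => by
    simp only [f, MonoidHom.comp_apply]
    rw [MonoidHom.transferSylow_eq_pow Q hQ _ p.2]
    exact Subtype.ext rfl
  have hco : (Nat.card (T.P : Subgroup G)).Coprime
      (Q : Subgroup (Subgroup.centralizer ({y} : Set G))).index := by
    rw [T.inv.card]
    exact ((Nat.prime_three.coprime_iff_not_dvd.mpr Q.not_dvd_index).pow_left 2 :)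
  set e : (T.P : Subgroup G) ≃* (T.P : Subgroup G) :=
    MulEquiv.ofBijective (powMonoidHom (Q : Subgroup (Subgroup.centralizer ({y} : Set G))).index)
      (powCoprime hco).bijective
  refine ⟨e.symm.toMonoidHom.comp f, fun p => ?_, fun c => ?_⟩
  · show e.symm (f _) = p
    rw [hf]
    exact e.symm_apply_apply p
  · show e.symm (f c) = 1 ↔ _
    rw [MulEquiv.map_eq_one_iff]
    constructor
    · intro hc hd
      have hk : c ∈ (MonoidHom.transferSylow Q hQ).ker :=
        MonoidHom.mem_ker.mpr (κ.injective (by rw [map_one]; exact hc))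
      exact MonoidHom.not_dvd_card_ker_transferSylow Q hQ (hd.trans (Subgroup.orderOf_dvd_natCard _ hk))
    · intro hd
      obtain ⟨j, hj⟩ := IsPGroup.iff_orderOf.mp T.P.2 (f c)
      have h1 := orderOf_map_dvd f c
      rw [hj] at h1
      rw [← orderOf_eq_one_iff, hj]
      rcases Nat.eq_zero_or_pos j with rfl | hj0
      · exact pow_zero 3
      · exact absurd ((dvd_pow_self 3 hj0.ne').trans h1) hd

theorem index_mul_regCent (T : Setup G q a k d) {y : G} (hy : y ∈ (T.P : Subgroup G)) (hy1 : y ≠ 1) :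
    (Subgroup.centralizer ({y} : Set G)).index * (regCent y).card = 2 ^ a * q := by
  classical
  obtain ⟨π, hπ, hker⟩ := T.exists_proj hy hy1
  have hsurj : Function.Surjective π := fun p => ⟨_, hπ p⟩
  have h1 : Nat.card π.ker * 9 = Nat.card (Subgroup.centralizer ({y} : Set G)) := by
    rw [← π.ker.card_mul_index, Subgroup.index_ker, MonoidHom.range_eq_top.mpr hsurj, Subgroup.card_top,
      T.inv.card]
  have h2 : Nat.card π.ker = (regCent y).card := by
    rw [← Fintype.card_coe, ← Nat.card_eq_fintype_card]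
    refine Nat.card_congr ⟨fun c => ⟨((c : Subgroup.centralizer ({y} : Set G)) : G), mem_regCent.mpr
        ⟨(c : Subgroup.centralizer ({y} : Set G)).2, by
          rw [Subgroup.orderOf_coe]; exact (hker _).mp (MonoidHom.mem_ker.mp c.2)⟩⟩,
      fun c => ⟨⟨c, (mem_regCent.mp c.2).1⟩, MonoidHom.mem_ker.mpr ((hker _).mpr (by
          rw [Subgroup.orderOf_mk]; exact (mem_regCent.mp c.2).2))⟩,
      fun c => Subtype.ext (Subtype.ext rfl), fun c => Subtype.ext rfl⟩
  have h3 := (Subgroup.centralizer ({y} : Set G)).card_mul_index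
  rw [← h1, h2, T.ctx.hcard, pow_one] at h3
  refine Nat.eq_of_mul_eq_mul_left (by norm_num : 0 < 9) ?_
  linarith

/-- The fibres and the bound on the regular part. -/
theorem pairCount_eq (T : Setup G q a k d) {t u₀ : G} (ht : orderOf t = 2) (hu₀ : u₀ * u₀ = 1)
    (hinv : ∀ x ∈ (T.P : Subgroup G), u₀ * x * u₀⁻¹ = x⁻¹) {y : G} (hy : y ∈ (T.P : Subgroup G))
    (hy1 : y ≠ 1) :
    pairCount t y = 9 * (fibre t u₀ y).card ^ 2 ∧
      ((fibre t u₀ y).Nonempty → (regCent y).card ≤ (fibre t u₀ y).card ^ 2) := by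
  classical
  haveI : Fact (Nat.Prime 3) := ⟨Nat.prime_three⟩
  haveI := T.inv.comm
  haveI := Fintype.ofFinite (T.P : Subgroup G)
  obtain ⟨π, hπ, hker⟩ := T.exists_proj hy hy1
  have hu₀i : u₀⁻¹ = u₀ := inv_eq_of_mul_eq_one_right hu₀
  have hinvol : ∀ u ∈ classFinset t, u * u = 1 := by
    intro u hu
    obtain ⟨g, rfl⟩ := isConj_iff.mp (mem_classFinset.mp hu).symm
    calc g * t * g⁻¹ * (g * t * g⁻¹) = g * (t * t) * g⁻¹ := by group
      _ = 1 := by rw [← pow_two, ← ht, pow_orderOf_eq_one, mul_one, mul_inv_cancel]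
  let φ : G → (T.P : Subgroup G) := fun u => if h : u₀ * u ∈ (Subgroup.centralizer ({y} : Set G)) then π ⟨u₀ * u, h⟩ else 1
  have hφ : ∀ u (h : u₀ * u ∈ (Subgroup.centralizer ({y} : Set G))), φ u = π ⟨u₀ * u, h⟩ := fun u h => dif_pos h
  have hfib : ∀ u, u ∈ fibre t u₀ y ↔ u ∈ classFinset t ∧ u₀ * u ∈ (Subgroup.centralizer ({y} : Set G)) ∧ φ u = 1 := by
    intro u
    rw [mem_fibre, mem_regCent]
    refine and_congr_right fun _ => ⟨fun h => ⟨h.1, ?_⟩, fun h => ⟨h.1, ?_⟩⟩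
    · rw [hφ u h.1, hker, Subgroup.orderOf_mk]; exact h.2
    · rw [hφ u h.1, hker, Subgroup.orderOf_mk] at h; exact h.2
  have hmove : ∀ (s : (T.P : Subgroup G)) (u : G), u₀ * u ∈ (Subgroup.centralizer ({y} : Set G)) →
      u₀ * ((s : G) * u * (s : G)⁻¹) ∈ (Subgroup.centralizer ({y} : Set G)) ∧ φ ((s : G) * u * (s : G)⁻¹) = s⁻¹ * φ u * s⁻¹ := by
    intro s u hu
    have e : u₀ * ((s : G) * u * (s : G)⁻¹) = (s : G)⁻¹ * (u₀ * u) * (s : G)⁻¹ := by
      calc u₀ * ((s : G) * u * (s : G)⁻¹) = u₀ * s * u₀⁻¹ * (u₀ * u) * (s : G)⁻¹ := by group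
        _ = _ := by rw [hinv s s.2]
    have hs : ((s⁻¹ : (T.P : Subgroup G)) : G) ∈ (Subgroup.centralizer ({y} : Set G)) := T.le_centralizer hy (s⁻¹).2
    have hm : u₀ * ((s : G) * u * (s : G)⁻¹) ∈ (Subgroup.centralizer ({y} : Set G)) := e ▸ mul_mem (mul_mem hs hu) hs
    refine ⟨hm, ?_⟩
    rw [hφ _ hm, hφ u hu, ← hπ s⁻¹, ← map_mul, ← map_mul]
    exact congrArg π (Subtype.ext e)
  have h9 : ∀ p : (T.P : Subgroup G), p ^ 9 = 1 := fun p => by rw [← T.inv.card]; exact pow_card_eq_one'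
  have hshift : ∀ p : (T.P : Subgroup G), (p ^ 4)⁻¹ * (p ^ 4)⁻¹ = p := fun p => by
    rw [← mul_inv, ← pow_add]
    exact inv_eq_of_mul_eq_one_right (by rw [← pow_succ]; exact h9 p)
  -- the pairs
  have hpair : ∀ u ∈ classFinset t, ∀ v ∈ classFinset t, threePart (u * v) = y ↔
      u₀ * u ∈ (Subgroup.centralizer ({y} : Set G)) ∧ u₀ * v ∈ (Subgroup.centralizer ({y} : Set G)) ∧ (φ u)⁻¹ * φ v = ⟨y, hy⟩ := by
    intro u hu v hv
    have hui : u⁻¹ = u := inv_eq_of_mul_eq_one_right (hinvol u hu)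
    have hvi : v⁻¹ = v := inv_eq_of_mul_eq_one_right (hinvol v hv)
    constructor
    · intro h
      obtain ⟨r, hr, hcom, hyo, hro⟩ := h ▸ isPPart_threePart (u * v)
      have hinvpart : IsPPart 3 (u * v)⁻¹ y⁻¹ := by
        refine ⟨r⁻¹, ?_, hcom.inv_inv, by rw [orderOf_inv]; exact hyo, by rw [orderOf_inv]; exact hro⟩
        rw [← mul_inv_rev, ← hcom.eq, hr]
      have hwinv : ∀ w : G, w * (u * v) * w⁻¹ = (u * v)⁻¹ → w * y * w⁻¹ = y⁻¹ := fun w e => by
        have := threePart_conj (u * v) w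
        rw [e, h, threePart_eq hinvpart] at this
        exact this.symm
      have hmem : ∀ w : G, w * y * w⁻¹ = y⁻¹ → u₀ * w ∈ (Subgroup.centralizer ({y} : Set G)) := fun w e => by
        refine Subgroup.mem_centralizer_singleton_iff.mpr (mul_inv_eq_iff_eq_mul.mp ?_)
        calc u₀ * w * y * (u₀ * w)⁻¹ = u₀ * (w * y * w⁻¹) * u₀⁻¹ := by group
          _ = (u₀ * y * u₀⁻¹)⁻¹ := by rw [e]; group
          _ = y := by rw [hinv y hy, inv_inv]
      have hu' := hmem u (hwinv u (by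
        calc u * (u * v) * u⁻¹ = u * u * v * u⁻¹ := by group
          _ = v⁻¹ * u⁻¹ := by rw [hinvol u hu, one_mul, hvi]
          _ = (u * v)⁻¹ := (mul_inv_rev u v).symm))
      have hv' := hmem v (hwinv v (by
        calc v * (u * v) * v⁻¹ = v * u := by group
          _ = v⁻¹ * u⁻¹ := by rw [hui, hvi]
          _ = (u * v)⁻¹ := (mul_inv_rev u v).symm))
      refine ⟨hu', hv', ?_⟩
      rw [hφ u hu', hφ v hv', ← map_inv, ← map_mul]
      have hrC : r ∈ (Subgroup.centralizer ({y} : Set G)) := Subgroup.mem_centralizer_singleton_iff.mpr hcom.symm.eq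
      have hr1 : π ⟨r, hrC⟩ = 1 := (hker _).mpr (by rw [Subgroup.orderOf_mk]; exact hro)
      rw [← hπ ⟨y, hy⟩, ← mul_one (π ⟨y, _⟩), ← hr1, ← map_mul]
      refine congrArg π (Subtype.ext ?_)
      show (u₀ * u)⁻¹ * (u₀ * v) = y * r
      rw [hr, mul_inv_rev, hui, hu₀i]
      calc u * u₀ * (u₀ * v) = u * (u₀ * u₀) * v := by group
        _ = u * v := by rw [hu₀, mul_one]
    · rintro ⟨hu', hv', e⟩
      rw [hφ u hu', hφ v hv', ← map_inv, ← map_mul] at e
      set c : (Subgroup.centralizer ({y} : Set G)) := (⟨u₀ * u, hu'⟩ : (Subgroup.centralizer ({y} : Set G)))⁻¹ * ⟨u₀ * v, hv'⟩ with hc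
      have hcuv : (c : G) = u * v := by
        show (u₀ * u)⁻¹ * (u₀ * v) = u * v
        rw [mul_inv_rev, hui, hu₀i]
        calc u * u₀ * (u₀ * v) = u * (u₀ * u₀) * v := by group
          _ = u * v := by rw [hu₀, mul_one]
      set r : (Subgroup.centralizer ({y} : Set G)) := (⟨y, T.le_centralizer hy hy⟩ : (Subgroup.centralizer ({y} : Set G)))⁻¹ * c with hrdef
      have hr : π r = 1 := by rw [hrdef, map_mul, map_inv, hπ ⟨y, hy⟩, e, inv_mul_cancel]
      refine threePart_eq ⟨(r : G), ?_, (Subgroup.mem_centralizer_singleton_iff.mp r.2).symm,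
        pow_of_mem hy, by rw [Subgroup.orderOf_coe]; exact (hker r).mp hr⟩
      show y * (y⁻¹ * (c : G)) = u * v
      rw [mul_inv_cancel_left, hcuv]
  set J := fibre t u₀ y with hJ
  let σ : ↥(T.P : Subgroup G) → G → G := fun s u => (s : G) * u * (s : G)⁻¹
  have hσ : ∀ s u, σ s⁻¹ (σ s u) = u ∧ σ s (σ s⁻¹ u) = u := fun s u => by
    simp only [σ, Subgroup.coe_inv]; constructor <;> group
  have hto : ∀ p, ∀ u ∈ J, σ (p ^ 4) u ∈ classFinset t ∧ u₀ * σ (p ^ 4) u ∈ (Subgroup.centralizer ({y} : Set G)) ∧ φ (σ (p ^ 4) u) = p := by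
    intro p u hu
    obtain ⟨h1, h2, h3⟩ := (hfib u).mp hu
    obtain ⟨h4, h5⟩ := hmove (p ^ 4) u h2
    exact ⟨conj_mem_classFinset _ h1, h4, by rw [h5, h3, mul_one, hshift]⟩
  have hfrom : ∀ u ∈ classFinset t, u₀ * u ∈ (Subgroup.centralizer ({y} : Set G)) → σ (φ u ^ 4)⁻¹ u ∈ J := by
    intro u h1 h2
    obtain ⟨h4, h5⟩ := hmove (φ u ^ 4)⁻¹ u h2
    refine (hfib _).mpr ⟨conj_mem_classFinset _ h1, h4, ?_⟩
    rw [h5, inv_inv, mul_comm (φ u ^ 4) (φ u), mul_assoc, ← pow_add, ← pow_succ']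
    exact h9 _
  refine ⟨?_, ?_⟩
  · have hcard : ((Finset.univ : Finset (T.P : Subgroup G)) ×ˢ J ×ˢ J).card = 9 * J.card ^ 2 := by
      rw [Finset.card_product, Finset.card_product, Finset.card_univ, ← Nat.card_eq_fintype_card,
        T.inv.card]
      ring
    rw [← hcard, pairCount]
    refine Finset.card_bij'
      (fun w _ => (φ w.1, σ (φ w.1 ^ 4)⁻¹ w.1, σ (φ w.2 ^ 4)⁻¹ w.2))
      (fun z _ => (σ (z.1 ^ 4) z.2.1, σ ((z.1 * ⟨y, hy⟩) ^ 4) z.2.2))
      (fun w hw => ?_) (fun z hz => ?_) (fun w hw => ?_) (fun z hz => ?_)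
    · obtain ⟨h1, h2⟩ := Finset.mem_filter.mp hw
      obtain ⟨hw1, hw2⟩ := Finset.mem_product.mp h1
      obtain ⟨a1, a2, -⟩ := (hpair _ hw1 _ hw2).mp h2
      exact Finset.mem_product.mpr ⟨Finset.mem_univ _,
        Finset.mem_product.mpr ⟨hfrom _ hw1 a1, hfrom _ hw2 a2⟩⟩
    · obtain ⟨-, hz'⟩ := Finset.mem_product.mp hz
      obtain ⟨h1, h2⟩ := Finset.mem_product.mp hz'
      obtain ⟨a1, b1, c1⟩ := hto z.1 _ h1
      obtain ⟨a2, b2, c2⟩ := hto (z.1 * ⟨y, hy⟩) _ h2
      refine Finset.mem_filter.mpr ⟨Finset.mem_product.mpr ⟨a1, a2⟩, (hpair _ a1 _ a2).mpr ⟨b1, b2, ?_⟩⟩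
      rw [c1, c2, inv_mul_cancel_left]
    · obtain ⟨h1, h2⟩ := Finset.mem_filter.mp hw
      obtain ⟨hw1, hw2⟩ := Finset.mem_product.mp h1
      obtain ⟨-, -, e⟩ := (hpair _ hw1 _ hw2).mp h2
      rw [Prod.ext_iff]
      refine ⟨(hσ _ _).2, ?_⟩
      show σ ((φ w.1 * ⟨y, hy⟩) ^ 4) (σ (φ w.2 ^ 4)⁻¹ w.2) = w.2
      rw [← e, mul_inv_cancel_left]
      exact (hσ _ _).2
    · obtain ⟨-, hz'⟩ := Finset.mem_product.mp hz
      obtain ⟨h1, h2⟩ := Finset.mem_product.mp hz'
      obtain ⟨-, -, c1⟩ := hto z.1 _ h1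
      obtain ⟨-, -, c2⟩ := hto (z.1 * ⟨y, hy⟩) _ h2
      simp only [c1, c2, Prod.ext_iff]
      exact ⟨trivial, (hσ _ _).1, (hσ _ _).1⟩
  rintro ⟨u, hu⟩
  by_cases hgen : ∀ s : (T.P : Subgroup G), (s : G) ∈ Subgroup.zpowers y
  · -- `y` generates the Sylow subgroup
    have h1 : regCent y ⊆ {1} := by
      intro c hc
      obtain ⟨hcC, hreg⟩ := mem_regCent.mp hc
      have hcP : c ∈ (T.P : Subgroup G) := by
        rw [← T.selfCent, Subgroup.mem_centralizer_iff]
        intro x hx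
        obtain ⟨n, hn⟩ := Subgroup.mem_zpowers_iff.mp (hgen ⟨x, hx⟩)
        change y ^ n = x at hn
        rw [← hn]
        exact ((show Commute c y from Subgroup.mem_centralizer_singleton_iff.mp hcC).symm.zpow_left n).eq
      obtain ⟨e, he⟩ := pow_of_mem hcP
      rw [Finset.mem_singleton, ← orderOf_eq_one_iff, he]
      rcases Nat.eq_zero_or_pos e with rfl | he0
      · exact pow_zero 3
      · exact absurd (he ▸ dvd_pow_self 3 he0.ne') hreg
    have h2 := Finset.card_le_card h1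
    rw [Finset.card_singleton] at h2
    exact h2.trans (Nat.one_le_pow _ _ (Finset.card_pos.mpr ⟨u, hu⟩))
  push Not at hgen
  obtain ⟨s, hs⟩ := hgen
  obtain ⟨huc, huC, huφ⟩ := (hfib u).mp hu
  obtain ⟨hvc, hvC, hvφ⟩ := hto s u hu
  set v := σ (s ^ 4) u
  set Is := (classFinset t).filter fun w => u₀ * w ∈ (Subgroup.centralizer ({y} : Set G)) ∧ φ w = s
  have hIs : Is.card ≤ J.card := Finset.card_le_card_of_injOn (fun w => σ (s ^ 4)⁻¹ w)
    (fun w hw => by
      obtain ⟨h1, h2, h3⟩ := Finset.mem_filter.mp hw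
      exact Finset.mem_coe.mpr (h3 ▸ hfrom w h1 h2))
    (fun w _ w' _ e => by rw [← (hσ (s ^ 4) w).2, ← (hσ (s ^ 4) w').2]; exact congrArg _ e)
  have hconj : ∀ c ∈ regCent y, ∀ w, u₀ * w ∈ (Subgroup.centralizer ({y} : Set G)) →
      u₀ * (c * w * c⁻¹) ∈ (Subgroup.centralizer ({y} : Set G)) ∧ φ (c * w * c⁻¹) = φ w := by
    intro c hc w hw
    obtain ⟨hcC, hreg⟩ := mem_regCent.mp hc
    have hc' : u₀ * c * u₀⁻¹ ∈ (Subgroup.centralizer ({y} : Set G)) := by
      refine Subgroup.mem_centralizer_singleton_iff.mpr (mul_inv_eq_iff_eq_mul.mp ?_)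
      calc u₀ * c * u₀⁻¹ * y * (u₀ * c * u₀⁻¹)⁻¹ = u₀ * (c * (u₀⁻¹ * y * u₀) * c⁻¹) * u₀⁻¹ := by group
        _ = u₀ * (c * y⁻¹ * c⁻¹) * u₀⁻¹ := by
            have e : u₀⁻¹ * y * u₀ = y⁻¹ := by
              conv_lhs => rw [hu₀i]
              have := hinv y hy
              rwa [hu₀i] at this
            rw [e]
        _ = u₀ * y⁻¹ * u₀⁻¹ := by
            rw [((show Commute c y from Subgroup.mem_centralizer_singleton_iff.mp hcC).inv_right).eq,
              mul_inv_cancel_right]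
        _ = y := by rw [hinv y⁻¹ (inv_mem hy), inv_inv]
    have e : u₀ * (c * w * c⁻¹) = u₀ * c * u₀⁻¹ * (u₀ * w) * c⁻¹ := by group
    have hm : u₀ * (c * w * c⁻¹) ∈ (Subgroup.centralizer ({y} : Set G)) := e ▸ mul_mem (mul_mem hc' hw) (inv_mem hcC)
    refine ⟨hm, ?_⟩
    have ho : orderOf (u₀ * c * u₀⁻¹) = orderOf c :=
      orderOf_injective (MulAut.conj u₀).toMonoidHom (MulAut.conj u₀).injective c
    have h1 : π ⟨u₀ * c * u₀⁻¹, hc'⟩ = 1 := (hker _).mpr (by rw [Subgroup.orderOf_mk, ho]; exact hreg)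
    have h2 : π (⟨c, hcC⟩ : (Subgroup.centralizer ({y} : Set G)))⁻¹ = 1 := by
      rw [map_inv, inv_eq_one]; exact (hker _).mpr (by rw [Subgroup.orderOf_mk]; exact hreg)
    rw [hφ _ hm, hφ w hw, ← one_mul (π ⟨u₀ * w, hw⟩), ← h1, ← mul_one (_ * π ⟨u₀ * w, hw⟩), ← h2,
      ← map_mul, ← map_mul]
    exact congrArg π (Subtype.ext e)
  have hle : (regCent y).card ≤ (J ×ˢ Is).card := by
    refine Finset.card_le_card_of_injOn (fun c => (c * u * c⁻¹, c * v * c⁻¹)) (fun c hc => ?_) ?_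
    · obtain ⟨h1, h2⟩ := hconj c hc u huC
      obtain ⟨h3, h4⟩ := hconj c hc v hvC
      exact Finset.mem_coe.mpr (Finset.mem_product.mpr
        ⟨(hfib _).mpr ⟨conj_mem_classFinset _ huc, h1, by rw [h2, huφ]⟩,
          Finset.mem_filter.mpr ⟨conj_mem_classFinset _ hvc, h3, by rw [h4, hvφ]⟩⟩)
    intro c hc c' hc' e
    obtain ⟨hcC, hreg⟩ := mem_regCent.mp (Finset.mem_coe.mp hc)
    obtain ⟨hcC', hreg'⟩ := mem_regCent.mp (Finset.mem_coe.mp hc')
    set n : (Subgroup.centralizer ({y} : Set G)) := (⟨c', hcC'⟩ : (Subgroup.centralizer ({y} : Set G)))⁻¹ * ⟨c, hcC⟩ with hn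
    have hn1 : π n = 1 := by
      rw [hn, map_mul, map_inv, (hker ⟨c, hcC⟩).mpr (by rw [Subgroup.orderOf_mk]; exact hreg),
        (hker ⟨c', hcC'⟩).mpr (by rw [Subgroup.orderOf_mk]; exact hreg'), inv_one, mul_one]
    have hcom : ∀ w : G, c * w * c⁻¹ = c' * w * c'⁻¹ → Commute (n : G) w := fun w e' => by
      show c'⁻¹ * c * w = w * (c'⁻¹ * c)
      calc c'⁻¹ * c * w = c'⁻¹ * (c * w * c⁻¹) * c := by group
        _ = c'⁻¹ * (c' * w * c'⁻¹) * c := by rw [e']
        _ = w * (c'⁻¹ * c) := by group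
    have hnuv : Commute (n : G) (u * v) :=
      (hcom u (Prod.ext_iff.mp e).1).mul_right (hcom v (Prod.ext_iff.mp e).2)
    have huvC : u * v ∈ (Subgroup.centralizer ({y} : Set G)) := by
      have : u * v = (u₀ * u)⁻¹ * (u₀ * v) := by
        rw [mul_inv_rev, inv_eq_of_mul_eq_one_right (hinvol u huc), hu₀i]
        calc u * v = u * (u₀ * u₀) * v := by rw [hu₀, mul_one]
          _ = _ := by group
      rw [this]; exact mul_mem (inv_mem huC) hvC
    have hπuv : π ⟨u * v, huvC⟩ = s := by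
      have e1 : (⟨u * v, huvC⟩ : (Subgroup.centralizer ({y} : Set G))) = (⟨u₀ * u, huC⟩ : (Subgroup.centralizer ({y} : Set G)))⁻¹ * ⟨u₀ * v, hvC⟩ := by
        refine Subtype.ext ?_
        show u * v = (u₀ * u)⁻¹ * (u₀ * v)
        rw [mul_inv_rev, inv_eq_of_mul_eq_one_right (hinvol u huc), hu₀i]
        calc u * v = u * (u₀ * u₀) * v := by rw [hu₀, mul_one]
          _ = _ := by group
      rw [e1, map_mul, map_inv, ← hφ u huC, ← hφ v hvC, huφ, hvφ, inv_one, one_mul]
    obtain ⟨x, ⟨r, hxr, hxc, hxo, hro⟩, hxz⟩ := Blocks.exists_isPPart (p := 3) Nat.prime_three (u * v)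
    have hxC : x ∈ (Subgroup.centralizer ({y} : Set G)) := (Subgroup.zpowers_le.mpr huvC) hxz
    have hrC : r ∈ (Subgroup.centralizer ({y} : Set G)) := by
      have : r = x⁻¹ * (u * v) := by rw [← hxr, inv_mul_cancel_left]
      rw [this]; exact mul_mem (inv_mem hxC) huvC
    have hπx : π ⟨x, hxC⟩ = s := by
      rw [← hπuv, show (⟨u * v, huvC⟩ : (Subgroup.centralizer ({y} : Set G))) = ⟨x, hxC⟩ * ⟨r, hrC⟩ from Subtype.ext hxr.symm, map_mul,
        (hker ⟨r, hrC⟩).mpr (by rw [Subgroup.orderOf_mk]; exact hro), mul_one]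
    have hnx : Commute (n : G) x := by
      obtain ⟨i, rfl⟩ := Subgroup.mem_zpowers_iff.mp hxz
      exact hnuv.zpow_right i
    have hny : Commute (n : G) y := Subgroup.mem_centralizer_singleton_iff.mp n.2
    have hxy : Commute x y := Subgroup.mem_centralizer_singleton_iff.mp hxC
    -- a second Sylow subgroup centralized by `n`
    set R := Subgroup.zpowers y ⊔ Subgroup.zpowers x
    have hR : IsPGroup 3 R := by
      obtain ⟨i, hi⟩ := pow_of_mem hy
      obtain ⟨j, hj⟩ := hxo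
      refine (IsPGroup.of_card (n := i) (by rw [Nat.card_zpowers, hi])).to_sup_of_normal_left'
        (IsPGroup.of_card (n := j) (by rw [Nat.card_zpowers, hj])) ?_
      refine Subgroup.zpowers_le.mpr (Subgroup.mem_normalizer_iff.mpr fun g => ?_)
      constructor
      · intro hg
        obtain ⟨m, rfl⟩ := Subgroup.mem_zpowers_iff.mp hg
        rw [(hxy.zpow_right m).eq, mul_inv_cancel_right]
        exact hg
      · intro hg
        obtain ⟨m, hm⟩ := Subgroup.mem_zpowers_iff.mp hg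
        have : g = y ^ m := by
          calc g = x⁻¹ * (x * g * x⁻¹) * x := by group
            _ = x⁻¹ * y ^ m * x := by rw [hm]
            _ = y ^ m := by rw [mul_assoc, ← (hxy.zpow_right m).eq, inv_mul_cancel_left]
        rw [this]; exact Subgroup.zpow_mem_zpowers y m
    have hRC : R ≤ (Subgroup.centralizer ({y} : Set G)) := sup_le (Subgroup.zpowers_le.mpr (T.le_centralizer hy hy)) (Subgroup.zpowers_le.mpr hxC)
    have h9R : 9 ≤ Nat.card R := by
      let g : R →* (T.P : Subgroup G) := π.comp (Subgroup.inclusion hRC)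
      have hy' : (⟨y, hy⟩ : (T.P : Subgroup G)) ∈ g.range :=
        ⟨⟨y, Subgroup.mem_sup_left (Subgroup.mem_zpowers y)⟩, hπ ⟨y, hy⟩⟩
      have hs' : s ∈ g.range := ⟨⟨x, Subgroup.mem_sup_right (Subgroup.mem_zpowers x)⟩, hπx⟩
      have htop : g.range = ⊤ := by
        by_contra hne
        have h3 := card_of_proper T.inv.card hne hy' fun e => hy1 (congrArg Subtype.val e)
        refine hs ?_
        by_cases hs1 : s = 1
        · rw [hs1]; exact one_mem _
        rcases eq_or_inv_of_card_three h3 hy' hs' (fun e => hy1 (congrArg Subtype.val e)) hs1 with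
          rfl | rfl
        · exact Subgroup.mem_zpowers y
        · exact inv_mem (Subgroup.mem_zpowers y)
      have := Nat.le_of_dvd Nat.card_pos (Subgroup.card_range_dvd g)
      rwa [htop, Subgroup.card_top, T.inv.card] at this
    obtain ⟨Q, hQ⟩ := hR.exists_le_sylow
    have hRQ : R = (Q : Subgroup G) := Subgroup.eq_of_le_of_card_ge hQ (by
      have h' := Q.card_eq_multiplicity
      have h'' := T.P.card_eq_multiplicity
      rw [← h'', T.inv.card] at h'
      rw [h']; exact h9R)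
    obtain ⟨g, hg⟩ := MulAction.exists_smul_eq G T.P Q
    have hnQ : ∀ z ∈ R, Commute (n : G) z := by
      intro z hz
      have hle : R ≤ Subgroup.centralizer ({(n : G)} : Set G) := sup_le
        (Subgroup.zpowers_le.mpr (Subgroup.mem_centralizer_singleton_iff.mpr hny.symm.eq))
        (Subgroup.zpowers_le.mpr (Subgroup.mem_centralizer_singleton_iff.mpr hnx.symm.eq))
      exact (Subgroup.mem_centralizer_singleton_iff.mp (hle hz)).symm
    have hnP : g⁻¹ * (n : G) * g ∈ (T.P : Subgroup G) := by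
      rw [← T.selfCent, Subgroup.mem_centralizer_iff]
      intro p hp
      have hgp : g * p * g⁻¹ ∈ R := by
        rw [hRQ, ← hg]
        exact Subgroup.mem_pointwise_smul_iff_inv_smul_mem.mpr (by
          simp [mul_assoc]
          exact hp)
      have := (hnQ _ hgp).eq
      calc p * (g⁻¹ * (n : G) * g) = g⁻¹ * (g * p * g⁻¹ * (n : G)) * g := by group
        _ = g⁻¹ * ((n : G) * (g * p * g⁻¹)) * g := by rw [this]
        _ = g⁻¹ * (n : G) * g * p := by group
    obtain ⟨i, hi⟩ := pow_of_mem hnP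
    have hon : orderOf (g⁻¹ * (n : G) * g) = orderOf (n : G) := by
      have := orderOf_injective (MulAut.conj g⁻¹).toMonoidHom (MulAut.conj g⁻¹).injective (n : G)
      simpa [MulAut.conj_apply] using this
    have hn0 : (n : G) = 1 := by
      rw [← orderOf_eq_one_iff, ← hon, hi]
      rcases Nat.eq_zero_or_pos i with rfl | hi0
      · exact pow_zero 3
      · refine absurd ?_ ((hker n).mp hn1)
        rw [← Subgroup.orderOf_coe, ← hon, hi]
        exact dvd_pow_self 3 hi0.ne'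
    exact (inv_mul_eq_one.mp hn0).symm
  rw [Finset.card_product] at hle
  calc (regCent y).card ≤ J.card * Is.card := hle
    _ ≤ J.card * J.card := Nat.mul_le_mul_left _ hIs
    _ = J.card ^ 2 := (pow_two _).symm

end Setup

end CfsgLib.NineTwoPrimes
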