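import Cfsg.Agent.Lib.NineTwoPrimes.FrobCount

/-!
An inverted Sylow `3`-subgroup in a simple group of order `9 * 2 ^ a * q ^ b` gives order `504` or
`2448`.
-/

set_option autoImplicit false
set_option linter.style.haveILetI false
set_option linter.unusedSectionVars false

namespace CfsgLib.NineTwoPrimes

open Cfsg CfsgLib
open scoped ComplexConjugate CfsgLib.Char IsMulCommutative

universe u

variable {G : Type u} [Group G] [Fintype G] {q a k d : ℕ}

/-- A linear character with prescribed kernel of order three. -/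
theorem exists_hom_kernel {A : Type*} [CommGroup A] [Finite A] (h9 : Nat.card A = 9) {x : A}
    (hx : x ^ 3 = 1) (hx1 : x ≠ 1) :
    ∃ ψ : A →* ℂˣ, ψ ≠ 1 ∧ (∀ y, ψ y = 1 ↔ y ∈ Subgroup.zpowers x) ∧ ∀ y, ψ y ^ 3 = 1 := by
  set L := Subgroup.zpowers x
  haveI : Fact (Nat.Prime 3) := ⟨Nat.prime_three⟩
  have hL : Nat.card L = 3 := by rw [Nat.card_zpowers]; exact orderOf_eq_prime hx hx1
  have hQ : Nat.card (A ⧸ L) = 3 := by
    have h := L.card_mul_index
    rw [hL, h9, Subgroup.index_eq_card] at h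
    omega
  obtain ⟨z, hz⟩ : ∃ z : A ⧸ L, z ≠ 1 := by
    haveI : Nontrivial (A ⧸ L) := Finite.one_lt_card_iff_nontrivial.mp (by omega)
    exact exists_ne 1
  haveI : NeZero (Monoid.exponent (A ⧸ L)) := ⟨Monoid.exponent_ne_zero_of_finite⟩
  obtain ⟨f, hf⟩ := CommGroup.exists_apply_ne_one_of_hasEnoughRootsOfUnity (A ⧸ L) ℂ hz
  obtain ⟨w, rfl⟩ := QuotientGroup.mk'_surjective L z
  set ψ : A →* ℂˣ := f.comp (QuotientGroup.mk' L)
  have hψ : ψ ≠ 1 := fun e => hf (DFunLike.congr_fun e w)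
  have hle : L ≤ ψ.ker := fun y hy => by
    rw [MonoidHom.mem_ker]
    show f (QuotientGroup.mk' L y) = 1
    rw [show QuotientGroup.mk' L y = 1 from (QuotientGroup.eq_one_iff y).mpr hy, map_one]
  have hne : ψ.ker ≠ ⊤ := fun e => hψ (MonoidHom.ext fun y => MonoidHom.mem_ker.mp (e ▸ Subgroup.mem_top y))
  have hkL : L = ψ.ker := Subgroup.eq_of_le_of_card_ge hle (by
    rw [hL, card_of_proper h9 hne (hle (Subgroup.mem_zpowers x)) hx1])
  refine ⟨ψ, hψ, fun y => by rw [← MonoidHom.mem_ker, ← hkL], fun y => ?_⟩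
  show f (QuotientGroup.mk' L y) ^ 3 = 1
  rw [← map_pow, ← hQ, pow_card_eq_one', map_one]

theorem root_sum {z : ℂˣ} (h3 : z ^ 3 = 1) (h1 : z ≠ 1) : ((z : ℂ) + ((z⁻¹ : ℂˣ) : ℂ)) = -1 := by
  have hz : (z : ℂ) ^ 3 = 1 := by rw [← Units.val_pow_eq_pow_val, h3, Units.val_one]
  have hinv : ((z⁻¹ : ℂˣ) : ℂ) = (z : ℂ) ^ 2 := by
    rw [← Units.val_pow_eq_pow_val, inv_eq_of_mul_eq_one_right (by rw [← pow_succ']; exact h3)]
  have hmul : ((z : ℂ) - 1) * ((z : ℂ) + (z : ℂ) ^ 2 + 1) = 0 := by linear_combination hz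
  have hne : (z : ℂ) - 1 ≠ 0 := sub_ne_zero.mpr fun e => h1 (Units.ext e)
  rw [hinv]
  linear_combination (mul_eq_zero.mp hmul).resolve_left hne

namespace Setup

/-- The virtual character `1 - χ + θ` is three times the indicator of the sections outside the
kernel. -/
theorem value_f (T : Setup G q a k d) {ψ : (T.P : Subgroup G) →* ℂˣ} (hψ : ψ ≠ 1)
    (hψ3 : ∀ y, ψ y ^ 3 = 1) (g : G) (y : (T.P : Subgroup G)) (hy : IsConj (threePart g) y) :
    1 - (T.six.χ : G → ℂ) g + (T.six.θ ψ : G → ℂ) g = if ψ y = 1 then 0 else 3 := by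
  classical
  obtain ⟨c, hc⟩ := isConj_iff.mp hy
  have hpp : IsPPart 3 (c * g * c⁻¹) (y : G) := hc ▸ Blocks.IsPPart.conj (isPPart_threePart g) c
  have hcl : ∀ χ : IrrCharacter G, (χ : G → ℂ) g = (χ : G → ℂ) (c * g * c⁻¹) := fun χ =>
    Blocks.IsClassFunction.eq_of_isConj (Blocks.irr_classFunction χ) (isConj_iff.mpr ⟨c, rfl⟩)
  rw [hcl, hcl]
  by_cases hy1 : (y : G) = 1
  · have hy1' : y = 1 := Subtype.ext hy1
    subst hy1'
    obtain ⟨r, hr, -, -, hro⟩ := hpp
    rw [if_pos (map_one ψ)]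
    refine T.six.rel ψ hψ _ ?_
    rw [← hr, hy1, one_mul]
    exact hro
  rw [T.six.χval _ y hpp hy1, T.six.θval ψ hψ _ y hpp hy1]
  by_cases h : ψ y = 1
  · rw [if_pos h, map_inv, h]; norm_num
  · rw [if_neg h, map_inv, root_sum (hψ3 y) h]; norm_num

/-- The sum of the ratios outside a kernel. -/
theorem sum_ratio (T : Setup G q a k d) {t u₀ : G} (ht : orderOf t = 2)
    (hct : Nat.card (Subgroup.centralizer ({t} : Set G)) = 2 ^ a) (hu₀ : u₀ * u₀ = 1)
    (hinv : ∀ x ∈ (T.P : Subgroup G), u₀ * x * u₀⁻¹ = x⁻¹)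
    {ψ : (T.P : Subgroup G) →* ℂˣ} (hψ : ψ ≠ 1) (hψ3 : ∀ y, ψ y ^ 3 = 1)
    (hval : 1 - (T.six.χ : G → ℂ) t ^ 2 / (charDegree (T.six.χ : G → ℂ) : ℂ) +
      (T.six.θ ψ : G → ℂ) t ^ 2 / (charDegree (T.six.θ ψ : G → ℂ) : ℂ) = (2 : ℂ) ^ k / q)
    [Fintype (T.P : Subgroup G)] [DecidablePred fun y : (T.P : Subgroup G) => ψ y ≠ 1] :
    (2 : ℚ) ^ a * ∑ y ∈ Finset.univ.filter (fun y : (T.P : Subgroup G) => ψ y ≠ 1), ratio t u₀ (y : G) =
      6 * 2 ^ k := by
  classical
  haveI := T.inv.comm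
  set Y := Finset.univ.filter (fun y : (T.P : Subgroup G) => ψ y ≠ 1)
  have hne : ∀ y ∈ Y, (y : G) ≠ 1 := fun y hy e => (Finset.mem_filter.mp hy).2 (by
    rw [show y = 1 from Subtype.ext e, map_one])
  set pairs := classFinset t ×ˢ classFinset t
  have hw : ∀ g : G, 2 * (1 - (T.six.χ : G → ℂ) g + (T.six.θ ψ : G → ℂ) g) =
      3 * ∑ y ∈ Y, (if IsConj (threePart g) (y : G) then (1 : ℂ) else 0) := by
    intro g
    obtain ⟨-, -, -, hxo, -⟩ := isPPart_threePart g
    obtain ⟨c, hc⟩ := T.conj_into hxo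
    set y₀ : (T.P : Subgroup G) := ⟨c * threePart g * c⁻¹, hc⟩
    have hy₀ : IsConj (threePart g) (y₀ : G) := isConj_iff.mpr ⟨c, rfl⟩
    rw [T.value_f hψ hψ3 g y₀ hy₀, Finset.sum_boole]
    have hset : Y.filter (fun y : (T.P : Subgroup G) => IsConj (threePart g) (y : G)) =
        if ψ y₀ = 1 then ∅ else {y₀, y₀⁻¹} := by
      ext y
      have key : IsConj (threePart g) (y : G) ↔ y = y₀ ∨ y = y₀⁻¹ := by
        rw [← T.isConj_iff_eq_or_inv y₀ y]
        exact ⟨fun h => hy₀.symm.trans h, fun h => hy₀.trans h⟩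
      simp only [Y, Finset.mem_filter, Finset.mem_univ, true_and, key]
      split_ifs with h
      · simp only [Finset.notMem_empty, iff_false, not_and]
        rintro h' (rfl | rfl)
        · exact h' h
        · exact h' (by rw [map_inv, h, inv_one])
      · simp only [Finset.mem_insert, Finset.mem_singleton]
        refine ⟨fun h' => h'.2, fun h' => ⟨?_, h'⟩⟩
        rcases h' with rfl | rfl
        · exact h
        · rw [map_inv, ne_eq, inv_eq_one]; exact h
    rw [hset]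
    split_ifs with h
    · simp
    · rw [Finset.card_pair fun e => T.inv.coe_inv_ne (fun e' => h (by rw [e', map_one])) e.symm]
      norm_num
  have htot := T.pair_sum hct hψ hval
  have hdc : 2 * ((81 * q * 2 ^ k : ℕ) : ℂ) = 3 * ((∑ y ∈ Y,
      ((pairs.filter fun w => IsConj (threePart (w.1 * w.2)) (y : G)).card) : ℕ) : ℂ) := by
    rw [← htot, ← Finset.sum_product', Finset.mul_sum, Finset.sum_congr rfl fun w _ => hw (w.1 * w.2),
      ← Finset.mul_sum, Finset.sum_comm, Nat.cast_sum]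
    refine congrArg _ (Finset.sum_congr rfl fun y _ => ?_)
    rw [Finset.sum_boole]
  have hnat : 2 * (81 * q * 2 ^ k) = 3 * ∑ y ∈ Y,
      (Subgroup.centralizer ({(y : G)} : Set G)).index * (9 * (fibre t u₀ (y : G)).card ^ 2) := by
    have h : 2 * (81 * q * 2 ^ k) = 3 * ∑ y ∈ Y,
        (pairs.filter fun w => IsConj (threePart (w.1 * w.2)) (y : G)).card := by exact_mod_cast hdc
    rw [h]
    refine congrArg _ (Finset.sum_congr rfl fun y hy => ?_)
    rw [card_conjugate_threePart, (T.pairCount_eq ht hu₀ hinv y.2 (hne y hy)).1]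
  have hq0 : (q : ℚ) ≠ 0 := Nat.cast_ne_zero.mpr T.ctx.hq.ne_zero
  have hterm : ∀ y ∈ Y, (((Subgroup.centralizer ({(y : G)} : Set G)).index *
      (9 * (fibre t u₀ (y : G)).card ^ 2) : ℕ) : ℚ) = 9 * 2 ^ a * q * ratio t u₀ (y : G) := by
    intro y hy
    have h := T.index_mul_regCent y.2 (hne y hy)
    have hK : ((regCent (y : G)).card : ℚ) ≠ 0 := Nat.cast_ne_zero.mpr (regCent_card_pos _).ne'
    have h' : ((Subgroup.centralizer ({(y : G)} : Set G)).index : ℚ) * (regCent (y : G)).card = 2 ^ a * q := by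
      exact_mod_cast h
    rw [ratio]
    push_cast
    field_simp
    linear_combination (((fibre t u₀ (y : G)).card : ℚ) ^ 2) * h'
  have hfin : (2 * (81 * q * 2 ^ k) : ℚ) = 3 * ∑ y ∈ Y, (9 * 2 ^ a * q * ratio t u₀ (y : G)) := by
    rw [← Finset.sum_congr rfl hterm, ← Nat.cast_sum]
    exact_mod_cast hnat
  rw [← Finset.mul_sum] at hfin
  refine mul_left_cancel₀ (mul_ne_zero (by norm_num : (27 : ℚ) ≠ 0) hq0) ?_
  linear_combination -hfin

/-- The exponent of two. -/
theorem a_eq_k (T : Setup G q a k d) : a = k := by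
  classical
  haveI : Fact (Nat.Prime 3) := ⟨Nat.prime_three⟩
  haveI := T.inv.comm
  haveI := Fintype.ofFinite (T.P : Subgroup G)
  obtain ⟨t, ht, hct, hval⟩ := T.exists_involution
  obtain ⟨u₀, hu₀, hinv⟩ := T.exists_inversion
  have key : ∀ x : (T.P : Subgroup G), x ^ 3 = 1 → x ≠ 1 →
      (2 : ℚ) ^ a * ∑ y ∈ Finset.univ.filter (fun y => y ∉ Subgroup.zpowers x), ratio t u₀ (y : G) =
        6 * 2 ^ k := by
    intro x hx hx1
    obtain ⟨ψ, hψ, hker, hψ3⟩ := exists_hom_kernel T.inv.card hx hx1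
    rw [← T.sum_ratio ht hct hu₀ hinv hψ hψ3 (hval ψ hψ)]
    refine congrArg _ (Finset.sum_congr (Finset.filter_congr fun y _ => ?_) fun _ _ => rfl)
    rw [ne_eq, hker]
  have hcomp : ∀ x : (T.P : Subgroup G), x ^ 3 = 1 → x ≠ 1 →
      (Finset.univ.filter fun y => y ∉ Subgroup.zpowers x).card = 6 := by
    intro x hx hx1
    have h := Finset.card_filter_add_card_filter_not (s := (Finset.univ : Finset (T.P : Subgroup G)))
      (fun y => y ∈ Subgroup.zpowers x)
    rw [Finset.card_univ, ← Nat.card_eq_fintype_card, T.inv.card, ← Fintype.card_subtype,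
      ← Nat.card_eq_fintype_card, Nat.card_zpowers, orderOf_eq_prime hx hx1] at h
    omega
  -- a common value of the ratios outside a kernel
  obtain ⟨x, hx, hx1, R, hR⟩ : ∃ x : (T.P : Subgroup G), x ^ 3 = 1 ∧ x ≠ 1 ∧
      ∃ R : ℚ, ∀ y ∈ Finset.univ.filter (fun y => y ∉ Subgroup.zpowers x), ratio t u₀ (y : G) = R := by
    by_cases hexp : ∀ y : (T.P : Subgroup G), y ^ 3 = 1
    · obtain ⟨x, hx1⟩ := T.inv.nontrivial
      refine ⟨x, hexp x, hx1, (∑ y ∈ Finset.univ.erase (1 : (T.P : Subgroup G)), ratio t u₀ (y : G) -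
        6 * 2 ^ k / 2 ^ a) / 2, fun y hy => ?_⟩
      have hy1 : y ≠ 1 := fun e => (Finset.mem_filter.mp hy).2 (e ▸ one_mem _)
      have hk := key y (hexp y) hy1
      have hset : (Finset.univ : Finset (T.P : Subgroup G)).filter (fun z => z ∉ Subgroup.zpowers y) =
          Finset.univ.erase 1 \ {y, y⁻¹} := by
        ext z
        simp only [Finset.mem_filter, Finset.mem_univ, true_and, Finset.mem_sdiff, Finset.mem_erase,
          and_true, Finset.mem_insert, Finset.mem_singleton, not_or]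
        refine ⟨fun h => ⟨fun e => h (e ▸ one_mem _), fun e => h (e ▸ Subgroup.mem_zpowers y),
          fun e => h (e ▸ inv_mem (Subgroup.mem_zpowers y))⟩, fun ⟨h1, h2, h3⟩ h => ?_⟩
        rcases eq_or_inv_of_card_three (by rw [Nat.card_zpowers]; exact orderOf_eq_prime (hexp y) hy1)
          (Subgroup.mem_zpowers y) h hy1 h1 with e | e
        · exact h2 e
        · exact h3 e
      rw [hset, Finset.sum_sdiff_eq_sub (fun z hz => by
          rcases Finset.mem_insert.mp hz with rfl | hz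
          · exact Finset.mem_erase.mpr ⟨hy1, Finset.mem_univ _⟩
          · rw [Finset.mem_singleton.mp hz]
            exact Finset.mem_erase.mpr ⟨inv_ne_one.mpr hy1, Finset.mem_univ _⟩),
        Finset.sum_pair (fun e => T.inv.coe_inv_ne hy1 e.symm), Subgroup.coe_inv, ratio_inv] at hk
      have h2a : (2 : ℚ) ^ a ≠ 0 := by positivity
      field_simp
      linear_combination -hk
    · push Not at hexp
      obtain ⟨g, hg⟩ := hexp
      have hg9 : orderOf g = 9 := by
        have hd : orderOf g ∣ 3 ^ 2 := by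
          have := orderOf_dvd_natCard g; rwa [T.inv.card] at this
        obtain ⟨i, hi, e⟩ := (Nat.dvd_prime_pow Nat.prime_three).mp hd
        interval_cases i
        · exact absurd (by rw [orderOf_eq_one_iff.mp (e.trans (pow_zero 3)), one_pow]) hg
        · exact absurd (orderOf_dvd_iff_pow_eq_one.mp (e ▸ dvd_refl 3 : orderOf g ∣ 3)) hg
        · simpa using e
      have htop : Subgroup.zpowers g = ⊤ :=
        Subgroup.eq_top_of_card_eq _ (by rw [Nat.card_zpowers, hg9, T.inv.card])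
      refine ⟨g ^ 3, by rw [← pow_mul]; norm_num; rw [← hg9, pow_orderOf_eq_one], hg, ratio t u₀ (g : G),
        fun y hy => ?_⟩
      have hy' := (Finset.mem_filter.mp hy).2
      have hgen : ∀ y : (T.P : Subgroup G), Subgroup.zpowers y = ⊤ →
          ∀ c : G, c ∈ Subgroup.centralizer ({(y : G)} : Set G) ↔ c ∈ (T.P : Subgroup G) := by
        intro y htop c
        refine ⟨fun hc => ?_, fun hc => T.le_centralizer y.2 hc⟩
        rw [← T.selfCent, Subgroup.mem_centralizer_iff]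
        intro z hz
        obtain ⟨n, hn⟩ := Subgroup.mem_zpowers_iff.mp (htop ▸ Subgroup.mem_top (⟨z, hz⟩ : (T.P : Subgroup G)))
        have e : (y : G) ^ n = z := by simpa using congrArg Subtype.val hn
        rw [← e]
        exact ((show Commute c (y : G) from Subgroup.mem_centralizer_singleton_iff.mp hc).symm.zpow_left n).eq
      have hytop : Subgroup.zpowers y = ⊤ := by
        by_contra hne
        have h3 : Nat.card (Subgroup.zpowers y) = 3 := card_of_proper T.inv.card hne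
          (Subgroup.mem_zpowers y) fun e => hy' (e ▸ one_mem _)
        obtain ⟨n, hn⟩ := Subgroup.mem_zpowers_iff.mp (htop ▸ Subgroup.mem_top y)
        have hy3 : y ^ 3 = 1 := by
          rw [show y ^ 3 = y ^ Nat.card (Subgroup.zpowers y) by rw [h3], Nat.card_zpowers, pow_orderOf_eq_one]
        rw [← hn, ← zpow_natCast (g ^ n) 3, ← zpow_mul, ← orderOf_dvd_iff_zpow_eq_one, hg9] at hy3
        obtain ⟨j, hj⟩ : (3 : ℤ) ∣ n := by
          obtain ⟨j, hj⟩ := hy3
          exact ⟨j, by omega⟩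
        exact hy' (Subgroup.mem_zpowers_iff.mpr ⟨j, by rw [← hn, hj, zpow_mul, zpow_ofNat]⟩)
      have e1 : regCent (y : G) = regCent (g : G) := by
        ext c
        rw [mem_regCent, mem_regCent, hgen y hytop, hgen g htop]
      have e2 : fibre t u₀ (y : G) = fibre t u₀ (g : G) := by
        ext u
        rw [mem_fibre, mem_fibre, e1]
      rw [ratio, ratio, e1, e2]
  have h6 := key x hx hx1
  rw [Finset.sum_congr rfl hR, Finset.sum_const, hcomp x hx hx1, nsmul_eq_mul] at h6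
  have h2a : (0 : ℚ) < 2 ^ a := by positivity
  have h2k : (0 : ℚ) < 2 ^ k := by positivity
  have hRk : 2 ^ a * R = 2 ^ k := by push_cast at h6; linarith
  -- the ratios are at least one
  obtain ⟨y, hy⟩ : (Finset.univ.filter fun y => y ∉ Subgroup.zpowers x).Nonempty :=
    Finset.card_pos.mp (by rw [hcomp x hx hx1]; norm_num)
  have hy1 : (y : G) ≠ 1 := fun e =>
    (Finset.mem_filter.mp hy).2 ((show y = 1 from Subtype.ext e) ▸ one_mem _)
  have hRpos : R ≠ 0 := fun e => by rw [e, mul_zero] at hRk; exact h2k.ne hRk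
  have hJ : (fibre t u₀ (y : G)).Nonempty := by
    by_contra he
    rw [Finset.not_nonempty_iff_eq_empty] at he
    refine hRpos ?_
    rw [← hR y hy, ratio, he]
    simp
  have hle := (T.pairCount_eq ht hu₀ hinv y.2 hy1).2 hJ
  have hR1 : 1 ≤ R := by
    rw [← hR y hy, ratio, one_le_div (Nat.cast_pos.mpr (regCent_card_pos _))]
    exact_mod_cast hle
  have hak : a ≤ k := by
    have h1 : (2 : ℚ) ^ a ≤ 2 ^ k := by nlinarith
    exact (pow_le_pow_iff_right₀ (by norm_num : (1 : ℚ) < 2)).mp h1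
  have hka : k ≤ a := by
    obtain ⟨ψ, hψ, -, -⟩ := exists_hom_kernel T.inv.card hx hx1
    have h1 := T.ctx.degree_dvd T.six.χ
    have h2 := T.ctx.degree_dvd (T.six.θ ψ)
    have h3 := T.six.θdeg ψ hψ
    have key2 : 2 ^ k ∣ 9 * 2 ^ a * q ^ 1 := by
      rcases T.six.cases with ⟨rfl, rfl, rfl⟩ | ⟨rfl, rfl, rfl⟩
      · rw [T.six.deg] at h1; exact h1
      · rw [show charDegree (T.six.θ ψ : G → ℂ) = 16 by omega] at h2; exact h2
    have hc9 : Nat.Coprime (2 ^ k) 9 := Nat.Coprime.pow_left k (by norm_num)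
    have hcq : Nat.Coprime (2 ^ k) (q ^ 1) :=
      ((Nat.coprime_primes Nat.prime_two T.ctx.hq).mpr T.ctx.hq2.symm).pow k 1
    exact (Nat.pow_dvd_pow_iff_le_right (by norm_num : 1 < 2)).mp (hc9.dvd_of_dvd_mul_left (hcq.dvd_of_dvd_mul_right key2))
  omega

end Setup

/-- An inverted Sylow `3`-subgroup gives order `504` or `2448`. -/
theorem inverted_order {b : ℕ} (C : Ctx G q a b) (P : Sylow 3 G) (H : Inverted P) :
    Nat.card G = 504 ∨ Nat.card G = 2448 := by
  obtain ⟨rfl, k, d, ⟨S⟩⟩ := exists_six_shape C P H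
  let T : Setup G q a k d := ⟨C, P, H, S, self_centralizing C P H S⟩
  have ha := T.a_eq_k
  rcases S.cases with ⟨rfl, rfl, -⟩ | ⟨rfl, rfl, -⟩
  · left; rw [C.hcard, ha]; norm_num
  · right; rw [C.hcard, ha]; norm_num

end CfsgLib.NineTwoPrimes
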