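import Cfsg.Agent.Lib.NineTwoPrimes.FrobShape

/-!
Pairs of conjugates of a `2`-central involution and the virtual character vanishing on the
`3`-regular elements.
-/

set_option autoImplicit false
set_option linter.style.haveILetI false
set_option linter.unusedSectionVars false

namespace CfsgLib.NineTwoPrimes

open Cfsg CfsgLib
open scoped ComplexConjugate CfsgLib.Char IsMulCommutative

universe u

variable {G : Type u} [Group G] [Fintype G]

open scoped _root_.Classical in
/-- The conjugates of `t`. -/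
noncomputable def classFinset (t : G) : Finset G := Finset.univ.filter fun x => IsConj x t

theorem mem_classFinset {t x : G} : x ∈ classFinset t ↔ IsConj x t := by
  simp [classFinset]

theorem conj_mem_classFinset {t x : G} (g : G) (hx : x ∈ classFinset t) :
    g * x * g⁻¹ ∈ classFinset t :=
  mem_classFinset.mpr ((isConj_iff.mpr ⟨g, rfl⟩).symm.trans (mem_classFinset.mp hx))

theorem card_classFinset (t : G) :
    (classFinset t).card = (Subgroup.centralizer ({t} : Set G)).index := by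
  classical
  rw [← Char.card_isConj_eq_index, Nat.card_eq_fintype_card, Fintype.card_subtype]
  refine congrArg Finset.card ?_
  ext x
  simp [classFinset]

theorem sum_class_mul (χ : IrrCharacter G) (t h : G) :
    ∑ v ∈ classFinset t, (χ : G → ℂ) (h * v) = Char.omega (χ : G → ℂ) t * (χ : G → ℂ) h := by
  classical
  obtain ⟨n, ρ, hρ, e⟩ := χ.2
  rw [← e]
  have h1 : LinearMap.trace ℂ (Fin n → ℂ) (ρ h * Char.classSum ρ t) =
      ∑ v ∈ classFinset t, ρ.character (h * v) := by
    rw [Char.classSum, Finset.mul_sum, map_sum]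
    refine Finset.sum_congr ?_ fun v _ => by rw [← map_mul]; rfl
    ext x
    simp [classFinset]
  rw [← h1, Char.classSum_eq_omega ρ t, mul_smul_comm, map_smul, ← Module.End.one_eq_id, mul_one,
    smul_eq_mul]
  rfl

theorem sum_pairs (χ : IrrCharacter G) (t : G) :
    ∑ u ∈ classFinset t, ∑ v ∈ classFinset t, (χ : G → ℂ) (u * v) =
      ((classFinset t).card : ℂ) ^ 2 * ((χ : G → ℂ) t ^ 2 / (charDegree (χ : G → ℂ) : ℂ)) := by
  rw [Finset.sum_congr rfl fun u _ => sum_class_mul χ t u, ← Finset.mul_sum,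
    Finset.sum_congr rfl (g := fun _ => (χ : G → ℂ) t) fun u hu =>
      Blocks.IsClassFunction.eq_of_isConj (Blocks.irr_classFunction χ) (mem_classFinset.mp hu),
    Finset.sum_const, nsmul_eq_mul, Char.omega, BrauerReynolds.value_one, ← card_classFinset]
  ring

/-- The `3`-part. -/
noncomputable def threePart (g : G) : G := (Blocks.exists_isPPart (p := 3) Nat.prime_three g).choose

theorem isPPart_threePart (g : G) : IsPPart 3 g (threePart g) :=
  (Blocks.exists_isPPart (p := 3) Nat.prime_three g).choose_spec.1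

theorem threePart_eq {g x : G} (h : IsPPart 3 g x) : threePart g = x :=
  Blocks.IsPPart.unique Nat.prime_three (isPPart_threePart g) h

theorem threePart_conj (g a : G) : threePart (a * g * a⁻¹) = a * threePart g * a⁻¹ :=
  threePart_eq (Blocks.IsPPart.conj (isPPart_threePart g) a)

open scoped _root_.Classical in
/-- The number of pairs of conjugates of `t` with product of `3`-part `x`. -/
noncomputable def pairCount (t x : G) : ℕ :=
  ((classFinset t ×ˢ classFinset t).filter fun w => threePart (w.1 * w.2) = x).card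

theorem pairCount_conj (t x a : G) : pairCount t (a * x * a⁻¹) = pairCount t x := by
  classical
  refine Finset.card_bij' (fun w _ => (a⁻¹ * w.1 * a⁻¹⁻¹, a⁻¹ * w.2 * a⁻¹⁻¹))
    (fun w _ => (a * w.1 * a⁻¹, a * w.2 * a⁻¹)) (fun w hw => ?_) (fun w hw => ?_)
    (fun w _ => by simp [mul_assoc]) fun w _ => by simp [mul_assoc]
  · obtain ⟨hw1, hw2⟩ := Finset.mem_filter.mp hw
    obtain ⟨h1, h2⟩ := Finset.mem_product.mp hw1
    refine Finset.mem_filter.mpr ⟨Finset.mem_product.mpr
      ⟨conj_mem_classFinset _ h1, conj_mem_classFinset _ h2⟩, ?_⟩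
    rw [show a⁻¹ * w.1 * a⁻¹⁻¹ * (a⁻¹ * w.2 * a⁻¹⁻¹) = a⁻¹ * (w.1 * w.2) * a⁻¹⁻¹ by group,
      threePart_conj, hw2]
    group
  · obtain ⟨hw1, hw2⟩ := Finset.mem_filter.mp hw
    obtain ⟨h1, h2⟩ := Finset.mem_product.mp hw1
    refine Finset.mem_filter.mpr ⟨Finset.mem_product.mpr
      ⟨conj_mem_classFinset _ h1, conj_mem_classFinset _ h2⟩, ?_⟩
    rw [show a * w.1 * a⁻¹ * (a * w.2 * a⁻¹) = a * (w.1 * w.2) * a⁻¹ by group, threePart_conj, hw2]

open scoped _root_.Classical in
theorem card_conjugate_threePart (t y : G) :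
    ((classFinset t ×ˢ classFinset t).filter fun w => IsConj (threePart (w.1 * w.2)) y).card =
      (Subgroup.centralizer ({y} : Set G)).index * pairCount t y := by
  rw [Finset.card_eq_sum_card_fiberwise (f := fun w : G × G => threePart (w.1 * w.2))
    (t := classFinset y) fun w hw => mem_classFinset.mpr (Finset.mem_filter.mp hw).2,
    Finset.sum_congr rfl (g := fun _ => pairCount t y) fun x hx => ?_, Finset.sum_const,
    card_classFinset, smul_eq_mul]
  obtain ⟨a, rfl⟩ := isConj_iff.mp (mem_classFinset.mp hx).symm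
  rw [Finset.filter_filter, ← pairCount_conj t y a, pairCount]
  refine congrArg Finset.card (Finset.filter_congr fun w _ => ?_)
  exact ⟨fun h => h.2, fun h => ⟨by show IsConj (threePart _) y; rw [h]; exact mem_classFinset.mp hx, h⟩⟩

/-- The inverted Sylow subgroup in a group of order `9 * 2 ^ a * q`, with a `2`-central involution. -/
structure Setup (G : Type u) [Group G] [Fintype G] (q a k d : ℕ) where
  ctx : Ctx G q a 1
  P : Sylow 3 G
  inv : Inverted P
  six : Six P q k d
  selfCent : Subgroup.centralizer ((P : Subgroup G) : Set G) = (P : Subgroup G)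

variable {q a k d : ℕ}

theorem Setup.isConj_iff_eq_or_inv (T : Setup G q a k d) (x y : (T.P : Subgroup G)) :
    IsConj (x : G) y ↔ y = x ∨ y = x⁻¹ := by
  haveI : Fact (Nat.Prime 3) := ⟨Nat.prime_three⟩
  rw [Blocks.AbelianFrob.isConj_iff_autG T.P T.inv.comm x y]
  constructor
  · rintro ⟨w, hw, rfl⟩
    rcases T.inv.dich w hw with h | h
    · exact Or.inl (by rw [h, MulAut.one_apply])
    · exact Or.inr (h x)
  · rintro (rfl | rfl)
    · exact ⟨1, one_mem _, rfl⟩
    · obtain ⟨v, hv, hvx⟩ := T.inv.inv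
      exact ⟨v, hv, hvx x⟩

theorem Setup.conj_into (T : Setup G q a k d) {x : G} (hx : ∃ e, orderOf x = 3 ^ e) :
    ∃ c : G, c * x * c⁻¹ ∈ (T.P : Subgroup G) := by
  haveI : Fact (Nat.Prime 3) := ⟨Nat.prime_three⟩
  exact Blocks.AbelianFrob.exists_conj_mem_of_pow T.P hx

/-- A `2`-central involution centralizes no element of order three, and its values. -/
theorem Setup.exists_involution (T : Setup G q a k d) : ∃ t : G, orderOf t = 2 ∧
    Nat.card (Subgroup.centralizer ({t} : Set G)) = 2 ^ a ∧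
    ∀ ψ, ψ ≠ 1 → 1 - (T.six.χ : G → ℂ) t ^ 2 / (charDegree (T.six.χ : G → ℂ) : ℂ) +
      (T.six.θ ψ : G → ℂ) t ^ 2 / (charDegree (T.six.θ ψ : G → ℂ) : ℂ) = (2 : ℂ) ^ k / q := by
  classical
  haveI : Fact (Nat.Prime 2) := ⟨Nat.prime_two⟩
  haveI := T.ctx.simple
  have C := T.ctx
  have h2G : 2 ∣ Nat.card G := by
    have h := C.degree_dvd T.six.χ
    have hθ : ∀ ψ, ψ ≠ 1 → charDegree (T.six.θ ψ : G → ℂ) ∣ 9 * 2 ^ a * q ^ 1 := fun ψ _ => C.degree_dvd _
    rcases Nat.eq_zero_or_pos a with ha | ha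
    · exfalso
      obtain ⟨o⟩ := Blocks.AbelianFrob.nonempty_orb (P := T.P) (by rw [T.inv.card_orb]; norm_num)
      have h1 := hθ _ (Quotient.out o).2
      have h2 := T.six.θdeg _ (Quotient.out o).2
      have e2a : 2 ^ a = 1 := by rw [ha, pow_zero]
      rw [e2a, T.six.deg] at h
      rw [e2a] at h1
      rcases T.six.cases with ⟨rfl, -, rfl⟩ | ⟨rfl, -, rfl⟩
      · norm_num at h
      · rw [show charDegree (T.six.θ (Quotient.out o).1 : G → ℂ) = 16 by omega] at h1
        norm_num at h1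
    · rw [C.hcard]
      exact dvd_mul_of_dvd_left (dvd_mul_of_dvd_right (dvd_pow_self 2 ha.ne') _) _
  obtain ⟨S⟩ : Nonempty (Sylow 2 G) := inferInstance
  haveI : Nontrivial (S : Subgroup G) := Finite.one_lt_card_iff_nontrivial.mp (by
    have h := S.dvd_card_of_dvd_card h2G
    have := Nat.le_of_dvd Nat.card_pos h
    omega)
  haveI := S.2.center_nontrivial
  obtain ⟨e, he⟩ := (S.2.to_subgroup (Subgroup.center (S : Subgroup G))).exists_card_eq
  have he0 : e ≠ 0 := fun h => by
    have := Finite.one_lt_card (α := Subgroup.center (S : Subgroup G))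
    rw [he, h, pow_zero] at this
    exact lt_irrefl _ this
  obtain ⟨z, hz⟩ := exists_prime_orderOf_dvd_card' (G := Subgroup.center (S : Subgroup G)) 2
    (he ▸ dvd_pow_self 2 he0)
  set t : G := ((z : (S : Subgroup G)) : G) with ht
  have ht2 : orderOf t = 2 := by rw [ht, Subgroup.orderOf_coe, Subgroup.orderOf_coe, hz]
  have ht1 : t ≠ 1 := fun h => by rw [h, orderOf_one] at ht2; omega
  have htt : t * t = 1 := by rw [← pow_two, ← ht2, pow_orderOf_eq_one]
  have hle : (S : Subgroup G) ≤ Subgroup.centralizer ({t} : Set G) := fun x hx =>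
    Subgroup.mem_centralizer_singleton_iff.mpr
      (congrArg Subtype.val (Subgroup.mem_center_iff.mp z.2 ⟨x, hx⟩))
  have hodd : ¬ 2 ∣ (Subgroup.centralizer ({t} : Set G)).index := fun h =>
    S.not_dvd_index (h.trans (Subgroup.index_dvd_of_le hle))
  have ht3 : ¬ 3 ∣ orderOf t := by rw [ht2]; norm_num
  -- the values at `t`
  obtain ⟨ψ₀, hψ₀⟩ : ∃ ψ : (T.P : Subgroup G) →* ℂˣ, ψ ≠ 1 := by
    obtain ⟨o⟩ := Blocks.AbelianFrob.nonempty_orb (P := T.P) (by rw [T.inv.card_orb]; norm_num)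
    exact ⟨_, (Quotient.out o).2⟩
  have hval : ∀ ψ, ψ ≠ 1 → ∃ c : ℤ, (T.six.χ : G → ℂ) t = c ∧ (T.six.θ ψ : G → ℂ) t = c - 1 ∧
      ((q = 7 ∧ k = 3 ∧ d = 8 ∧ c = 0) ∨ (q = 17 ∧ k = 4 ∧ d = 17 ∧ c = 1)) := by
    intro ψ hψ
    have hrel := T.six.rel ψ hψ t ht3
    rcases T.six.cases with ⟨hq, hk, hd⟩ | ⟨hq, hk, hd⟩
    · have h0 := C.vanish T.six.ne_triv ht1 (by
        rw [T.six.deg, hd]
        exact ((Nat.prime_two.coprime_iff_not_dvd.mpr hodd).pow_left 3 : Nat.Coprime (2 ^ 3) _))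
      refine ⟨0, by rw [h0]; norm_num, ?_, Or.inl ⟨hq, hk, hd, rfl⟩⟩
      rw [h0] at hrel
      push_cast
      linear_combination hrel
    · have h0 := C.vanish (T.six.θ_ne_triv ψ hψ) ht1 (by
        have := T.six.θdeg ψ hψ
        rw [show charDegree (T.six.θ ψ : G → ℂ) = 16 by omega]
        exact ((Nat.prime_two.coprime_iff_not_dvd.mpr hodd).pow_left 4 : Nat.Coprime (2 ^ 4) _))
      rw [h0] at hrel
      refine ⟨1, ?_, by rw [h0]; norm_num, Or.inr ⟨hq, hk, hd, rfl⟩⟩
      push_cast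
      linear_combination -hrel
  obtain ⟨c, hc, -, hcases⟩ := hval ψ₀ hψ₀
  -- no element of order three centralizes `t`
  have hno3 : ¬ 3 ∣ Nat.card (Subgroup.centralizer ({t} : Set G)) := by
    intro h
    haveI : Fact (Nat.Prime 3) := ⟨Nat.prime_three⟩
    obtain ⟨y, hy⟩ := exists_prime_orderOf_dvd_card' (G := Subgroup.centralizer ({t} : Set G)) 3 h
    have hy' : orderOf (y : G) = 3 := by rw [Subgroup.orderOf_coe, hy]
    obtain ⟨g, hg⟩ := T.conj_into ⟨1, by rw [hy', pow_one]⟩
    set x := g * (y : G) * g⁻¹ with hx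
    set s := g * t * g⁻¹ with hs
    have hxo : orderOf x = 3 := (orderOf_injective (MulAut.conj g).toMonoidHom (MulAut.conj g).injective _).trans hy'
    have hso : orderOf s = 2 := (orderOf_injective (MulAut.conj g).toMonoidHom (MulAut.conj g).injective _).trans ht2
    have hss : s * s = 1 := by rw [← pow_two, ← hso, pow_orderOf_eq_one]
    have hcomm : x * s = s * x := by
      have e := Subgroup.mem_centralizer_singleton_iff.mp y.2
      simp only [hx, hs]
      calc g * (y : G) * g⁻¹ * (g * t * g⁻¹) = g * ((y : G) * t) * g⁻¹ := by group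
        _ = g * (t * (y : G)) * g⁻¹ := by rw [e]
        _ = g * t * g⁻¹ * (g * (y : G) * g⁻¹) := by group
    have hW : (T.six.χ : G → ℂ) (x * s) = ((-1 : ℤ) : ℂ) := by
      rw [T.six.χval (x * s) ⟨x, hg⟩ (Blocks.isPPart_mul (p := 3) hcomm ⟨1, by rw [hxo, pow_one]⟩
        (by rw [hso]; norm_num)) fun e => by
          change x = 1 at e
          rw [e, orderOf_one] at hxo
          omega]
      norm_num
    have hA : (T.six.χ : G → ℂ) s = (c : ℂ) := by
      rw [← hc]
      exact Blocks.IsClassFunction.eq_of_isConj (Blocks.irr_classFunction _) (isConj_iff.mpr ⟨g, rfl⟩).symm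
    have h3 := M12Order.dvd_sub_of_three (Char.isCharacter_of_isIrr T.six.χ.2) hxo hss hcomm hA hW
    rcases hcases with ⟨-, -, -, rfl⟩ | ⟨-, -, -, rfl⟩ <;> norm_num at h3
  have hqC : ¬ q ∣ Nat.card (Subgroup.centralizer ({t} : Set G)) :=
    C.not_dvd_centralizer ht1 (by
      rw [ht2]
      exact fun h => C.hq2 ((Nat.prime_dvd_prime_iff_eq C.hq Nat.prime_two).mp h))
  have hcard := (Subgroup.centralizer ({t} : Set G)).card_mul_index
  rw [C.hcard, pow_one] at hcard
  refine ⟨t, ht2, Nat.dvd_antisymm ?_ ?_, fun ψ hψ => ?_⟩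
  · have h1 : Nat.card (Subgroup.centralizer ({t} : Set G)) ∣ 9 * 2 ^ a * q := ⟨_, hcard.symm⟩
    have c3 : Nat.Coprime (Nat.card (Subgroup.centralizer ({t} : Set G))) 9 :=
      ((Nat.prime_three.coprime_iff_not_dvd.mpr hno3).symm.pow_right 2)
    exact c3.dvd_of_dvd_mul_left ((C.hq.coprime_iff_not_dvd.mpr hqC).symm.dvd_of_dvd_mul_right h1)
  · have h1 : 2 ^ a ∣ Nat.card (Subgroup.centralizer ({t} : Set G)) *
        (Subgroup.centralizer ({t} : Set G)).index := hcard ▸ (dvd_mul_left _ 9).mul_right q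
    exact ((Nat.prime_two.coprime_iff_not_dvd.mpr hodd).pow_left a).dvd_of_dvd_mul_right h1
  · obtain ⟨c', hc1, hc2, hcs⟩ := hval ψ hψ
    have := T.six.θdeg ψ hψ
    rcases hcs with ⟨rfl, rfl, rfl, rfl⟩ | ⟨rfl, rfl, rfl, rfl⟩
    · rw [hc1, hc2, T.six.deg, show charDegree (T.six.θ ψ : G → ℂ) = 7 by omega]
      norm_num
    · rw [hc1, hc2, T.six.deg, show charDegree (T.six.θ ψ : G → ℂ) = 16 by omega]
      norm_num

/-- The weighted number of pairs. -/
theorem Setup.pair_sum (T : Setup G q a k d) {t : G} (ht : Nat.card (Subgroup.centralizer ({t} : Set G)) = 2 ^ a)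
    {ψ : (T.P : Subgroup G) →* ℂˣ} (hψ : ψ ≠ 1)
    (hval : 1 - (T.six.χ : G → ℂ) t ^ 2 / (charDegree (T.six.χ : G → ℂ) : ℂ) +
      (T.six.θ ψ : G → ℂ) t ^ 2 / (charDegree (T.six.θ ψ : G → ℂ) : ℂ) = (2 : ℂ) ^ k / q) :
    ∑ u ∈ classFinset t, ∑ v ∈ classFinset t,
      (1 - (T.six.χ : G → ℂ) (u * v) + (T.six.θ ψ : G → ℂ) (u * v)) = (81 * q * 2 ^ k : ℕ) := by
  have hI : (classFinset t).card = 9 * q := by
    have h := (Subgroup.centralizer ({t} : Set G)).card_mul_index
    rw [ht, T.ctx.hcard, pow_one, ← card_classFinset] at h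
    refine Nat.eq_of_mul_eq_mul_left (pow_pos two_pos a) (h.trans ?_)
    ring
  simp only [Finset.sum_add_distrib, Finset.sum_sub_distrib, sum_pairs, Finset.sum_const, nsmul_eq_mul,
    mul_one, hI]
  have hq : (q : ℂ) ≠ 0 := Nat.cast_ne_zero.mpr T.ctx.hq.ne_zero
  push_cast
  field_simp at hval
  field_simp
  linear_combination 81 * hval

end CfsgLib.NineTwoPrimes
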