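import Cfsg.Agent.Lib.NineTwoPrimes.FrobChars
import Cfsg.Agent.Lib.Blocks.AbelianFrobeniusThree

/-!
An inverted Sylow `3`-subgroup in a simple group of order `9 * 2 ^ a * q ^ b`: `b = 1`, the pair
`(q, k)` is `(7, 3)` or `(17, 4)`, and the Sylow subgroup is self-centralizing.
-/

set_option autoImplicit false
set_option linter.style.haveILetI false
set_option linter.unusedSectionVars false

namespace CfsgLib.NineTwoPrimes

open Cfsg CfsgLib
open scoped ComplexConjugate CfsgLib.Char IsMulCommutative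

universe u

variable {G : Type u} [Group G] [Fintype G]

/-- The six characters with their degrees and signs. -/
structure Six (P : Sylow 3 G) (q k d : ℕ) where
  χ : IrrCharacter G
  θ : ((P : Subgroup G) →* ℂˣ) → IrrCharacter G
  cases : (q = 7 ∧ k = 3 ∧ d = 8) ∨ (q = 17 ∧ k = 4 ∧ d = 17)
  ne_triv : χ ≠ Blocks.trivIrr G
  θ_ne_triv : ∀ ψ, ψ ≠ 1 → θ ψ ≠ Blocks.trivIrr G
  deg : charDegree (χ : G → ℂ) = d
  θdeg : ∀ ψ, ψ ≠ 1 → charDegree (θ ψ : G → ℂ) + 1 = d
  χval : ∀ (z : G) (y : (P : Subgroup G)), IsPPart 3 z (y : G) → (y : G) ≠ 1 → (χ : G → ℂ) z = -1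
  θval : ∀ ψ, ψ ≠ 1 → ∀ (z : G) (y : (P : Subgroup G)), IsPPart 3 z (y : G) → (y : G) ≠ 1 →
    (θ ψ : G → ℂ) z = -(((ψ y : ℂˣ) : ℂ) + ((ψ y⁻¹ : ℂˣ) : ℂ))
  rel : ∀ ψ, ψ ≠ 1 → ∀ g, ¬ 3 ∣ orderOf g → 1 - (χ : G → ℂ) g + (θ ψ : G → ℂ) g = 0

theorem pow_of_mem {P : Sylow 3 G} {x : G} (hx : x ∈ (P : Subgroup G)) : ∃ k, orderOf x = 3 ^ k := by
  haveI : Fact (Nat.Prime 3) := ⟨Nat.prime_three⟩
  obtain ⟨k, hk⟩ := IsPGroup.iff_orderOf.mp P.2 ⟨x, hx⟩
  exact ⟨k, by rwa [← Subgroup.orderOf_mk]⟩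

theorem isPPart_coe {P : Sylow 3 G} (y : (P : Subgroup G)) : IsPPart 3 (y : G) (y : G) := by
  haveI : Fact (Nat.Prime 3) := ⟨Nat.prime_three⟩
  have h := Blocks.isPPart_mul (p := 3) (Commute.one_right (y : G)) (pow_of_mem y.2)
    (by rw [orderOf_one]; norm_num)
  rwa [mul_one] at h

/-- `b = 1` and the six characters. -/
theorem exists_six_shape {q a b : ℕ} (C : Ctx G q a b) (P : Sylow 3 G) (H : Inverted P) :
    b = 1 ∧ ∃ k d, Nonempty (Six P q k d) := by
  classical
  haveI : Fact (Nat.Prime 3) := ⟨Nat.prime_three⟩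
  haveI := H.comm
  obtain ⟨χ, ε, δ, θ, hε, hδ, hne, hθne, hχv, hθv, hrel⟩ := exists_six P H
  obtain ⟨o⟩ := Blocks.AbelianFrob.nonempty_orb (P := P) (by rw [H.card_orb]; norm_num)
  obtain ⟨ψ₀, hψ₀⟩ : ∃ ψ : (P : Subgroup G) →* ℂˣ, ψ ≠ 1 := ⟨_, (Quotient.out o).2⟩
  -- the relation at the identity
  have hdm : ∀ ψ, ψ ≠ 1 → 1 + ε * (charDegree (χ : G → ℂ) : ℤ) - δ * (charDegree (θ ψ : G → ℂ) : ℤ) = 0 :=
    fun ψ hψ => by
      have h := hrel ψ hψ 1 (by rw [orderOf_one]; norm_num)
      rw [BrauerReynolds.value_one, BrauerReynolds.value_one] at h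
      exact_mod_cast h
  have hd9 : (9 : ℤ) ∣ (charDegree (χ : G → ℂ) : ℤ) + 8 * ε := by
    obtain ⟨K, hK⟩ := M12Order.exists_nat_sum_subgroup (Char.isCharacter_of_isIrr χ.2) (P : Subgroup G)
    rw [← Finset.add_sum_erase _ _ (Finset.mem_univ (1 : (P : Subgroup G))),
      Finset.sum_congr rfl (g := fun _ => (ε : ℂ)) fun y hy =>
        hχv _ y (isPPart_coe y) fun e => Finset.ne_of_mem_erase hy (Subtype.ext e),
      Finset.sum_const, Finset.card_erase_of_mem (Finset.mem_univ _), Finset.card_univ,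
      ← Nat.card_eq_fintype_card, H.card, nsmul_eq_mul, OneMemClass.coe_one,
      BrauerReynolds.value_one] at hK
    refine ⟨K, Int.cast_injective (α := ℂ) ?_⟩
    push_cast at hK ⊢
    linear_combination hK
  have hm9 : (9 : ℤ) ∣ (charDegree (θ ψ₀ : G → ℂ) : ℤ) - 2 * δ := by
    obtain ⟨K, hK⟩ := M12Order.exists_nat_sum_subgroup (Char.isCharacter_of_isIrr (θ ψ₀).2) (P : Subgroup G)
    have hs : ∑ y : (P : Subgroup G), ((ψ₀ y : ℂˣ) : ℂ) = 0 := by
      rw [Blocks.AbelianFrob.sum_apply, if_neg hψ₀]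
    have hs' : ∑ y : (P : Subgroup G), ((ψ₀ y⁻¹ : ℂˣ) : ℂ) = 0 :=
      (Equiv.sum_comp (Equiv.inv _) fun y : (P : Subgroup G) => ((ψ₀ y : ℂˣ) : ℂ)).trans hs
    rw [← Finset.add_sum_erase _ _ (Finset.mem_univ (1 : (P : Subgroup G))), map_one, Units.val_one] at hs
    rw [← Finset.add_sum_erase _ _ (Finset.mem_univ (1 : (P : Subgroup G))), inv_one, map_one,
      Units.val_one] at hs'
    rw [← Finset.add_sum_erase _ _ (Finset.mem_univ (1 : (P : Subgroup G))),
      Finset.sum_congr rfl fun y hy =>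
        hθv ψ₀ hψ₀ _ y (isPPart_coe y) fun e => Finset.ne_of_mem_erase hy (Subtype.ext e),
      ← Finset.mul_sum, Finset.sum_add_distrib, OneMemClass.coe_one, BrauerReynolds.value_one,
      H.card] at hK
    refine ⟨K, Int.cast_injective (α := ℂ) ?_⟩
    push_cast at hK ⊢
    linear_combination hK - (δ : ℂ) * hs - (δ : ℂ) * hs'
  set d := charDegree (χ : G → ℂ) with hd
  set m := charDegree (θ ψ₀ : G → ℂ) with hm
  have h0 := hdm ψ₀ hψ₀
  have hd2 := C.two_le_degree hne
  have hm2 := C.two_le_degree (hθne ψ₀ hψ₀)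
  have h3d : ¬ 3 ∣ d := fun h => by
    have : (3 : ℤ) ∣ (d : ℤ) := by exact_mod_cast h
    rcases hε with rfl | rfl <;> omega
  have h3m : ¬ 3 ∣ m := fun h => by
    have : (3 : ℤ) ∣ (m : ℤ) := by exact_mod_cast h
    rcases hδ with rfl | rfl <;> omega
  obtain ⟨i, j, hdi⟩ := C.degree_shape χ h3d
  obtain ⟨i', j', hmi⟩ := C.degree_shape (θ ψ₀) h3m
  rw [← hd] at hdi hd2
  rw [← hm] at hmi hm2
  have hadj : 2 ^ i * q ^ j = 2 ^ i' * q ^ j' + 1 ∨ 2 ^ i * q ^ j + 1 = 2 ^ i' * q ^ j' := by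
    rw [← hdi, ← hmi]
    rcases hε with rfl | rfl <;> rcases hδ with rfl | rfl <;> omega
  have hshape := pair_shape C.hq C.hq2 C.hq3 (hdi ▸ hd2) (hmi ▸ hm2) hadj
  have main : b = 1 ∧ ∃ k, ((q = 7 ∧ k = 3 ∧ d = 8) ∨ (q = 17 ∧ k = 4 ∧ d = 17)) ∧ ε = -1 ∧ δ = -1 := by
    rcases hshape with ⟨hi, hj, hj', hq⟩ | ⟨hi', hj', hj, hq⟩
    · rw [hi, hj, pow_zero, one_mul, pow_one] at hdi
      rw [hj', pow_zero, mul_one] at hmi
      have hb := C.exponent_eq_one hdi
      refine ⟨hb, 4, ?_⟩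
      subst hb
      rcases C.q_mem hq with rfl | rfl | rfl
      · exfalso; rcases hε with rfl | rfl <;> omega
      · exfalso; rcases hε with rfl | rfl <;> omega
      · rcases hε with rfl | rfl
        · omega
        · rcases hδ with rfl | rfl
          · omega
          · exact ⟨Or.inr ⟨rfl, rfl, hdi⟩, rfl, rfl⟩
    · rw [hi', hj', pow_zero, one_mul, pow_one] at hmi
      rw [hj, pow_zero, mul_one] at hdi
      have hb := C.exponent_eq_one hmi
      refine ⟨hb, 3, ?_⟩
      subst hb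
      rcases C.q_mem hq with rfl | rfl | rfl <;> rcases hε with rfl | rfl <;> rcases hδ with rfl | rfl
      all_goals first
        | exact ⟨Or.inl ⟨rfl, rfl, by omega⟩, rfl, rfl⟩
        | (exfalso; omega)
  obtain ⟨hb, k, hk, rfl, rfl⟩ := main
  refine ⟨hb, k, d, ⟨{
    χ := χ
    θ := θ
    cases := hk
    ne_triv := hne
    θ_ne_triv := hθne
    deg := rfl
    θdeg := fun ψ hψ => ?_
    χval := fun z y hz hy => by rw [hχv z y hz hy]; push_cast; rfl
    θval := fun ψ hψ z y hz hy => by rw [hθv ψ hψ z y hz hy]; push_cast; ring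
    rel := fun ψ hψ g hg => by
      have := hrel ψ hψ g hg
      push_cast at this
      linear_combination this }⟩⟩
  have := hdm ψ hψ
  omega

/-- The Sylow subgroup is self-centralizing. -/
theorem self_centralizing {q a k d : ℕ} (C : Ctx G q a 1) (P : Sylow 3 G) (H : Inverted P)
    (S : Six P q k d) : Subgroup.centralizer ((P : Subgroup G) : Set G) = (P : Subgroup G) := by
  classical
  haveI : Fact (Nat.Prime 3) := ⟨Nat.prime_three⟩
  haveI := C.simple
  refine le_antisymm (fun c hc => ?_) (fun x hx => Subgroup.mem_centralizer_iff.mpr fun y hy =>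
    congrArg Subtype.val (H.comm.is_comm.comm (⟨y, hy⟩ : (P : Subgroup G)) ⟨x, hx⟩))
  -- no involution centralizes the Sylow subgroup
  have hinv : ∀ z ∈ Subgroup.centralizer ((P : Subgroup G) : Set G), orderOf z ≠ 2 := by
    intro z hz hz2
    have hzz : z * z = 1 := by rw [← pow_two, ← hz2, pow_orderOf_eq_one]
    have hz1 : z ≠ 1 := fun e => by rw [e, orderOf_one] at hz2; omega
    have hreg : ¬ 3 ∣ orderOf z := by rw [hz2]; norm_num
    have hcomm : ∀ (p : (P : Subgroup G)) (w : Subgroup.zpowers z), Commute (p : G) (w : G) := by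
      intro p w
      obtain ⟨n, hn⟩ := Subgroup.mem_zpowers_iff.mp w.2
      rw [← hn]
      exact (show Commute (p : G) z from Subgroup.mem_centralizer_iff.mp hz p p.2).zpow_right n
    let f : ↥(P : Subgroup G) × ↥(Subgroup.zpowers z) →* G :=
      MonoidHom.noncommCoprod (P : Subgroup G).subtype (Subgroup.zpowers z).subtype hcomm
    have hfv : ∀ (p : (P : Subgroup G)) (w : Subgroup.zpowers z), f (p, w) = (p : G) * (w : G) :=
      fun p w => rfl
    obtain ⟨K, hK⟩ := Char.exists_nat_classInner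
      (Char.isCharacter_comp f (Char.isCharacter_of_isIrr S.χ.2))
      (Char.isCharacter_one (G := ↥(P : Subgroup G) × ↥(Subgroup.zpowers z)))
    obtain ⟨c, hc⟩ := Blocks.AbelianFrob.exists_int_value (t := z) hz2 S.χ
    have huniv : (Finset.univ : Finset (Subgroup.zpowers z)) = {1, ⟨z, Subgroup.mem_zpowers z⟩} :=
      (Finset.eq_univ_of_card _ (by
        rw [Finset.card_pair (fun e => hz1 (congrArg Subtype.val e).symm), ← Nat.card_eq_fintype_card,
          Nat.card_zpowers, hz2])).symm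
    have hv : ∀ p : (P : Subgroup G), p ≠ 1 → ((S.χ : G → ℂ) p = -1 ∧ (S.χ : G → ℂ) ((p : G) * z) = -1) :=
      fun p hp => ⟨S.χval _ p (isPPart_coe p) fun e => hp (Subtype.ext e),
        S.χval _ p (Blocks.isPPart_mul (p := 3) (Subgroup.mem_centralizer_iff.mp hz p p.2)
          (pow_of_mem p.2) hreg) fun e => hp (Subtype.ext e)⟩
    rw [classInner, Fintype.sum_prod_type, huniv, Nat.card_prod, H.card, Nat.card_zpowers, hz2] at hK
    simp only [map_one, mul_one, Finset.sum_pair (fun e : (1 : Subgroup.zpowers z) = ⟨z, _⟩ =>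
      hz1 (congrArg Subtype.val e).symm), hfv, OneMemClass.coe_one] at hK
    rw [← Finset.add_sum_erase _ _ (Finset.mem_univ (1 : (P : Subgroup G))),
      Finset.sum_congr rfl (g := fun _ => (-2 : ℂ)) fun p hp => by
        rw [(hv p (Finset.ne_of_mem_erase hp)).1, (hv p (Finset.ne_of_mem_erase hp)).2]; norm_num,
      Finset.sum_const, Finset.card_erase_of_mem (Finset.mem_univ _), Finset.card_univ,
      ← Nat.card_eq_fintype_card, H.card, nsmul_eq_mul, OneMemClass.coe_one, one_mul,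
      BrauerReynolds.value_one, S.deg, hc] at hK
    have h18 : (d : ℤ) + c - 16 = 18 * K := by
      apply Int.cast_injective (α := ℂ)
      push_cast at hK ⊢
      field_simp at hK
      linear_combination hK
    have hne : c ≠ d := fun e => by
      have hf : z = 1 := BrauerReynolds.faithful_of_simple S.ne_triv (by
        rw [hc, BrauerReynolds.value_one, S.deg, e]; norm_cast)
      exact hz1 hf
    have h4 := four_dvd_degree_sub (Char.isCharacter_of_isIrr S.χ.2) (commutator_eq_top C.simple C.nonab)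
      hzz (d := d) (by rw [BrauerReynolds.value_one, S.deg]) hc
    have hb : |c| ≤ (d : ℤ) := by
      obtain ⟨n, ρ, hρ, e⟩ := S.χ.2
      have h1 := Char.norm_character_le ρ z
      have h2 := BrauerReynolds.value_one S.χ
      rw [S.deg, ← e, Representation.char_one, Nat.cast_inj] at h2
      rw [h2, e, hc, Complex.norm_intCast] at h1
      exact_mod_cast h1
    have := abs_le.mp hb
    rcases S.cases with ⟨-, -, rfl⟩ | ⟨-, -, rfl⟩ <;> omega
  -- the regular part is trivial
  obtain ⟨x, ⟨r, hxr, hcom, hx, hr⟩, hxz⟩ := Blocks.exists_isPPart (p := 3) Nat.prime_three c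
  have hxC : x ∈ Subgroup.centralizer ((P : Subgroup G) : Set G) := (Subgroup.zpowers_le.mpr hc) hxz
  have hrC : r ∈ Subgroup.centralizer ((P : Subgroup G) : Set G) := by
    have : r = x⁻¹ * c := by rw [← hxr, inv_mul_cancel_left]
    rw [this]; exact mul_mem (inv_mem hxC) hc
  have hr1 : r = 1 := by
    by_contra hne
    obtain ⟨s, hs, hsd⟩ := Nat.exists_prime_and_dvd (fun e => hne (orderOf_eq_one_iff.mp e))
    obtain ⟨y, hy⟩ := H.nontrivial
    have hyr : ∀ g ∈ Subgroup.zpowers r, g ∈ Subgroup.centralizer ({(y : G)} : Set G) := fun g hg =>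
      (Subgroup.centralizer_le (Set.singleton_subset_iff.mpr y.2)) ((Subgroup.zpowers_le.mpr hrC) hg)
    have hw : orderOf (r ^ (orderOf r / s)) = s := orderOf_pow_orderOf_div (orderOf_pos r).ne' hsd
    have hsG : s ∣ 9 * 2 ^ a * q := by
      have := (hsd.trans (orderOf_dvd_natCard r))
      rwa [C.hcard, pow_one] at this
    rcases hs.dvd_mul.mp hsG with h | h
    · rcases hs.dvd_mul.mp h with h' | h'
      · have := (Nat.prime_dvd_prime_iff_eq hs Nat.prime_three).mp (hs.dvd_of_dvd_pow (show s ∣ 3 ^ 2 from h'))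
        exact hr (this ▸ hsd)
      · have := (Nat.prime_dvd_prime_iff_eq hs Nat.prime_two).mp (hs.dvd_of_dvd_pow h')
        exact hinv _ ((Subgroup.zpowers_le.mpr hrC) (Subgroup.npow_mem_zpowers r _)) (hw.trans this)
    · have hsq := (Nat.prime_dvd_prime_iff_eq hs C.hq).mp h
      refine C.not_dvd_centralizer (y := (y : G)) (fun e => hy (Subtype.ext e)) (fun h' => ?_) ?_
      · obtain ⟨e, he⟩ := pow_of_mem y.2
        rw [he] at h'
        exact C.hq3 ((Nat.prime_dvd_prime_iff_eq C.hq Nat.prime_three).mp (C.hq.dvd_of_dvd_pow h'))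
      · rw [← hsq, ← hw]
        exact Subgroup.orderOf_dvd_natCard _ (hyr _ (Subgroup.npow_mem_zpowers r _))
  rw [hr1, mul_one] at hxr
  subst hxr
  -- a `3`-element centralizing `P` lies in `P`
  have hP : IsPGroup 3 ((P : Subgroup G) ⊔ Subgroup.zpowers x : Subgroup G) := by
    refine P.2.to_sup_of_normal_left' ?_ ?_
    · obtain ⟨e, he⟩ := hx
      exact IsPGroup.of_card (n := e) (by rw [Nat.card_zpowers, he])
    · refine Subgroup.zpowers_le.mpr (Subgroup.mem_normalizer_iff.mpr fun g => ?_)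
      constructor
      · intro hg
        rw [← Subgroup.mem_centralizer_iff.mp hxC g hg, mul_inv_cancel_right]
        exact hg
      · intro hg
        have e := Subgroup.mem_centralizer_iff.mp hxC _ hg
        have e' : g = x * g * x⁻¹ := by
          have e2 := congrArg (fun t => x⁻¹ * t) e
          simp only [← mul_assoc, inv_mul_cancel, one_mul, inv_mul_cancel_right] at e2
          exact e2
        rw [e']; exact hg
  have := P.3 hP le_sup_left
  exact this ▸ Subgroup.mem_sup_right (Subgroup.mem_zpowers x)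

end CfsgLib.NineTwoPrimes
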