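import Cfsg.Agent.Lib.NineTwoPrimes.Arith

/-!
Integer vectors of norm three: the `3 × 3` grid of degrees.
-/

set_option autoImplicit false
set_option linter.unusedSectionVars false

namespace CfsgLib.NineTwoPrimes

/-- The three possible shapes of the degrees `q` and `2 ^ k` with their signs. -/
def SignShape (q : ℕ) (s w : ℤ) : Prop :=
  (q = 5 ∧ s = -5 ∧ w = 4) ∨ (q = 7 ∧ s = 7 ∧ w = -8) ∨ (q = 17 ∧ s = -17 ∧ w = 16)

/-- A signed degree without prime divisor three. -/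
def Adm (q : ℕ) (z : ℤ) : Prop :=
  ∃ i j : ℕ, j ≤ 1 ∧ 2 ≤ 2 ^ i * q ^ j ∧ z.natAbs = 2 ^ i * q ^ j

theorem signShape_exists {q : ℕ} (h : q = 5 ∨ q = 7 ∨ q = 17) : ∃ s w, SignShape q s w := by
  rcases h with rfl | rfl | rfl
  · exact ⟨-5, 4, Or.inl ⟨rfl, rfl, rfl⟩⟩
  · exact ⟨7, -8, Or.inr (Or.inl ⟨rfl, rfl, rfl⟩)⟩
  · exact ⟨-17, 16, Or.inr (Or.inr ⟨rfl, rfl, rfl⟩)⟩

theorem two_pow_ne (i : ℕ) : 2 ^ i ≠ 6 ∧ 2 ^ i ≠ 18 := by
  rcases Nat.lt_or_ge i 5 with h | h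
  · interval_cases i <;> norm_num
  · have : 2 ^ 5 ≤ 2 ^ i := Nat.pow_le_pow_right (by norm_num) h
    norm_num at this
    omega

theorem SignShape.prime {q : ℕ} {s w : ℤ} (h : SignShape q s w) :
    q.Prime ∧ q ≠ 2 ∧ q ≠ 3 := by
  rcases h with ⟨rfl, -, -⟩ | ⟨rfl, -, -⟩ | ⟨rfl, -, -⟩ <;> norm_num

/-- Two signed degrees with sum `-1`. -/
theorem SignShape.pair {q : ℕ} {s w X Y : ℤ} (h : SignShape q s w) (hX : Adm q X) (hY : Adm q Y)
    (hsum : 1 + X + Y = 0) : (X = s ∧ Y = w) ∨ (X = w ∧ Y = s) := by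
  obtain ⟨hq, h2, h3⟩ := h.prime
  obtain ⟨i, j, -, hi, eX⟩ := hX
  obtain ⟨i', j', -, hi', eY⟩ := hY
  have hadj : 2 ^ i * q ^ j = 2 ^ i' * q ^ j' + 1 ∨ 2 ^ i * q ^ j + 1 = 2 ^ i' * q ^ j' := by
    omega
  obtain ⟨n6, n18⟩ := two_pow_ne i
  obtain ⟨n6', n18'⟩ := two_pow_ne i'
  rcases pair_shape hq h2 h3 hi hi' hadj with ⟨rfl, rfl, rfl, hk⟩ | ⟨rfl, rfl, rfl, hk⟩ <;>
    simp only [pow_zero, pow_one, one_mul, mul_one] at eX eY hi hi' <;>
    rcases h with ⟨rfl, rfl, rfl⟩ | ⟨rfl, rfl, rfl⟩ | ⟨rfl, rfl, rfl⟩ <;> omega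

/-- An odd signed degree. -/
theorem Adm.odd {q : ℕ} {z : ℤ} (h : Adm q z) (hz : ¬ (2 : ℤ) ∣ z) : z = q ∨ z = -(q : ℤ) := by
  obtain ⟨i, j, hj, hi, e⟩ := h
  rcases Nat.eq_zero_or_pos i with rfl | hi0
  · interval_cases j
    · norm_num at hi
    · simp only [pow_zero, pow_one, one_mul] at e
      omega
  · have : 2 ∣ z.natAbs := e ▸ dvd_mul_of_dvd_left (dvd_pow_self 2 hi0.ne') _
    omega

theorem SignShape.not_adm {q : ℕ} {s w : ℤ} (h : SignShape q s w) : ¬ Adm q (2 * s - w) := by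
  rintro ⟨i, j, hj, -, e⟩
  have hb : 2 ^ i ≤ 64 := by
    have h1 : 2 ^ i ≤ 2 ^ i * q ^ j := Nat.le_mul_of_pos_right _ (pow_pos h.prime.1.pos _)
    rcases h with ⟨rfl, rfl, rfl⟩ | ⟨rfl, rfl, rfl⟩ | ⟨rfl, rfl, rfl⟩ <;> omega
  have hi : i ≤ 6 := (Nat.pow_le_pow_iff_right (by norm_num : 1 < 2)).mp hb
  rcases h with ⟨rfl, rfl, rfl⟩ | ⟨rfl, rfl, rfl⟩ | ⟨rfl, rfl, rfl⟩ <;>
    interval_cases i <;> interval_cases j <;> norm_num at e

theorem grid_arith {q : ℕ} {s w z z' y y' : ℤ} (h : SignShape q s w) (hz : Adm q z) (hz' : Adm q z')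
    (hy' : Adm q y') (e1 : s + z + z' = 0) (e2 : s + z + y = 0) (e3 : w + y + y' = 0) : False := by
  have hsw : 1 + s + w = 0 := by
    rcases h with ⟨rfl, rfl, rfl⟩ | ⟨rfl, rfl, rfl⟩ | ⟨rfl, rfl, rfl⟩ <;> rfl
  have hsq : s = q ∨ s = -(q : ℤ) := by
    rcases h with ⟨rfl, rfl, rfl⟩ | ⟨rfl, rfl, rfl⟩ | ⟨rfl, rfl, rfl⟩ <;> norm_num
  have hodd : ¬ (2 : ℤ) ∣ s := by
    rcases h with ⟨rfl, rfl, rfl⟩ | ⟨rfl, rfl, rfl⟩ | ⟨rfl, rfl, rfl⟩ <;> norm_num
  have hne : ∀ t, Adm q t → t ≠ 0 ∧ t ≠ 1 := by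
    rintro t ⟨i, j, -, hi, e⟩; omega
  have := hne z hz
  have := hne z' hz'
  have := hne y' hy'
  by_cases hze : (2 : ℤ) ∣ z
  · have hz'o : ¬ (2 : ℤ) ∣ z' := by omega
    have := hz'.odd hz'o
    omega
  · have := hz.odd hze
    refine h.not_adm ?_
    rw [show 2 * s - w = y' by omega]
    exact hy'

theorem grid_contra {q : ℕ} {s w X Y A B z z' y y' : ℤ} (h : SignShape q s w)
    (hXY : (X = s ∧ Y = w) ∨ (X = w ∧ Y = s)) (hAB : (A = s ∧ B = w) ∨ (A = w ∧ B = s))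
    (hz : Adm q z) (hz' : Adm q z') (hy : Adm q y) (hy' : Adm q y')
    (e1 : X + z + z' = 0) (e2 : A + z + y = 0) (e3 : Y + y + y' = 0) : False := by
  rcases hXY with ⟨rfl, rfl⟩ | ⟨rfl, rfl⟩ <;> rcases hAB with ⟨rfl, rfl⟩ | ⟨rfl, rfl⟩
  · exact grid_arith h hz hz' hy' e1 e2 e3
  · exact grid_arith (y := y') h hz' hz hy (by omega) (by omega) (by omega)
  · exact grid_arith (y := z) h hy hy' hz' (by omega) (by omega) (by omega)
  · exact grid_arith (y := z') h hy' hy hz (by omega) (by omega) (by omega)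

theorem half_degrees {q : ℕ} {s w : ℤ} (h : SignShape q s w) {X Y Z ε : ℤ} (hε : ε = 1 ∨ ε = -1)
    (hZ : Z = s ∨ Z = w) (h1 : 1 + X + Y = 0) (h2 : ε * X - ε * Y + Z = 0) {m n : ℤ} (hm : 2 ≤ m)
    (hn : 2 ≤ n) (eX : X = m ∨ X = -m) (eY : Y = n ∨ Y = -n) :
    ((q : ℤ) = 5 ∧ (m = 2 ∧ n = 3 ∨ m = 3 ∧ n = 2)) ∨
      ((q : ℤ) = 7 ∧ (m = 3 ∧ n = 4 ∨ m = 4 ∧ n = 3)) ∨
      ((q : ℤ) = 17 ∧ (m = 8 ∧ n = 9 ∨ m = 9 ∧ n = 8)) := by
  rcases h with ⟨rfl, rfl, rfl⟩ | ⟨rfl, rfl, rfl⟩ | ⟨rfl, rfl, rfl⟩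
  · refine Or.inl ⟨rfl, ?_⟩
    rcases hε with rfl | rfl <;> rcases hZ with rfl | rfl <;> omega
  · refine Or.inr (Or.inl ⟨rfl, ?_⟩)
    rcases hε with rfl | rfl <;> rcases hZ with rfl | rfl <;> omega
  · refine Or.inr (Or.inr ⟨rfl, ?_⟩)
    rcases hε with rfl | rfl <;> rcases hZ with rfl | rfl <;> omega

section Vectors

variable {ι : Type*} [Fintype ι] [DecidableEq ι]

/-- The scalar product. -/
def dot (u v : ι → ℤ) : ℤ := ∑ x, u x * v x

theorem dot_comm (u v : ι → ℤ) : dot u v = dot v u := Finset.sum_congr rfl fun _ _ => mul_comm _ _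

theorem dot_sub (u v w : ι → ℤ) : dot u (v - w) = dot u v - dot u w := by
  simp only [dot, Pi.sub_apply, mul_sub, Finset.sum_sub_distrib]

theorem sub_dot (u v w : ι → ℤ) : dot (u - v) w = dot u w - dot v w := by
  rw [dot_comm, dot_sub, dot_comm w u, dot_comm w v]

theorem sum_three {x y z : ι} (hxy : x ≠ y) (hxz : x ≠ z) (hyz : y ≠ z) {f : ι → ℤ}
    (hf : ∀ w, w ≠ x → w ≠ y → w ≠ z → f w = 0) : ∑ w, f w = f x + f y + f z := by
  rw [← Finset.sum_subset (Finset.subset_univ {x, y, z}) fun w _ hw => by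
    simp only [Finset.mem_insert, Finset.mem_singleton, not_or] at hw
    exact hf w hw.1 hw.2.1 hw.2.2, Finset.sum_insert (by simp [hxy, hxz]), Finset.sum_pair hyz]
  ring

theorem unit_of_ne_zero {v : ι → ℤ} (h3 : dot v v = 3) (x : ι) :
    v x = 0 ∨ v x = 1 ∨ v x = -1 := by
  have h : v x * v x ≤ 3 := h3 ▸ Finset.single_le_sum (f := fun w => v w * v w)
    (fun w _ => mul_self_nonneg _) (Finset.mem_univ x)
  have h1 : v x ≤ 1 := by nlinarith
  have h2 : -1 ≤ v x := by nlinarith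
  omega

/-- A vector of norm three with three known places. -/
theorem supp_three {v : ι → ℤ} (h3 : dot v v = 3) {x y z : ι} (hxy : x ≠ y) (hxz : x ≠ z)
    (hyz : y ≠ z) (hx : v x ≠ 0) (hy : v y ≠ 0) (hz : v z ≠ 0) :
    ∀ w, w ≠ x → w ≠ y → w ≠ z → v w = 0 := by
  intro w h1 h2 h4
  have key : ∑ u ∈ ({w, x, y, z} : Finset ι), v u * v u ≤ 3 :=
    h3 ▸ Finset.sum_le_sum_of_subset_of_nonneg (Finset.subset_univ _) fun u _ _ => mul_self_nonneg _
  rw [Finset.sum_insert (by simp [h1, h2, h4]), Finset.sum_insert (by simp [hxy, hxz]),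
    Finset.sum_pair hyz] at key
  rcases unit_of_ne_zero h3 x with e | e | e <;> rcases unit_of_ne_zero h3 y with e' | e' | e' <;>
    rcases unit_of_ne_zero h3 z with e'' | e'' | e'' <;> rcases unit_of_ne_zero h3 w with e4 | e4 | e4 <;>
    first
      | exact e4
      | contradiction
      | (exfalso; rw [e, e', e'', e4] at key; norm_num at key)

/-- Two further places of a vector of norm three. -/
theorem exists_rest {v : ι → ℤ} (h3 : dot v v = 3) {x : ι} (hx : v x ≠ 0) :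
    ∃ y z, x ≠ y ∧ x ≠ z ∧ y ≠ z ∧ v y ≠ 0 ∧ v z ≠ 0 := by
  set S := (Finset.univ.filter fun w => v w ≠ 0).erase x
  have hone : ∀ w, v w ≠ 0 → v w * v w = 1 := fun w hw => by
    rcases unit_of_ne_zero h3 w with e | e | e
    · exact absurd e hw
    all_goals rw [e]; norm_num
  have hS : (S.card : ℤ) = 2 := by
    have h := h3
    rw [dot, ← Finset.sum_filter_of_ne (p := fun w => v w ≠ 0) fun w _ hw e => hw (by rw [e, mul_zero]),
      Finset.sum_congr rfl (g := fun _ => (1 : ℤ)) (fun w hw => hone w (Finset.mem_filter.mp hw).2),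
      Finset.sum_const, nsmul_one] at h
    have hmem : x ∈ Finset.univ.filter fun w => v w ≠ 0 := Finset.mem_filter.mpr ⟨Finset.mem_univ _, hx⟩
    rw [← Finset.card_erase_add_one hmem] at h
    push_cast at h
    linarith
  obtain ⟨y, z, hyz, hyzS⟩ := Finset.card_eq_two.mp (show S.card = 2 by exact_mod_cast hS)
  have hy : y ∈ S := hyzS ▸ Finset.mem_insert_self _ _
  have hz : z ∈ S := hyzS ▸ Finset.mem_insert_of_mem (Finset.mem_singleton_self _)
  exact ⟨y, z, (Finset.ne_of_mem_erase hy).symm, (Finset.ne_of_mem_erase hz).symm, hyz,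
    (Finset.mem_filter.mp (Finset.mem_of_mem_erase hy)).2,
    (Finset.mem_filter.mp (Finset.mem_of_mem_erase hz)).2⟩

/-- A value through a sign. -/
theorem signed {v : ι → ℤ} (h3 : dot v v = 3) {x : ι} (hx : v x ≠ 0) (n : ℤ) :
    n = v x * (v x * n) ∧ (v x * n = n ∨ v x * n = -n) := by
  rcases unit_of_ne_zero h3 x with e | e | e
  · exact absurd e hx
  all_goals rw [e]; simp

/-- The signed support of a principal vector. -/
structure Pair (e : ι) (v : ι → ℤ) (x y : ι) : Prop where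
  xy : x ≠ y
  xe : x ≠ e
  ye : y ≠ e
  vx : v x ≠ 0
  vy : v y ≠ 0
  zero : ∀ w, w ≠ e → w ≠ x → w ≠ y → v w = 0

theorem exists_pair {e : ι} {v : ι → ℤ} (h3 : dot v v = 3) (he : v e = 1) :
    ∃ x y, Pair e v x y := by
  obtain ⟨x, y, hex, hey, hxy, hx, hy⟩ := exists_rest h3 (x := e) (by omega)
  exact ⟨x, y, hxy, hex.symm, hey.symm, hx, hy, supp_three h3 hex hey hxy (by omega) hx hy⟩

theorem Pair.dot_left {e x y : ι} {v : ι → ℤ} (p : Pair e v x y) (he : v e = 1) (u : ι → ℤ) :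
    dot v u = u e + v x * u x + v y * u y := by
  rw [dot, sum_three p.xe.symm p.ye.symm p.xy fun w h1 h2 h3 => by rw [p.zero w h1 h2 h3, zero_mul],
    he, one_mul]

/-- The first stage: two principal vectors and their product. -/
structure Stage (e : ι) (d : ι → ℤ) (r c t : ι → ℤ) : Prop where
  de : d e = 1
  two : ∀ x, x ≠ e → 2 ≤ d x
  rr : dot r r = 3
  cc : dot c c = 3
  rc : dot r c = 1
  tt : dot t t = 9
  tr : dot t r = 3
  tc : dot t c = 3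
  re : r e = 1
  ce : c e = 1
  te : t e = 1
  dr : dot r d = 0
  dc : dot c d = 0
  dt : dot t d = 0

theorem Stage.swap {e : ι} {d r c t : ι → ℤ} (S : Stage e d r c t) : Stage e d c r t :=
  ⟨S.de, S.two, S.cc, S.rr, (dot_comm c r).trans S.rc, S.tt, S.tc, S.tr, S.ce, S.re, S.te, S.dc,
    S.dr, S.dt⟩

theorem Stage.disjoint {e : ι} {d r c t : ι → ℤ} (S : Stage e d r c t) {A B x y : ι}
    (p : Pair e r A B) (p' : Pair e c x y) : r x = 0 ∧ r y = 0 := by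
  have h := p.dot_left S.re c
  rw [S.rc, S.ce] at h
  have key : ∀ w, r w = 0 ∨ c w = 0 ∨ w = e := by
    by_contra hc
    push Not at hc
    obtain ⟨w, hr, hcw, hwe⟩ := hc
    have hw : w = A ∨ w = B := by
      by_contra hn
      push Not at hn
      exact hr (p.zero w hwe hn.1 hn.2)
    have hA : c A ≠ 0 ∧ c B ≠ 0 := by
      rcases hw with rfl | rfl
      · refine ⟨hcw, fun h0 => ?_⟩
        rw [h0, mul_zero, add_zero] at h
        exact (mul_ne_zero p.vx hcw) (by omega)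
      · refine ⟨fun h0 => ?_, hcw⟩
        rw [h0, mul_zero, add_zero] at h
        exact (mul_ne_zero p.vy hcw) (by omega)
    have hdr := p.dot_left S.re d
    rw [S.dr, S.de] at hdr
    have hdc := S.dc
    rw [dot, sum_three p.xe.symm p.ye.symm p.xy (fun w h1 h2 h3 => by
      rw [supp_three S.cc p.xe.symm p.ye.symm p.xy (by rw [S.ce]; norm_num) hA.1 hA.2 w h1 h2 h3,
        zero_mul]), S.ce, S.de] at hdc
    have h2A := S.two A p.xe
    have h2B := S.two B p.ye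
    obtain ⟨eX, eX'⟩ := signed S.rr p.vx (d A)
    obtain ⟨eY, eY'⟩ := signed S.rr p.vy (d B)
    obtain ⟨eU, -⟩ := signed S.rr p.vx (c A)
    obtain ⟨eV, -⟩ := signed S.rr p.vy (c B)
    rw [eU, eV, show r A * (r A * c A) * d A = r A * c A * (r A * d A) by ring,
      show r B * (r B * c B) * d B = r B * c B * (r B * d B) by ring] at hdc
    rcases unit_of_ne_zero S.cc A with a2 | a2 | a2
    · exact hA.1 a2
    all_goals
      rcases unit_of_ne_zero S.rr A with a1 | a1 | a1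
      · exact p.vx a1
      all_goals
        rw [show r B * c B = -(r A * c A) by linarith, a1, a2] at hdc
        rw [a1] at hdr eX'
        omega
  exact ⟨((key x).resolve_right fun h => h.elim p'.vx p'.xe),
    ((key y).resolve_right fun h => h.elim p'.vy p'.ye)⟩

/-- A principal vector agreeing with the product. -/
def Proper (e : ι) (v t : ι → ℤ) : Prop := ∃ x y, Pair e v x y ∧ t x = v x ∧ t y = v y

/-- One of the two principal vectors is proper. -/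
theorem Stage.proper {e : ι} {d r c t : ι → ℤ} (S : Stage e d r c t) :
    Proper e r t ∨ Proper e c t := by
  obtain ⟨A, B, p⟩ := exists_pair S.rr S.re
  obtain ⟨x, y, p'⟩ := exists_pair S.cc S.ce
  obtain ⟨hrx, hry⟩ := S.disjoint p p'
  obtain ⟨hcA, hcB⟩ := S.swap.disjoint p' p
  have h1 := p.dot_left S.re t
  rw [dot_comm, S.tr, S.te] at h1
  have h2 := p'.dot_left S.ce t
  rw [dot_comm, S.tc, S.te] at h2
  have hsq : ∀ {v : ι → ℤ} {w : ι}, dot v v = 3 → v w ≠ 0 → v w * v w = 1 := by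
    intro v w h3 hw
    rcases unit_of_ne_zero h3 w with e0 | e0 | e0
    · exact absurd e0 hw
    all_goals rw [e0]; norm_num
  have hA := hsq S.rr p.vx
  have hB := hsq S.rr p.vy
  have hx := hsq S.cc p'.vx
  have hy := hsq S.cc p'.vy
  have hAx : A ≠ x := fun h => p.vx (h ▸ hrx)
  have hAy : A ≠ y := fun h => p.vx (h ▸ hry)
  have hBx : B ≠ x := fun h => p.vy (h ▸ hrx)
  have hBy : B ≠ y := fun h => p.vy (h ▸ hry)
  set T : Finset ι := {e, A, B, x, y}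
  have hsum : ∀ f : ι → ℤ, ∑ w ∈ T, f w = f e + f A + f B + f x + f y := fun f => by
    rw [Finset.sum_insert (by simp [p.xe.symm, p.ye.symm, p'.xe.symm, p'.ye.symm]),
      Finset.sum_insert (by simp [p.xy, hAx, hAy]), Finset.sum_insert (by simp [hBx, hBy]),
      Finset.sum_pair p'.xy]
    ring
  have hle : ∑ w ∈ T, t w * t w ≤ 9 :=
    S.tt ▸ Finset.sum_le_sum_of_subset_of_nonneg (Finset.subset_univ _) fun u _ _ => mul_self_nonneg _
  rw [hsum, S.te] at hle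
  set u := r A * t A with hu
  set v := r B * t B with hv
  set u' := c x * t x with hu'
  set v' := c y * t y with hv'
  have eA : t A = r A * u := by rw [hu, ← mul_assoc, hA, one_mul]
  have eB : t B = r B * v := by rw [hv, ← mul_assoc, hB, one_mul]
  have ex : t x = c x * u' := by rw [hu', ← mul_assoc, hx, one_mul]
  have ey : t y = c y * v' := by rw [hv', ← mul_assoc, hy, one_mul]
  have hs : ∀ a b : ℤ, a * a = 1 → (a * b) * (a * b) = b * b := fun a b h => by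
    calc (a * b) * (a * b) = a * a * (b * b) := by ring
      _ = b * b := by rw [h, one_mul]
  rw [eA, eB, ex, ey, hs _ _ hA, hs _ _ hB, hs _ _ hx, hs _ _ hy] at hle
  have bu : 0 ≤ u ∧ u ≤ 2 := by
    constructor <;> nlinarith [sq_nonneg (u' - v'), sq_nonneg (u - v)]
  have bu' : 0 ≤ u' ∧ u' ≤ 2 := by
    constructor <;> nlinarith [sq_nonneg (u' - v'), sq_nonneg (u - v)]
  by_cases h11 : u = 1
  · exact Or.inl ⟨A, B, p, by rw [eA, h11, mul_one], by rw [eB, show v = 1 by omega, mul_one]⟩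
  by_cases h11' : u' = 1
  · exact Or.inr ⟨x, y, p', by rw [ex, h11', mul_one], by rw [ey, show v' = 1 by omega, mul_one]⟩
  exfalso
  have hu2 : (u = 0 ∧ v = 2) ∨ (u = 2 ∧ v = 0) := by
    obtain ⟨_, _⟩ := bu
    omega
  have hu2' : (u' = 0 ∧ v' = 2) ∨ (u' = 2 ∧ v' = 0) := by
    obtain ⟨_, _⟩ := bu'
    omega
  have hzero : ∀ w, w ∉ T → t w = 0 := by
    intro w hw
    have h' : ∑ z ∈ insert w T, t z * t z ≤ 9 :=
      S.tt ▸ Finset.sum_le_sum_of_subset_of_nonneg (Finset.subset_univ _) fun u _ _ => mul_self_nonneg _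
    rw [Finset.sum_insert hw, hsum, S.te, eA, eB, ex, ey, hs _ _ hA, hs _ _ hB, hs _ _ hx, hs _ _ hy] at h'
    have h0 : t w * t w ≤ 0 := by
      rcases hu2 with ⟨a1, b1⟩ | ⟨a1, b1⟩ <;> rcases hu2' with ⟨a2, b2⟩ | ⟨a2, b2⟩ <;>
        rw [a1, b1, a2, b2] at h' <;> linarith
    exact mul_self_eq_zero.mp (le_antisymm h0 (mul_self_nonneg _))
  have hd := S.dt
  rw [dot, ← Finset.sum_subset (Finset.subset_univ T) (fun w _ hw => by rw [hzero w hw, zero_mul]),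
    hsum, S.te, S.de, eA, eB, ex, ey] at hd
  rcases hu2 with ⟨a1, b1⟩ | ⟨a1, b1⟩ <;> rcases hu2' with ⟨a2, b2⟩ | ⟨a2, b2⟩ <;>
    rw [a1, b1, a2, b2] at hd <;> ring_nf at hd <;> omega

/-- The second stage: one further pair of vectors. -/
structure Grid (q : ℕ) (s w : ℤ) (e : ι) (d r r₁ c c₁ t : ι → ℤ) : Prop extends Stage e d r c t where
  shape : SignShape q s w
  adm : ∀ x, x ≠ e → (t x = 1 ∨ t x = -1) → Adm q (t x * d x)
  exc : ∀ x y, (∀ m : ℤ, (m = 0 ∨ m = 1 ∨ m = -1) → ¬ d x ≡ m [ZMOD q]) →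
    (∀ m : ℤ, (m = 0 ∨ m = 1 ∨ m = -1) → ¬ d y ≡ m [ZMOD q]) → d x = d y
  r₁r₁ : dot r₁ r₁ = 3
  rr₁ : dot r r₁ = 0
  r₁c : dot r₁ c = 1
  tr₁ : dot t r₁ = 3
  r₁e : r₁ e = 0
  dr₁ : dot r₁ d = 0
  c₁c₁ : dot c₁ c₁ = 3
  cc₁ : dot c c₁ = 0
  c₁r : dot c₁ r = 1
  tc₁ : dot t c₁ = 3
  c₁e : c₁ e = 0
  dc₁ : dot c₁ d = 0
  r₁c₁ : dot r₁ c₁ = 1

variable {q : ℕ} {s w : ℤ} {e : ι} {d r r₁ c c₁ t : ι → ℤ}

theorem Grid.swap (D : Grid q s w e d r r₁ c c₁ t) : Grid q s w e d c c₁ r r₁ t :=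
  { toStage := D.toStage.swap, shape := D.shape, adm := D.adm, exc := D.exc, r₁r₁ := D.c₁c₁,
    rr₁ := D.cc₁, r₁c := D.c₁r, tr₁ := D.tc₁, r₁e := D.c₁e, dr₁ := D.dc₁, c₁c₁ := D.r₁r₁,
    cc₁ := D.rr₁, c₁r := D.r₁c, tc₁ := D.tr₁, c₁e := D.r₁e, dc₁ := D.dr₁,
    r₁c₁ := (dot_comm c₁ r₁).trans D.r₁c₁ }

/-- Three places of a vector of norm three agreeing with the product. -/
structure Triple (d v t : ι → ℤ) (x z z' : ι) : Prop where
  xz : x ≠ z
  xz' : x ≠ z'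
  zz' : z ≠ z'
  zero : ∀ u, u ≠ x → u ≠ z → u ≠ z' → v u = 0
  ex : v x = t x
  ez : v z = t z
  ez' : v z' = t z'
  nx : v x ≠ 0
  nz : v z ≠ 0
  nz' : v z' ≠ 0
  rel : t x * d x + t z * d z + t z' * d z' = 0

/-- A vector meeting both places of a principal pair gives a forbidden pair of degrees. -/
theorem Grid.no_overlap (D : Grid q s w e d r r₁ c c₁ t) {A B x : ι} (p : Pair e r A B)
    (hxA : x ≠ A) (hxB : x ≠ B) {v : ι → ℤ} (h3 : dot v v = 3) (hrv : dot r v = 0) (hve : v e = 0)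
    (hd : dot v d = 0) (hx : v x ≠ 0) (hX : v x * d x = s ∨ v x * d x = w) : v A = 0 ∧ v B = 0 := by
  have h := p.dot_left D.re v
  rw [hrv, hve, zero_add] at h
  by_contra hne
  have hAB : v A ≠ 0 ∧ v B ≠ 0 := by
    have hiff : v A = 0 ↔ v B = 0 := ⟨fun h0 => by
        rw [h0, mul_zero, zero_add] at h
        exact (mul_eq_zero.mp h.symm).resolve_left p.vy,
      fun h0 => by
        rw [h0, mul_zero, add_zero] at h
        exact (mul_eq_zero.mp h.symm).resolve_left p.vx⟩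
    exact ⟨fun h0 => hne ⟨h0, hiff.mp h0⟩, fun h0 => hne ⟨hiff.mpr h0, h0⟩⟩
  have hdr := p.dot_left D.re d
  rw [D.dr, D.de] at hdr
  rw [dot, sum_three p.xy hxA.symm hxB.symm (fun u h1 h2 h4 => by
    rw [supp_three h3 p.xy hxA.symm hxB.symm hAB.1 hAB.2 hx u h1 h2 h4, zero_mul])] at hd
  have hA2 := D.two A p.xe
  have hB2 := D.two B p.ye
  obtain ⟨eX, eX'⟩ := signed D.rr p.vx (d A)
  obtain ⟨eY, eY'⟩ := signed D.rr p.vy (d B)
  obtain ⟨eU, -⟩ := signed D.rr p.vx (v A)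
  obtain ⟨eV, -⟩ := signed D.rr p.vy (v B)
  rw [eU, eV, show r A * (r A * v A) * d A = r A * v A * (r A * d A) by ring,
    show r B * (r B * v B) * d B = r B * v B * (r B * d B) by ring,
    show r B * v B = -(r A * v A) by linarith] at hd
  have hu : r A * v A = 1 ∨ r A * v A = -1 := by
    rcases unit_of_ne_zero h3 A with a2 | a2 | a2
    · exact absurd a2 hAB.1
    all_goals
      rcases unit_of_ne_zero D.rr A with a1 | a1 | a1
      · exact absurd a1 p.vx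
      all_goals rw [a1, a2]; norm_num
  have key : ((q : ℤ) = 5 ∧ (d A = 2 ∧ d B = 3 ∨ d A = 3 ∧ d B = 2)) ∨
      ((q : ℤ) = 7 ∧ (d A = 3 ∧ d B = 4 ∨ d A = 4 ∧ d B = 3)) ∨
      ((q : ℤ) = 17 ∧ (d A = 8 ∧ d B = 9 ∨ d A = 9 ∧ d B = 8)) := by
    exact half_degrees D.shape hu hX hdr.symm (by linarith) hA2 hB2 eX' eY'
  have hmod : ∀ n : ℤ, (n = d A ∨ n = d B) →
      ∀ m : ℤ, (m = 0 ∨ m = 1 ∨ m = -1) → ¬ n ≡ m [ZMOD q] := by
    intro n hn m hm hc
    obtain ⟨k, hk⟩ := Int.modEq_iff_dvd.mp hc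
    rcases key with ⟨hq, hab⟩ | ⟨hq, hab⟩ | ⟨hq, hab⟩ <;> rw [hq] at hk <;> omega
  have := D.exc A B (hmod _ (Or.inl rfl)) (hmod _ (Or.inr rfl))
  omega

/-- The splitting of a proper principal pair between the two further vectors. -/
theorem Grid.step (D : Grid q s w e d r r₁ c c₁ t) (hC : Proper e c t) :
    Proper e r t ∧ ∃ A B x y z z' u u', Pair e r A B ∧ Pair e c x y ∧
      ((t x * d x = s ∧ t y * d y = w) ∨ (t x * d x = w ∧ t y * d y = s)) ∧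
      Triple d r₁ t x z z' ∧ Triple d (t - r - r₁) t y u u' ∧
      r₁ A = 0 ∧ r₁ B = 0 ∧ (t - r - r₁) z = 0 ∧ (t - r - r₁) z' = 0 ∧ (t - r - r₁) A = 0 ∧
      (t - r - r₁) B = 0 := by
  obtain ⟨A, B, p⟩ := exists_pair D.rr D.re
  obtain ⟨x₀, y₀, p₀, htx, hty⟩ := hC
  set r₂ := t - r - r₁ with hr₂
  have hr₂r₂ : dot r₂ r₂ = 3 := by
    simp only [hr₂, dot_sub, sub_dot, D.tt, D.rr, D.r₁r₁, D.tr, D.tr₁, D.rr₁, dot_comm r t,
      dot_comm r₁ t, dot_comm r₁ r]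
    norm_num
  have hr₁r₂ : dot r₁ r₂ = 0 := by
    simp only [hr₂, dot_sub, D.r₁r₁, dot_comm r₁ t, dot_comm r₁ r, D.tr₁, D.rr₁]; norm_num
  have hrr₂ : dot r r₂ = 0 := by
    simp only [hr₂, dot_sub, D.rr, dot_comm r t, D.tr, D.rr₁]; norm_num
  have hr₂e : r₂ e = 0 := by simp [hr₂, D.te, D.re, D.r₁e]
  have hdr₂ : dot r₂ d = 0 := by simp only [hr₂, sub_dot, D.dt, D.dr, D.dr₁]; norm_num
  have h11 := p₀.dot_left D.ce r₁
  rw [dot_comm, D.r₁c, D.r₁e] at h11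
  obtain ⟨x, y, p', hx, hy, hex, hey⟩ : ∃ x y, Pair e c x y ∧ t x = c x ∧ t y = c y ∧
      r₁ x = c x ∧ r₁ y = 0 := by
    obtain ⟨hrx, hry⟩ := D.disjoint p p₀
    have u1 := unit_of_ne_zero D.r₁r₁ x₀
    have u2 := unit_of_ne_zero D.r₁r₁ y₀
    have w1 := unit_of_ne_zero hr₂r₂ x₀
    have w2 := unit_of_ne_zero hr₂r₂ y₀
    simp only [hr₂, Pi.sub_apply, hrx, hry, htx, hty] at w1 w2
    have := p₀.vx
    have := p₀.vy
    rcases unit_of_ne_zero D.cc x₀ with c1 | c1 | c1 <;> rcases unit_of_ne_zero D.cc y₀ with c2 | c2 | c2 <;>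
      simp only [c1, c2] at h11 w1 w2 <;>
      first
        | exact absurd c1 p₀.vx
        | exact absurd c2 p₀.vy
        | (rcases (by omega : (r₁ x₀ = c x₀ ∧ r₁ y₀ = 0) ∨ (r₁ y₀ = c y₀ ∧ r₁ x₀ = 0)) with ⟨a1, a2⟩ | ⟨a1, a2⟩
           · exact ⟨x₀, y₀, p₀, htx, hty, a1, a2⟩
           · exact ⟨y₀, x₀, ⟨p₀.xy.symm, p₀.ye, p₀.xe, p₀.vy, p₀.vx,
              fun u h1 h2 h3 => p₀.zero u h1 h3 h2⟩, hty, htx, a1, a2⟩)
  obtain ⟨hrx, hry⟩ := D.disjoint p p'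
  have hr₂x : r₂ x = 0 := by simp [hr₂, hrx, hex, hx]
  have hr₂y : r₂ y = c y := by simp [hr₂, hry, hey, hy]
  have hunit : ∀ v : ι → ℤ, dot v v = 3 → ∀ u, v u ≠ 0 → v u = 1 ∨ v u = -1 := fun v h u hu =>
    (unit_of_ne_zero h u).resolve_left hu
  have hX : Adm q (t x * d x) := D.adm x p'.xe (by rw [hx]; exact hunit c D.cc x p'.vx)
  have hY : Adm q (t y * d y) := D.adm y p'.ye (by rw [hy]; exact hunit c D.cc y p'.vy)
  have hdc := p'.dot_left D.ce d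
  rw [D.dc, D.de] at hdc
  have hsh := D.shape.pair hX hY (by rw [hx, hy]; omega)
  have hxA : x ≠ A := fun h => p.vx (h ▸ hrx)
  have hxB : x ≠ B := fun h => p.vy (h ▸ hrx)
  have hyA : y ≠ A := fun h => p.vx (h ▸ hry)
  have hyB : y ≠ B := fun h => p.vy (h ▸ hry)
  obtain ⟨h1A, h1B⟩ := D.no_overlap p hxA hxB D.r₁r₁ D.rr₁ D.r₁e D.dr₁ (by rw [hex]; exact p'.vx)
    (by rw [hex, ← hx]; rcases hsh with ⟨h, -⟩ | ⟨h, -⟩ <;> simp [h])
  obtain ⟨h2A, h2B⟩ := D.no_overlap p hyA hyB hr₂r₂ hrr₂ hr₂e hdr₂ (by rw [hr₂y]; exact p'.vy)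
    (by rw [hr₂y, ← hy]; rcases hsh with ⟨-, h⟩ | ⟨-, h⟩ <;> simp [h])
  obtain ⟨z, z', hxz, hxz', hzz, nz, nz'⟩ := exists_rest D.r₁r₁ (x := x) (by rw [hex]; exact p'.vx)
  obtain ⟨u, u', hyu, hyu', huu, nu, nu'⟩ := exists_rest hr₂r₂ (x := y) (by rw [hr₂y]; exact p'.vy)
  have hs1 := supp_three D.r₁r₁ hxz hxz' hzz (by rw [hex]; exact p'.vx) nz nz'
  have hdz := D.dr₁
  rw [dot, sum_three hxz hxz' hzz (fun v h1 h2 h3 => by rw [hs1 v h1 h2 h3, zero_mul])] at hdz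
  have h12 : r₂ z = 0 ∧ r₂ z' = 0 := by
    have h := hr₁r₂
    rw [dot, sum_three hxz hxz' hzz (fun v h1 h2 h3 => by rw [hs1 v h1 h2 h3, zero_mul]), hr₂x,
      mul_zero, zero_add] at h
    by_contra hne
    have hne' : r₂ z ≠ 0 ∧ r₂ z' ≠ 0 := by
      constructor <;> intro h0
      · rw [h0, mul_zero, zero_add] at h
        exact hne ⟨h0, (mul_eq_zero.mp h).resolve_left nz'⟩
      · rw [h0, mul_zero, add_zero] at h
        exact hne ⟨(mul_eq_zero.mp h).resolve_left nz, h0⟩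
    have hyz : y ≠ z := fun h => nz (h ▸ hey)
    have hyz' : y ≠ z' := fun h => nz' (h ▸ hey)
    have hd2 := hdr₂
    rw [dot, sum_three hyz hyz' hzz (fun v h1 h2 h3 => by
      rw [supp_three hr₂r₂ hyz hyz' hzz (by rw [hr₂y]; exact p'.vy) hne'.1 hne'.2 v h1 h2 h3,
        zero_mul]), hr₂y] at hd2
    rw [hex] at hdz
    rcases unit_of_ne_zero D.r₁r₁ z with a1 | a1 | a1 <;> rcases unit_of_ne_zero D.r₁r₁ z' with a2 | a2 | a2 <;>
      rcases unit_of_ne_zero hr₂r₂ z with b1 | b1 | b1 <;> rcases unit_of_ne_zero hr₂r₂ z' with b2 | b2 | b2 <;>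
      simp only [a1, a2, b1, b2] at h hdz hd2 <;>
      first
        | exact nz a1
        | exact nz' a2
        | exact hne'.1 b1
        | exact hne'.2 b2
        | omega
  have hs2 := supp_three hr₂r₂ hyu hyu' huu (by rw [hr₂y]; exact p'.vy) nu nu'
  have hdu := hdr₂
  rw [dot, sum_three hyu hyu' huu (fun v h1 h2 h3 => by rw [hs2 v h1 h2 h3, zero_mul])] at hdu
  have hrne : ∀ v, r v ≠ 0 → v = e ∨ v = A ∨ v = B := fun v hv => by
    by_contra hc
    push Not at hc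
    exact hv (p.zero v hc.1 hc.2.1 hc.2.2)
  have hr1z : ∀ v, r₁ v ≠ 0 → r₂ v = 0 → r₁ v = t v := fun v hv h0 => by
    have : r v = 0 := by
      by_contra hr
      rcases hrne v hr with rfl | rfl | rfl
      · exact hv D.r₁e
      · exact hv h1A
      · exact hv h1B
    simp only [hr₂, Pi.sub_apply, this] at h0
    omega
  have hr2u : ∀ v, r₂ v ≠ 0 → r₂ v = t v := fun v hv => by
    have h1 : r₁ v = 0 := by
      by_contra h1
      by_cases hvx : v = x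
      · exact hv (hvx ▸ hr₂x)
      by_cases hvz : v = z
      · exact hv (hvz ▸ h12.1)
      by_cases hvz' : v = z'
      · exact hv (hvz' ▸ h12.2)
      exact h1 (hs1 v hvx hvz hvz')
    have h0 : r v = 0 := by
      by_contra hr
      rcases hrne v hr with rfl | rfl | rfl
      · exact hv hr₂e
      · exact hv h2A
      · exact hv h2B
    simp [hr₂, h1, h0]
  have tz := hr1z z nz h12.1
  have tz' := hr1z z' nz' h12.2
  have tu := hr2u u nu
  have tu' := hr2u u' nu'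
  have tA : t A = r A := by
    have := h2A; simp only [hr₂, Pi.sub_apply, h1A] at this; omega
  have tB : t B = r B := by
    have := h2B; simp only [hr₂, Pi.sub_apply, h1B] at this; omega
  refine ⟨⟨A, B, p, tA, tB⟩, A, B, x, y, z, z', u, u', p, p', hsh, ?_, ?_, h1A, h1B, h12.1, h12.2,
    h2A, h2B⟩
  · exact ⟨hxz, hxz', hzz, hs1, hex.trans hx.symm, tz, tz', by rw [hex]; exact p'.vx, nz, nz',
      by rw [← tz, ← tz', hx, ← hex]; exact hdz⟩
  · exact ⟨hyu, hyu', huu, hs2, hr₂y.trans hy.symm, tu, tu', by rw [hr₂y]; exact p'.vy, nu, nu',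
      by rw [← tu, ← tu', hy, ← hr₂y]; exact hdu⟩

theorem Triple.dot_left {v t : ι → ℤ} {x z z' : ι} (T : Triple d v t x z z') (u : ι → ℤ) :
    dot v u = t x * u x + t z * u z + t z' * u z' := by
  rw [dot, sum_three T.xz T.xz' T.zz' fun a h1 h2 h3 => by rw [T.zero a h1 h2 h3, zero_mul],
    T.ex, T.ez, T.ez']

theorem Triple.rot {v t : ι → ℤ} {x z z' : ι} (T : Triple d v t x z z') : Triple d v t x z' z :=
  ⟨T.xz', T.xz, T.zz'.symm, fun u h1 h2 h3 => T.zero u h1 h3 h2, T.ex, T.ez', T.ez, T.nx, T.nz',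
    T.nz, by linarith [T.rel]⟩

/-- No grid exists. -/
theorem Grid.false_of_proper (D : Grid q s w e d r r₁ c c₁ t) (hC : Proper e c t) : False := by
  obtain ⟨hR, A, B, x, y, z, z', u, u', p, p', hsh, T1, T2, h1A, h1B, h2z, h2z', h2A, h2B⟩ :=
    D.step hC
  obtain ⟨-, A', B', a, b, g, g', k, k', q', q'', hsh', S1, -, k1A, k1B, -, -, -, -⟩ := D.swap.step hR
  -- the two principal pairs
  have hmem : ∀ {v : ι → ℤ} {i j i' j' : ι}, Pair e v i j → Pair e v i' j' →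
      (i' = i ∨ i' = j) := fun {v i j i' j'} h h' => by
    by_contra hc
    push Not at hc
    exact h'.vx (h.zero i' h'.xe hc.1 hc.2)
  have hca : c₁ x = 0 ∧ c₁ y = 0 := by
    have e1 := hmem q' p'
    have e2 := hmem q' ⟨p'.xy.symm, p'.ye, p'.xe, p'.vy, p'.vx,
      fun v h1 h2 h3 => p'.zero v h1 h3 h2⟩
    constructor
    · rcases e1 with h | h <;> rw [h]
      exacts [k1A, k1B]
    · rcases e2 with h | h <;> rw [h]
      exacts [k1A, k1B]
  have hab : a = A ∨ a = B := hmem p q''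
  have hone : ∀ v, c₁ v = 0 ∨ (c₁ v = t v) := fun v => by
    by_cases h1 : v = a
    · exact Or.inr (h1 ▸ S1.ex)
    by_cases h2 : v = g
    · exact Or.inr (h2 ▸ S1.ez)
    by_cases h3 : v = g'
    · exact Or.inr (h3 ▸ S1.ez')
    exact Or.inl (S1.zero v h1 h2 h3)
  have hsq : ∀ v : ι → ℤ, dot v v = 3 → ∀ i, v i = t i → v i ≠ 0 → t i * t i = 1 := by
    intro v h3 i he hn
    rcases unit_of_ne_zero h3 i with e0 | e0 | e0
    · exact absurd e0 hn
    all_goals rw [← he, e0]; norm_num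
  have hr₂r₂ : dot (t - r - r₁) (t - r - r₁) = 3 := by
    simp only [dot_sub, sub_dot, D.tt, D.rr, D.r₁r₁, D.tr, D.tr₁, D.rr₁, dot_comm r t,
      dot_comm r₁ t, dot_comm r₁ r]
    norm_num
  obtain ⟨z₁, z₂, T1', hz1⟩ : ∃ z₁ z₂, Triple d r₁ t x z₁ z₂ ∧ c₁ z₁ = t z₁ := by
    have h := T1.dot_left c₁
    rw [D.r₁c₁, hca.1, mul_zero, zero_add] at h
    rcases hone z with h0 | h0
    · rcases hone z' with h0' | h0'
      · rw [h0, h0'] at h; norm_num at h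
      · exact ⟨z', z, T1.rot, h0'⟩
    · exact ⟨z, z', T1, h0⟩
  obtain ⟨u₁, u₂, T2', hu1⟩ : ∃ u₁ u₂, Triple d (t - r - r₁) t y u₁ u₂ ∧ c₁ u₁ = t u₁ := by
    have h := T2.dot_left c₁
    rw [sub_dot, sub_dot, D.tc₁, dot_comm r c₁, D.c₁r, D.r₁c₁, hca.2, mul_zero, zero_add] at h
    rcases hone u with h0 | h0
    · rcases hone u' with h0' | h0'
      · rw [h0, h0'] at h; norm_num at h
      · exact ⟨u', u, T2.rot, h0'⟩
    · exact ⟨u, u', T2, h0⟩
  have hz1A : z₁ ≠ a := fun h => T1'.nz (by rw [h]; rcases hab with rfl | rfl <;> assumption)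
  have hu1A : u₁ ≠ a := fun h => T2'.nz (by rw [h]; rcases hab with rfl | rfl <;> assumption)
  have hzu : z₁ ≠ u₁ := fun h => by
    refine T2'.nz ?_
    rw [← h]
    rcases (by
      by_contra hc
      push Not at hc
      exact T1'.nz (T1.zero z₁ hc.1 hc.2.1 hc.2.2) : z₁ = x ∨ z₁ = z ∨ z₁ = z') with h' | h' | h'
    · exact absurd h'.symm T1'.xz
    · rw [h']; exact h2z
    · rw [h']; exact h2z'
  have nz1 : c₁ z₁ ≠ 0 := by rw [hz1, ← T1'.ez]; exact T1'.nz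
  have nu1 : c₁ u₁ ≠ 0 := by rw [hu1, ← T2'.ez]; exact T2'.nz
  have hd := D.dc₁
  rw [dot, sum_three hz1A.symm hu1A.symm hzu (fun v h1 h2 h3 => by
    rw [supp_three D.c₁c₁ hz1A.symm hu1A.symm hzu S1.nx nz1 nu1 v h1 h2 h3, zero_mul]),
    S1.ex, hz1, hu1] at hd
  have hadm : ∀ v : ι → ℤ, dot v v = 3 → v e = 0 → ∀ i, v i = t i → v i ≠ 0 → Adm q (t i * d i) := by
    intro v h3 hve i he hn
    refine D.adm i (fun h => hn (h ▸ hve)) ?_
    rcases unit_of_ne_zero h3 i with e0 | e0 | e0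
    · exact absurd e0 hn
    · exact Or.inl (he ▸ e0)
    · exact Or.inr (he ▸ e0)
  have hr₂e : (t - r - r₁) e = 0 := by simp [D.te, D.re, D.r₁e]
  exact grid_contra D.shape hsh hsh'
    (hadm r₁ D.r₁r₁ D.r₁e _ T1'.ez T1'.nz) (hadm r₁ D.r₁r₁ D.r₁e _ T1'.ez' T1'.nz')
    (hadm _ hr₂r₂ hr₂e _ T2'.ez T2'.nz) (hadm _ hr₂r₂ hr₂e _ T2'.ez' T2'.nz')
    T1'.rel hd T2'.rel

theorem Grid.false (D : Grid q s w e d r r₁ c c₁ t) : False := by
  rcases D.toStage.proper with h | h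
  · exact D.swap.false_of_proper h
  · exact D.false_of_proper h

end Vectors

end CfsgLib.NineTwoPrimes
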