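import Cfsg.Agent.Lib.NineTwoPrimes.FrobMain

/-!
An abelian Sylow `3`-subgroup of order nine whose normalizer induces a four-group: the classes of
its elements and the centralizer of an element of the long class.
-/

set_option autoImplicit false
set_option linter.style.haveILetI false
set_option linter.unusedSectionVars false

namespace CfsgLib.NineTwoPrimes

open Cfsg CfsgLib
open scoped ComplexConjugate CfsgLib.Char IsMulCommutative

universe u

/-- The normalizer of `P` induces the diagonal four-group on `⟨a⟩ × ⟨b⟩`. -/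
structure Klein (G : Type u) [Group G] where
  P : Sylow 3 G
  comm : IsMulCommutative (P : Subgroup G)
  card : Nat.card (P : Subgroup G) = 9
  a : (P : Subgroup G)
  b : (P : Subgroup G)
  ha : a ≠ 1
  hb : b ≠ 1
  n₁ : G
  n₂ : G
  hn₁ : n₁ ∈ Subgroup.normalizer ((P : Subgroup G) : Set G)
  hn₂ : n₂ ∈ Subgroup.normalizer ((P : Subgroup G) : Set G)
  conj₁a : n₁ * (a : G) * n₁⁻¹ = a
  conj₁b : n₁ * (b : G) * n₁⁻¹ = (b : G)⁻¹
  conj₂a : n₂ * (a : G) * n₂⁻¹ = (a : G)⁻¹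
  conj₂b : n₂ * (b : G) * n₂⁻¹ = b
  diag : ∀ w ∈ Blocks.AbelianFrob.autG P, (w a = a ∨ w a = a⁻¹) ∧ (w b = b ∨ w b = b⁻¹)
  gen : ∀ y : (P : Subgroup G), ∃ i j : ℤ, y = a ^ i * b ^ j

namespace Klein

variable {G : Type u} [Group G] [Fintype G]

/-- The two axes exchanged. -/
def swap (K : Klein G) : Klein G where
  P := K.P
  comm := K.comm
  card := K.card
  a := K.b
  b := K.a
  ha := K.hb
  hb := K.ha
  n₁ := K.n₂
  n₂ := K.n₁
  hn₁ := K.hn₂
  hn₂ := K.hn₁
  conj₁a := K.conj₂b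
  conj₁b := K.conj₂a
  conj₂a := K.conj₁b
  conj₂b := K.conj₁a
  diag := fun w hw => ⟨(K.diag w hw).2, (K.diag w hw).1⟩
  gen := fun y => by
    haveI := K.comm
    obtain ⟨i, j, e⟩ := K.gen y
    exact ⟨j, i, e.trans (mul_comm' (a := K.a ^ i) (b := K.b ^ j))⟩

variable (K : Klein G)

theorem mul_comm_P (y z : (K.P : Subgroup G)) : y * z = z * y := by
  haveI := K.comm
  exact mul_comm' (a := y) (b := z)

theorem ne_inv {y : (K.P : Subgroup G)} (hy : y ≠ 1) : y ≠ y⁻¹ := by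
  haveI := K.comm
  exact CfsgLib.NineTwoPrimes.ne_inv K.card hy

theorem ne_inv_coe {y : (K.P : Subgroup G)} (hy : y ≠ 1) : (y : G) ≠ (y : G)⁻¹ := fun e =>
  K.ne_inv hy (Subtype.ext e)

theorem commute_coe (y z : (K.P : Subgroup G)) : (y : G) * z = z * y :=
  congrArg Subtype.val (K.mul_comm_P y z)

theorem card_zpowers_a : Nat.card (Subgroup.zpowers K.a) = 3 := by
  haveI := K.comm
  refine card_of_proper K.card (fun e => ?_) (Subgroup.mem_zpowers K.a) K.ha
  obtain ⟨n, hn⟩ := Subgroup.mem_zpowers_iff.mp (e ▸ Subgroup.mem_top K.b)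
  refine K.ne_inv_coe K.hb ?_
  have h : (K.b : G) = (K.a : G) ^ n := by rw [← hn]; simp
  calc (K.b : G) = ((K.n₁ * (K.a : G) * K.n₁⁻¹)) ^ n := by rw [K.conj₁a, h]
    _ = K.n₁ * (K.a : G) ^ n * K.n₁⁻¹ := conj_zpow
    _ = (K.b : G)⁻¹ := by rw [← h, K.conj₁b]

theorem card_zpowers_b : Nat.card (Subgroup.zpowers K.b) = 3 := K.swap.card_zpowers_a

theorem cube_a : K.a ^ 3 = 1 := by
  have h := pow_orderOf_eq_one K.a
  rwa [← Nat.card_zpowers, K.card_zpowers_a] at h

theorem cube_b : K.b ^ 3 = 1 := K.swap.cube_a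

theorem cube (y : (K.P : Subgroup G)) : y ^ 3 = 1 := by
  haveI := K.comm
  obtain ⟨i, j, rfl⟩ := K.gen y
  have hz : ∀ u : (K.P : Subgroup G), u ^ 3 = 1 → ∀ n : ℤ, (u ^ n) ^ 3 = 1 := fun u hu n => by
    rw [← zpow_natCast, ← zpow_mul, mul_comm, zpow_mul, zpow_natCast, hu, one_zpow]
  rw [mul_pow, hz _ K.cube_a i, hz _ K.cube_b j, one_mul]

theorem orderOf_coe_of_ne {y : (K.P : Subgroup G)} (hy : y ≠ 1) : orderOf (y : G) = 3 := by
  haveI : Fact (Nat.Prime 3) := ⟨Nat.prime_three⟩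
  rw [Subgroup.orderOf_coe]
  exact orderOf_eq_prime (K.cube y) hy

theorem mem_zpowers_a {y : (K.P : Subgroup G)} :
    y ∈ Subgroup.zpowers K.a ↔ y = 1 ∨ y = K.a ∨ y = K.a⁻¹ := by
  haveI := K.comm
  constructor
  · intro h
    by_cases h1 : y = 1
    · exact Or.inl h1
    · exact Or.inr (eq_or_inv_of_card_three K.card_zpowers_a (Subgroup.mem_zpowers _) h K.ha h1)
  · rintro (rfl | rfl | rfl)
    exacts [one_mem _, Subgroup.mem_zpowers _, inv_mem (Subgroup.mem_zpowers _)]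

theorem mem_zpowers_b {y : (K.P : Subgroup G)} :
    y ∈ Subgroup.zpowers K.b ↔ y = 1 ∨ y = K.b ∨ y = K.b⁻¹ := by
  haveI := K.comm
  constructor
  · intro h
    by_cases h1 : y = 1
    · exact Or.inl h1
    · exact Or.inr (eq_or_inv_of_card_three K.card_zpowers_b (Subgroup.mem_zpowers _) h K.hb h1)
  · rintro (rfl | rfl | rfl)
    exacts [one_mem _, Subgroup.mem_zpowers _, inv_mem (Subgroup.mem_zpowers _)]

theorem a_notMem : K.a ∉ Subgroup.zpowers K.b := fun h => by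
  rcases K.mem_zpowers_b.mp h with e | e | e
  · exact K.ha e
  · have h1 := K.conj₁a
    rw [show (K.a : G) = (K.b : G) from congrArg Subtype.val e, K.conj₁b] at h1
    exact K.ne_inv_coe K.hb h1.symm
  · have h1 := K.conj₁a
    rw [show (K.a : G) = (K.b : G)⁻¹ from congrArg Subtype.val e, ← conj_inv, K.conj₁b, inv_inv] at h1
    exact K.ne_inv_coe K.hb h1

theorem b_notMem : K.b ∉ Subgroup.zpowers K.a := K.swap.a_notMem

/-- The element of the long class. -/
def x : (K.P : Subgroup G) := K.a * K.b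

theorem swap_x : K.swap.x = K.x := K.mul_comm_P K.b K.a

theorem x_notMem : K.x ∉ Subgroup.zpowers K.b := fun h =>
  K.a_notMem ((Subgroup.mul_mem_cancel_right _ (Subgroup.mem_zpowers _)).mp h)

theorem x_ne_one : K.x ≠ 1 := fun e => K.x_notMem (e ▸ one_mem _)

/-- Invariance of the axes. -/
theorem mem_zpowers_b_map {w : MulAut (K.P : Subgroup G)} (hw : w ∈ Blocks.AbelianFrob.autG K.P)
    (y : (K.P : Subgroup G)) (hy : y ∈ Subgroup.zpowers K.b) : w y ∈ Subgroup.zpowers K.b := by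
  obtain ⟨n, rfl⟩ := Subgroup.mem_zpowers_iff.mp hy
  rw [map_zpow]
  refine zpow_mem ?_ n
  rcases (K.diag w hw).2 with e | e <;> rw [e]
  exacts [Subgroup.mem_zpowers _, inv_mem (Subgroup.mem_zpowers _)]

theorem mem_zpowers_b_iff_of_isConj {y z : (K.P : Subgroup G)} (h : IsConj (y : G) z) :
    y ∈ Subgroup.zpowers K.b ↔ z ∈ Subgroup.zpowers K.b := by
  haveI : Fact (Nat.Prime 3) := ⟨Nat.prime_three⟩
  obtain ⟨w, hw, e⟩ := (Blocks.AbelianFrob.isConj_iff_autG K.P K.comm y z).mp h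
  obtain ⟨w', hw', e'⟩ := (Blocks.AbelianFrob.isConj_iff_autG K.P K.comm z y).mp h.symm
  exact ⟨fun h1 => e ▸ K.mem_zpowers_b_map hw y h1, fun h1 => e' ▸ K.mem_zpowers_b_map hw' z h1⟩

theorem mem_zpowers_a_iff_of_isConj {y z : (K.P : Subgroup G)} (h : IsConj (y : G) z) :
    y ∈ Subgroup.zpowers K.a ↔ z ∈ Subgroup.zpowers K.a := K.swap.mem_zpowers_b_iff_of_isConj h

theorem not_isConj_one {y : (K.P : Subgroup G)} (hy : y ≠ 1) : ¬ IsConj (1 : G) (y : G) := fun h =>
  hy (Subtype.ext (isConj_one_right.mp h))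

theorem not_isConj_a_b : ¬ IsConj (K.a : G) (K.b : G) := fun h =>
  K.a_notMem ((K.mem_zpowers_b_iff_of_isConj h).mpr (Subgroup.mem_zpowers _))

theorem not_isConj_a_x : ¬ IsConj (K.a : G) (K.x : G) := fun h =>
  K.b_notMem ((Subgroup.mul_mem_cancel_left _ (Subgroup.mem_zpowers _)).mp
    ((K.mem_zpowers_a_iff_of_isConj h).mp (Subgroup.mem_zpowers _)))

theorem not_isConj_b_x : ¬ IsConj (K.b : G) (K.x : G) := fun h =>
  K.x_notMem ((K.mem_zpowers_b_iff_of_isConj h).mp (Subgroup.mem_zpowers _))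

theorem not_isConj_one_coe {y : (K.P : Subgroup G)} (hy : y ≠ 1) :
    ¬ IsConj (y : G) (1 : G) := fun h => K.not_isConj_one hy h.symm

theorem isConj_a_inv : IsConj (K.a : G) (K.a : G)⁻¹ := isConj_iff.mpr ⟨K.n₂, K.conj₂a⟩

theorem isConj_b_inv : IsConj (K.b : G) (K.b : G)⁻¹ := isConj_iff.mpr ⟨K.n₁, K.conj₁b⟩

/-- The classes meeting `P`. -/
theorem classify (y : (K.P : Subgroup G)) : y = 1 ∨
    (IsConj (y : G) K.a ∧ y ∈ Subgroup.zpowers K.a) ∨ (IsConj (y : G) K.b ∧ y ∈ Subgroup.zpowers K.b) ∨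
      (IsConj (y : G) K.x ∧ y ∉ Subgroup.zpowers K.a ∧ y ∉ Subgroup.zpowers K.b) := by
  obtain ⟨i, j, rfl⟩ := K.gen y
  have hi := K.mem_zpowers_a.mp (Subgroup.zpow_mem_zpowers K.a i)
  have hj := K.mem_zpowers_b.mp (Subgroup.zpow_mem_zpowers K.b j)
  have hX : ∀ u v : (K.P : Subgroup G), (u = K.a ∨ u = K.a⁻¹) → (v = K.b ∨ v = K.b⁻¹) →
      IsConj ((u * v : (K.P : Subgroup G)) : G) K.x ∧ u * v ∉ Subgroup.zpowers K.a ∧
        u * v ∉ Subgroup.zpowers K.b := by
    intro u v hu hv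
    have e₁ : ∀ s t : G, K.n₁ * (s * t) * K.n₁⁻¹ = (K.n₁ * s * K.n₁⁻¹) * (K.n₁ * t * K.n₁⁻¹) :=
      fun s t => by group
    have e₂ : ∀ s t : G, K.n₂ * (s * t) * K.n₂⁻¹ = (K.n₂ * s * K.n₂⁻¹) * (K.n₂ * t * K.n₂⁻¹) :=
      fun s t => by group
    have i₁ : K.n₁ * (K.b : G)⁻¹ * K.n₁⁻¹ = K.b := by rw [← conj_inv, K.conj₁b, inv_inv]
    have i₂ : K.n₂ * (K.a : G)⁻¹ * K.n₂⁻¹ = K.a := by rw [← conj_inv, K.conj₂a, inv_inv]
    have c1 : IsConj ((K.a : G) * (K.b : G)⁻¹) K.x := isConj_iff.mpr ⟨K.n₁, by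
      rw [e₁, K.conj₁a, i₁]; rfl⟩
    refine ⟨?_, fun h => ?_, fun h => ?_⟩
    · rcases hu with rfl | rfl <;> rcases hv with rfl | rfl
      · exact IsConj.refl _
      · exact c1
      · exact isConj_iff.mpr ⟨K.n₂, by rw [Subgroup.coe_mul, Subgroup.coe_inv, e₂, i₂, K.conj₂b]; rfl⟩
      · refine (isConj_iff.mpr ⟨K.n₂, ?_⟩ : IsConj _ ((K.a : G) * (K.b : G)⁻¹)).trans c1
        rw [Subgroup.coe_mul, Subgroup.coe_inv, Subgroup.coe_inv, e₂, i₂, ← conj_inv, K.conj₂b]
    · have hu' : u ∈ Subgroup.zpowers K.a := K.mem_zpowers_a.mpr (Or.inr hu)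
      have hv' := (Subgroup.mul_mem_cancel_left _ hu').mp h
      rcases hv with rfl | rfl
      exacts [K.b_notMem hv', K.b_notMem (inv_mem_iff.mp hv')]
    · have hv' : v ∈ Subgroup.zpowers K.b := K.mem_zpowers_b.mpr (Or.inr hv)
      have hu' := (Subgroup.mul_mem_cancel_right _ hv').mp h
      rcases hu with rfl | rfl
      exacts [K.a_notMem hu', K.a_notMem (inv_mem_iff.mp hu')]
  rcases hi with hi | hi
  · rw [hi, one_mul]
    rcases hj with hj | hj | hj <;> rw [hj]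
    · exact Or.inl rfl
    · exact Or.inr (Or.inr (Or.inl ⟨IsConj.refl _, Subgroup.mem_zpowers _⟩))
    · exact Or.inr (Or.inr (Or.inl ⟨K.isConj_b_inv.symm, inv_mem (Subgroup.mem_zpowers _)⟩))
  rcases hj with hj | hj
  · rw [hj, mul_one]
    refine Or.inr (Or.inl ?_)
    rcases hi with hi | hi <;> rw [hi]
    · exact ⟨IsConj.refl _, Subgroup.mem_zpowers _⟩
    · exact ⟨K.isConj_a_inv.symm, inv_mem (Subgroup.mem_zpowers _)⟩
  exact Or.inr (Or.inr (Or.inr (hX _ _ hi hj)))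

theorem le_centralizer {y : G} (hy : y ∈ (K.P : Subgroup G)) :
    (K.P : Subgroup G) ≤ Subgroup.centralizer ({y} : Set G) :=
  Blocks.AbelianFrob.le_centralizer_singleton K.P K.comm hy

theorem conj_into {g : G} (hg : ∃ e, orderOf g = 3 ^ e) : ∃ c : G, c * g * c⁻¹ ∈ (K.P : Subgroup G) := by
  haveI : Fact (Nat.Prime 3) := ⟨Nat.prime_three⟩
  exact Blocks.AbelianFrob.exists_conj_mem_of_pow K.P hg

theorem exists_type (g : G) : ∃ y : (K.P : Subgroup G), IsConj (threePart g) (y : G) := by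
  obtain ⟨-, -, -, hxo, -⟩ := isPPart_threePart g
  obtain ⟨c, hc⟩ := K.conj_into hxo
  exact ⟨⟨_, hc⟩, isConj_iff.mpr ⟨c, rfl⟩⟩

/-- The normalizer of `P` in `C(x)` centralizes `P`. -/
theorem normalizer_subtype_x :
    Subgroup.normalizer ((K.P.subtype (K.le_centralizer K.x.2) : Sylow 3 _) :
        Set (Subgroup.centralizer ({(K.x : G)} : Set G))) ≤
      Subgroup.centralizer ((K.P.subtype (K.le_centralizer K.x.2) : Sylow 3 _) :
        Set (Subgroup.centralizer ({(K.x : G)} : Set G))) := by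
  haveI := K.comm
  intro z hz
  have hzN : (z : G) ∈ Subgroup.normalizer ((K.P : Subgroup G) : Set G) := by
    rw [Subgroup.mem_normalizer_iff]
    intro t
    constructor
    · intro ht
      exact (Subgroup.mem_normalizer_iff.mp hz ⟨t, K.le_centralizer K.x.2 ht⟩).mp ht
    · intro ht
      have htC : t ∈ Subgroup.centralizer ({(K.x : G)} : Set G) := by
        have h2 := mul_mem (mul_mem (inv_mem z.2) (K.le_centralizer K.x.2 ht)) z.2
        simpa [mul_assoc] using h2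
      exact (Subgroup.mem_normalizer_iff.mp hz ⟨t, htC⟩).mpr ht
  set w : MulAut (K.P : Subgroup G) := (K.P : Subgroup G).normalizerMonoidHom ⟨z, hzN⟩
  have hw : w ∈ Blocks.AbelianFrob.autG K.P := ⟨_, rfl⟩
  have hwx : w K.x = K.x := Subtype.ext (by
    rw [Blocks.AbelianFrob.normalizerMonoidHom_coe, mul_inv_eq_iff_eq_mul]
    exact Subgroup.mem_centralizer_singleton_iff.mp z.2)
  have hfix : w K.a = K.a ∧ w K.b = K.b := by
    rw [x, map_mul] at hwx
    rcases (K.diag w hw).1 with e | e <;> rcases (K.diag w hw).2 with e' | e' <;> rw [e, e'] at hwx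
    · exact ⟨e, e'⟩
    · exact absurd (mul_left_cancel hwx).symm (K.ne_inv K.hb)
    · exact absurd (mul_right_cancel hwx).symm (K.ne_inv K.ha)
    · refine absurd ?_ (K.ne_inv K.x_ne_one)
      rw [x, mul_inv_rev, K.mul_comm_P K.b⁻¹]
      exact hwx.symm
  rw [Subgroup.mem_centralizer_iff]
  intro t ht
  refine Subtype.ext ?_
  have hwt : w ⟨(t : G), ht⟩ = ⟨(t : G), ht⟩ := by
    obtain ⟨i, j, e⟩ := K.gen ⟨(t : G), ht⟩
    rw [e, map_mul, map_zpow, map_zpow, hfix.1, hfix.2]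
  have h' := congrArg Subtype.val hwt
  rw [Blocks.AbelianFrob.normalizerMonoidHom_coe, mul_inv_eq_iff_eq_mul] at h'
  exact h'.symm

theorem npc_x : HasNormalPComplement 3 (Subgroup.centralizer ({(K.x : G)} : Set G)) := by
  haveI : Fact (Nat.Prime 3) := ⟨Nat.prime_three⟩
  exact Transfer.hasNormalPComplement_of_normalizer_le_centralizer _ K.normalizer_subtype_x

/-- The regular elements form a complement of `P` in `C(x)`. -/
theorem card_regCent_x :
    (regCent (K.x : G)).card * 9 = Nat.card (Subgroup.centralizer ({(K.x : G)} : Set G)) := by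
  classical
  haveI : Fact (Nat.Prime 3) := ⟨Nat.prime_three⟩
  set C := Subgroup.centralizer ({(K.x : G)} : Set G)
  set Q : Sylow 3 C := K.P.subtype (K.le_centralizer K.x.2)
  have hQ := K.normalizer_subtype_x
  have hc := MonoidHom.ker_transferSylow_isComplement' Q hQ
  have h9 : Nat.card (Q : Subgroup C) = 9 := by
    rw [← K.card]
    exact Nat.card_congr (Subgroup.subgroupOfEquivOfLe (K.le_centralizer K.x.2)).toEquiv
  have hcm := hc.card_mul
  rw [h9] at hcm
  rw [← hcm]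
  congr 1
  rw [← Fintype.card_coe, ← Nat.card_eq_fintype_card]
  have key : ∀ c : C, c ∈ (MonoidHom.transferSylow Q hQ).ker ↔ ¬ 3 ∣ orderOf c := by
    intro c
    constructor
    · intro hk hd
      exact MonoidHom.not_dvd_card_ker_transferSylow Q hQ (hd.trans (Subgroup.orderOf_dvd_natCard _ hk))
    · intro hd
      obtain ⟨i, hi⟩ := IsPGroup.iff_orderOf.mp Q.2 (MonoidHom.transferSylow Q hQ c)
      have h1 := orderOf_map_dvd (MonoidHom.transferSylow Q hQ) c
      rw [hi] at h1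
      rw [MonoidHom.mem_ker, ← orderOf_eq_one_iff, hi]
      rcases Nat.eq_zero_or_pos i with rfl | hi0
      · exact pow_zero 3
      · exact absurd ((dvd_pow_self 3 hi0.ne').trans h1) hd
  exact Nat.card_congr ⟨fun c => ⟨⟨c, (mem_regCent.mp c.2).1⟩, (key _).mpr (by
      rw [Subgroup.orderOf_mk]; exact (mem_regCent.mp c.2).2)⟩,
    fun c => ⟨((c : C) : G), mem_regCent.mpr ⟨(c : C).2, by
      rw [Subgroup.orderOf_coe]; exact (key _).mp c.2⟩⟩,
    fun c => Subtype.ext rfl, fun c => Subtype.ext (Subtype.ext rfl)⟩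

/-- Regular elements of `C(y)` times `⟨y⟩` inject into `C(y)`. -/
theorem three_mul_regCent_le {y : (K.P : Subgroup G)} (hy : y ≠ 1) :
    3 * (regCent (y : G)).card ≤ Nat.card (Subgroup.centralizer ({(y : G)} : Set G)) := by
  classical
  have h3 : Nat.card (Subgroup.zpowers (y : G)) = 3 := by
    rw [Nat.card_zpowers, K.orderOf_coe_of_ne hy]
  have h' : 3 * (regCent (y : G)).card = Nat.card (Subgroup.zpowers (y : G) × (regCent (y : G))) := by
    rw [Nat.card_prod, h3, Nat.card_eq_fintype_card, Fintype.card_coe]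
  rw [h']
  have hz : ∀ z ∈ Subgroup.zpowers (y : G), z ∈ Subgroup.centralizer ({(y : G)} : Set G) := fun z hz =>
    Subgroup.zpowers_le.mpr (Subgroup.mem_centralizer_singleton_iff.mpr rfl) hz
  refine Nat.card_le_card_of_injective (fun p => (⟨(p.1 : G) * (p.2 : G),
    mul_mem (hz _ p.1.2) (mem_regCent.mp p.2.2).1⟩ :
      Subgroup.centralizer ({(y : G)} : Set G))) ?_
  rintro ⟨z, r⟩ ⟨z', r'⟩ e
  have e' : (z : G) * (r : G) = (z' : G) * (r' : G) := congrArg Subtype.val e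
  have hp : ∀ (z : Subgroup.zpowers (y : G)) (r : regCent (y : G)),
      IsPPart 3 ((z : G) * (r : G)) (z : G) := by
    intro z r
    obtain ⟨n, hn⟩ := Subgroup.mem_zpowers_iff.mp z.2
    refine Blocks.isPPart_mul (p := 3) ?_ (pow_of_mem (P := K.P) (Subgroup.zpowers_le.mpr y.2 z.2))
      (mem_regCent.mp r.2).2
    rw [← hn]
    exact (show Commute ((r : G)) (y : G) from
      Subgroup.mem_centralizer_singleton_iff.mp (mem_regCent.mp r.2).1).symm.zpow_left n
  have hzz : (z : G) = (z' : G) :=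
    Blocks.IsPPart.unique Nat.prime_three (hp z r) (e' ▸ hp z' r')
  rw [hzz] at e'
  exact Prod.ext (Subtype.ext hzz) (Subtype.ext (mul_left_cancel e'))

end Klein

end CfsgLib.NineTwoPrimes
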