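import Cfsg.Agent.Lib.NineTwoPrimes.KleinSigns

/-!
The normalizer of the Sylow subgroup does not induce a four-group.
-/

set_option autoImplicit false
set_option linter.style.haveILetI false
set_option linter.unusedSectionVars false

namespace CfsgLib.NineTwoPrimes

open Cfsg CfsgLib
open scoped ComplexConjugate CfsgLib.Char

universe u

variable {G : Type u} [Group G] [Fintype G] {q m e : ℕ}

/-- No four-group. -/
theorem Klein.absurd_four (K : Klein G) (C : Ctx G q m e) : False := by
  classical
  obtain ⟨rfl, hq⟩ := K.exponent_range C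
  obtain ⟨s, w, hsw⟩ := signShape_exists hq
  obtain ⟨S⟩ := K.exists_sign C
  obtain ⟨S'⟩ := K.swap.exists_sign C
  have hR := K.isGeneralized_R0
  have hC := K.swap.isGeneralized_R0
  have hT := K.isGeneralized_T
  have hS := S.isGeneralized_R1
  have hS' := S'.isGeneralized_R1
  have hTS' : classInner K.T S'.R1 = (3 : ℤ) := by
    rw [classInner_eq_mean S'.R1_real, ← K.swap_T, S'.T_mul_R1, mean_smul, K.swap_T, K.mean_T]
    norm_num
  have D : Grid q s w (Blocks.trivIrr G) (fun χ : IrrCharacter G => (charDegree (χ : G → ℂ) : ℤ))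
      (coef hR) (coef hS) (coef hC) (coef hS') (coef hT) :=
    { toStage := K.stage fun χ hχ => C.two_le_degree hχ
      shape := hsw
      adm := fun χ hχ ht => by
        obtain ⟨i, j, hij⟩ := C.degree_shape χ (K.not_three_dvd_degree ht)
        refine ⟨i, j, ?_, hij ▸ C.two_le_degree hχ, ?_⟩
        · by_contra hj
          push Not at hj
          have h := C.degree_dvd χ
          rw [hij, pow_one] at h
          have h2 : q * q ∣ 9 * 2 ^ m * q := by
            refine dvd_trans ?_ h
            rw [← pow_two]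
            exact (pow_dvd_pow q hj).mul_left _
          have h1 : q ∣ 9 * 2 ^ m := Nat.dvd_of_mul_dvd_mul_right C.hq.pos h2
          rcases C.hq.dvd_mul.mp h1 with h' | h'
          · exact C.hq3 ((Nat.prime_dvd_prime_iff_eq C.hq Nat.prime_three).mp
              (C.hq.dvd_of_dvd_pow (show q ∣ 3 ^ 2 from h')))
          · exact C.hq2 ((Nat.prime_dvd_prime_iff_eq C.hq Nat.prime_two).mp (C.hq.dvd_of_dvd_pow h'))
        · rw [← hij]
          rcases ht with ht | ht <;> rw [ht] <;> simp
      exc := fun χ ψ h1 h2 => congrArg Nat.cast (C.exceptional_degree_eq χ ψ h1 h2)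
      r₁r₁ := coef_dot _ _ (by
        rw [classInner_eq_mean S.R1_real, S.R1_mul_self, mean_smul, K.mean_R0]; norm_num)
      rr₁ := coef_dot _ _ (by
        rw [classInner_eq_mean S.R1_real, S.R0_mul_R1, mean_smul, S.mean_R1]; norm_num)
      r₁c := coef_dot _ _ (by
        rw [classInner_eq_mean K.swap.R0_conj, S.R1_mul_C0, K.mean_T]; norm_num)
      tr₁ := coef_dot _ _ (by
        rw [classInner_eq_mean S.R1_real, S.T_mul_R1, mean_smul, K.mean_T]; norm_num)
      r₁e := coef_triv _ (by rw [S.mean_R1]; norm_num)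
      dr₁ := coef_deg _ S.R1_one
      c₁c₁ := coef_dot _ _ (by
        rw [classInner_eq_mean S'.R1_real, S'.R1_mul_self, mean_smul, K.swap.mean_R0]; norm_num)
      cc₁ := coef_dot _ _ (by
        rw [classInner_eq_mean S'.R1_real, S'.R0_mul_R1, mean_smul, S'.mean_R1]; norm_num)
      c₁r := coef_dot _ _ (by
        rw [classInner_eq_mean K.R0_conj,
          show S'.R1 * K.R0 = K.swap.T from S'.R1_mul_C0, K.swap.mean_T]
        norm_num)
      tc₁ := coef_dot _ _ hTS'
      c₁e := coef_triv _ (by rw [S'.mean_R1]; norm_num)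
      dc₁ := coef_deg _ S'.R1_one
      r₁c₁ := coef_dot _ _ (by
        rw [classInner_eq_mean S'.R1_real, S.R1_mul_C1 S', K.mean_T]; norm_num) }
  exact D.false

end CfsgLib.NineTwoPrimes
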