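import Cfsg.Agent.Lib.NineTwoPrimes.KleinSections
import Cfsg.Agent.Lib.Blocks.PrincipalColumn
import Cfsg.Agent.Lib.Blocks.PrincipalQuot
import Cfsg.Agent.Lib.Blocks.BrauerFeit

/-!
The characters meeting the product lie in the principal block; the exponent and the range of `q`.
-/

set_option autoImplicit false
set_option linter.style.haveILetI false
set_option linter.unusedSectionVars false

namespace CfsgLib.NineTwoPrimes

open Cfsg CfsgLib
open scoped ComplexConjugate CfsgLib.Char

universe u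

variable {G : Type u} [Group G] [Fintype G]

namespace Klein

variable (K : Klein G)

/-- The sum over the section of `x`. -/
theorem sum_section_x (χ : IrrCharacter G) :
    ∑ r ∈ regCent (K.x : G), (χ : G → ℂ) ((K.x : G) * r) =
      (coef K.isGeneralized_T χ : ℂ) * (regCent (K.x : G)).card := by
  have h := coef_spec K.isGeneralized_T χ
  rw [classInner] at h
  simp only [T, mul_assoc] at h
  rw [← Finset.mul_sum, sum_secInd_mul (K.pow_of K.x) (h := fun g => conj ((χ : G → ℂ) g))
    (fun g u => by show conj _ = conj _; rw [Blocks.irr_classFunction χ g u])] at h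
  have hi : ((Subgroup.centralizer ({(K.x : G)} : Set G)).index : ℂ) ≠ 0 :=
    Nat.cast_ne_zero.mpr Subgroup.index_ne_zero_of_finite
  have hn : (Nat.card G : ℂ) ≠ 0 := Nat.cast_ne_zero.mpr Nat.card_pos.ne'
  have hidx := K.index_mul_regCent_x
  field_simp at h hidx
  have e : ∑ r ∈ regCent (K.x : G), conj ((χ : G → ℂ) ((K.x : G) * r)) =
      (coef K.isGeneralized_T χ : ℂ) * (regCent (K.x : G)).card := by
    refine mul_left_cancel₀ (mul_ne_zero hi (by norm_num : (9 : ℂ) ≠ 0)) ?_
    linear_combination h - (coef K.isGeneralized_T χ : ℂ) * hidx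
  have h' := congrArg conj e
  simpa [map_sum, map_mul] using h'

/-- Outside the principal block the sum over the section of `x` vanishes. -/
theorem sum_section_eq_zero {M : Ideal AlgInt} (hM : IsPModular 3 M) {χ : IrrCharacter G}
    (hB : χ ∉ principalBlock M G) :
    ∑ r ∈ regCent (K.x : G), (χ : G → ℂ) ((K.x : G) * r) = 0 := by
  classical
  haveI : Fact (Nat.Prime 3) := ⟨Nat.prime_three⟩
  haveI := Blocks.isPrime_of_isPModular hM
  haveI : Fintype (Subgroup.centralizer ({(K.x : G)} : Set G)) := Fintype.ofFinite _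
  set H := Subgroup.centralizer ({(K.x : G)} : Set G)
  have hnpc := K.npc_x
  obtain ⟨Q⟩ : Nonempty (Sylow 3 H) := inferInstance
  have hb0 : IsPBlock M (principalBlock M H) := Blocks.isPBlock_principalBlock
  have hθ : IsClassFunction H (fun c : H => (χ : G → ℂ) ((K.x : G) * (c : G))) :=
    Blocks.isClassFunction_translate (x := (K.x : G)) (Blocks.irr_classFunction χ)
  have hxo := K.pow_of K.x
  have hzero := Blocks.blockPart_eq_zero_of_not_induced hM hxo (Blocks.isPBlock_blockOf χ)
    (Blocks.mem_blockOf_self χ) hb0 (fun h' => hB (by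
      rw [Blocks.IsInducedBlock.unique (Blocks.isInducedBlock_principal hM
        (Blocks.inducedBlockDefined_centralizer hM hxo Blocks.isPBlock_principalBlock)) h']
      exact Blocks.mem_blockOf_self χ)) (y := (1 : H)) (by rw [orderOf_one]; norm_num)
  rw [Blocks.blockPart_eq_sum _ hθ] at hzero
  simp only [mul_one] at hzero
  have hcoef : ∀ k : H, blockCoeff (principalBlock M H) k =
      if ¬ 3 ∣ orderOf k then (Nat.card H : ℂ)⁻¹ * Nat.card Q else 0 := by
    intro k
    by_cases hk : ¬ 3 ∣ orderOf k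
    · rw [if_pos hk, blockCoeff, ← Blocks.sum_sq_degree_principal_of_npc hM hnpc Q]
      congr 1
      have hmem : k ∈ pPrimeCore 3 H := by
        rw [Transfer.pPrimeCore_eq_pResidual hnpc]
        exact Transfer.mem_pResidual_of_coprime (Nat.prime_three.coprime_iff_not_dvd.mpr hk).symm
      have : (pPrimeCore 3 H).Normal := SelfCent.pPrimeCore_normal' 3
      refine Eq.trans ?_ ((Nat.castAddMonoidHom ℂ).map_finsum_mem _ (Set.toFinite _)).symm
      refine finsum_mem_congr rfl fun ξ hξ => ?_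
      show _ = ((charDegree (ξ : H → ℂ) ^ 2 : ℕ) : ℂ)
      rw [Blocks.trivial_on_of_mem_principalBlock hM _ (Blocks.not_dvd_card_pPrimeCore (H := H) hM.1) hξ k hmem,
        (Blocks.irr_degree_eq ξ).1, Complex.conj_natCast, Nat.cast_pow, sq]
    · rw [if_neg hk]
      exact Blocks.blockCoeff_eq_zero_of_not_regular hM (Blocks.IsPBlock.isBlockUnion hb0) (fun h => hk h)
  simp only [hcoef, ite_mul, zero_mul] at hzero
  rw [← Finset.sum_filter, ← Finset.mul_sum, mul_eq_zero] at hzero
  have hne : ((Nat.card H : ℂ)⁻¹ * Nat.card Q) ≠ 0 := mul_ne_zero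
    (inv_ne_zero (Nat.cast_ne_zero.mpr Nat.card_pos.ne')) (Nat.cast_ne_zero.mpr Nat.card_pos.ne')
  rw [← hzero.resolve_left hne]
  refine Finset.sum_bij (fun r hr => (⟨r, (mem_regCent.mp hr).1⟩ : H)) (fun r hr => ?_)
    (fun r _ r' _ e => congrArg Subtype.val e) (fun c hc => ⟨(c : G), ?_, Subtype.ext rfl⟩) fun r _ => rfl
  · exact Finset.mem_filter.mpr ⟨Finset.mem_univ _, by rw [Subgroup.orderOf_mk]; exact (mem_regCent.mp hr).2⟩
  · exact mem_regCent.mpr ⟨c.2, by rw [Subgroup.orderOf_coe]; exact (Finset.mem_filter.mp hc).2⟩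

theorem value_x {χ : IrrCharacter G} (hχ : coef K.isGeneralized_T χ ≠ 0) :
    (χ : G → ℂ) (K.x : G) = (coef K.isGeneralized_T χ : ℂ) := by
  classical
  haveI : Fact (Nat.Prime 3) := ⟨Nat.prime_three⟩
  obtain ⟨M, hM⟩ := Blocks.exists_isPModular Nat.prime_three
  haveI := Blocks.isPrime_of_isPModular hM
  have hcard : ((regCent (K.x : G)).card : ℂ) ≠ 0 := Nat.cast_ne_zero.mpr (regCent_card_pos _).ne'
  have hB : χ ∈ principalBlock M G := by
    by_contra h
    have := K.sum_section_x χ
    rw [K.sum_section_eq_zero hM h] at this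
    exact mul_ne_zero (Int.cast_ne_zero.mpr hχ) hcard this.symm
  haveI : Fintype (Subgroup.centralizer ({(K.x : G)} : Set G)) := Fintype.ofFinite _
  have hconst : ∀ r ∈ regCent (K.x : G), (χ : G → ℂ) ((K.x : G) * r) = (χ : G → ℂ) (K.x : G) := by
    intro r hr
    obtain ⟨hrC, hr3⟩ := mem_regCent.mp hr
    have hmem : (⟨r, hrC⟩ : Subgroup.centralizer ({(K.x : G)} : Set G)) ∈
        pPrimeCore 3 (Subgroup.centralizer ({(K.x : G)} : Set G)) := by
      rw [Transfer.pPrimeCore_eq_pResidual K.npc_x]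
      exact Transfer.mem_pResidual_of_coprime (Nat.prime_three.coprime_iff_not_dvd.mpr
        (by rw [Subgroup.orderOf_mk]; exact hr3)).symm
    have h := Blocks.value_mul_pPrimeCore hM (K.pow_of K.x) hB (y := 1) (v := ⟨r, hrC⟩)
      (by rw [orderOf_one]; norm_num) (by rw [one_mul, Subgroup.orderOf_mk]; exact hr3) hmem
    rw [one_mul, OneMemClass.coe_one, mul_one] at h
    exact h
  have h := K.sum_section_x χ
  rw [Finset.sum_congr rfl hconst, Finset.sum_const, nsmul_eq_mul, mul_comm] at h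
  exact mul_right_cancel₀ hcard h

theorem not_three_dvd_degree {χ : IrrCharacter G}
    (hχ : coef K.isGeneralized_T χ = 1 ∨ coef K.isGeneralized_T χ = -1) :
    ¬ 3 ∣ charDegree (χ : G → ℂ) := by
  intro h
  have hne : coef K.isGeneralized_T χ ≠ 0 := by omega
  have h3 := M12Order.dvd_sub_of_three (Char.isCharacter_of_isIrr χ.2) (x := (K.x : G)) (s := 1)
    (K.orderOf_coe_of_ne K.x_ne_one) (mul_one 1) (by rw [mul_one, one_mul])
    (A := (charDegree (χ : G → ℂ) : ℤ)) (W := coef K.isGeneralized_T χ)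
    (by rw [BrauerReynolds.value_one]; norm_cast) (by rw [mul_one]; exact K.value_x hne)
  have h' : (3 : ℤ) ∣ (charDegree (χ : G → ℂ) : ℤ) := by exact_mod_cast h
  omega

variable {q m e : ℕ}

include K in

/-- The exponent is one and `q` is `5`, `7` or `17`. -/
theorem exponent_range (C : Ctx G q m e) : e = 1 ∧ (q = 5 ∨ q = 7 ∨ q = 17) := by
  classical
  have S := K.stage fun χ hχ => C.two_le_degree hχ
  have key : ∀ v : IrrCharacter G → ℤ, dot v v = 3 → v (Blocks.trivIrr G) = 1 →
      dot v (fun χ => (charDegree (χ : G → ℂ) : ℤ)) = 0 →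
      Proper (Blocks.trivIrr G) v (coef K.isGeneralized_T) → e = 1 ∧ (q = 5 ∨ q = 7 ∨ q = 17) := by
    rintro v h3 he hd ⟨χ, ψ, p, hx, hy⟩
    rw [p.dot_left he, S.de] at hd
    have u1 := (unit_of_ne_zero h3 χ).resolve_left p.vx
    have u2 := (unit_of_ne_zero h3 ψ).resolve_left p.vy
    obtain ⟨i, j, hi⟩ := C.degree_shape χ (K.not_three_dvd_degree (by rw [hx]; exact u1))
    obtain ⟨i', j', hi'⟩ := C.degree_shape ψ (K.not_three_dvd_degree (by rw [hy]; exact u2))
    have t1 := C.two_le_degree p.xe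
    have t2 := C.two_le_degree p.ye
    have hadj : 2 ^ i * q ^ j = 2 ^ i' * q ^ j' + 1 ∨ 2 ^ i * q ^ j + 1 = 2 ^ i' * q ^ j' := by
      rw [← hi, ← hi']
      rcases u1 with e1 | e1 <;> rcases u2 with e2 | e2 <;> simp only [e1, e2] at hd <;> omega
    rcases pair_shape C.hq C.hq2 C.hq3 (hi ▸ t1) (hi' ▸ t2) hadj with
      ⟨rfl, rfl, -, hk⟩ | ⟨rfl, rfl, -, hk⟩
    · obtain rfl : e = 1 := C.exponent_eq_one (χ := χ) (by simpa using hi)
      exact ⟨rfl, C.q_mem hk⟩
    · obtain rfl : e = 1 := C.exponent_eq_one (χ := ψ) (by simpa using hi')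
      exact ⟨rfl, C.q_mem hk⟩
  rcases S.proper with h | h
  · exact key _ S.rr S.re S.dr h
  · exact key _ S.cc S.ce S.dc h

end Klein

end CfsgLib.NineTwoPrimes
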