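import Cfsg.Agent.Lib.NineTwoPrimes.KleinBasic
import Cfsg.Agent.Lib.NineTwoPrimes.Gram
import Cfsg.Agent.Lib.BrauerInd.Main
import Cfsg.Agent.Lib.Char.BrauerInd
import Cfsg.Agent.Lib.Char.PiPart

/-!
Generalized characters supported on the sections of the elements of order three.
-/

set_option autoImplicit false
set_option linter.style.haveILetI false
set_option linter.unusedSectionVars false

namespace CfsgLib.NineTwoPrimes

open Cfsg CfsgLib
open scoped ComplexConjugate CfsgLib.Char IsMulCommutative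

universe u

variable {G : Type u} [Group G] [Fintype G]

open scoped _root_.Classical in
/-- The indicator of the section of `y`. -/
noncomputable def secInd (y g : G) : ℂ := if IsConj (threePart g) y then 1 else 0

theorem secInd_conj (y g h : G) : secInd y (h * g * h⁻¹) = secInd y g := by
  classical
  rw [secInd, secInd, threePart_conj]
  refine if_congr ?_ rfl rfl
  have h' : IsConj (threePart g) (h * threePart g * h⁻¹) := isConj_iff.mpr ⟨h, rfl⟩
  exact ⟨fun e => h'.trans e, fun e => h'.symm.trans e⟩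

theorem secInd_of_type {g y : G} (hy : IsConj (threePart g) y) (z : G) [Decidable (IsConj y z)] :
    secInd z g = if IsConj y z then 1 else 0 := by
  classical
  rw [secInd]
  exact if_congr ⟨fun e => hy.symm.trans e, fun e => hy.trans e⟩ rfl rfl

theorem secInd_sq (y g : G) : secInd y g * secInd y g = secInd y g := by
  classical
  rw [secInd]; split_ifs <;> simp

theorem secInd_mul_eq_zero {y z : G} (h : ¬ IsConj y z) (g : G) : secInd y g * secInd z g = 0 := by
  classical
  rw [secInd, secInd]
  split_ifs with h1 h2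
  · exact absurd (h1.symm.trans h2) h
  all_goals simp

theorem secInd_conj_real (y g : G) : conj (secInd y g) = secInd y g := by
  classical
  rw [secInd]; split_ifs <;> simp

theorem threePart_one : threePart (1 : G) = 1 := by
  refine threePart_eq ⟨1, mul_one 1, Commute.refl _, ⟨0, ?_⟩, ?_⟩
  · rw [orderOf_one, pow_zero]
  · rw [orderOf_one]; norm_num

theorem threePart_mem_zpowers (g : G) : threePart g ∈ Subgroup.zpowers g := by
  obtain ⟨x, hx, hxz⟩ := Blocks.exists_isPPart (p := 3) Nat.prime_three g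
  rwa [threePart_eq hx]

/-- Summation over a section. -/
theorem sum_secInd_mul {y : G} (hy : ∃ e, orderOf y = 3 ^ e) {h : G → ℂ} (hh : IsClassFunction G h) :
    ∑ g : G, secInd y g * h g =
      ((Subgroup.centralizer ({y} : Set G)).index : ℂ) * ∑ r ∈ regCent y, h (y * r) := by
  classical
  simp only [secInd, ite_mul, one_mul, zero_mul]
  rw [← Finset.sum_filter, ← Finset.sum_fiberwise_of_maps_to (g := threePart) (t := classFinset y)
    (fun g hg => mem_classFinset.mpr (Finset.mem_filter.mp hg).2),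
    Finset.sum_congr rfl (g := fun _ => ∑ r ∈ regCent y, h (y * r)) fun x hx => ?_, Finset.sum_const,
    card_classFinset, nsmul_eq_mul]
  obtain ⟨c, rfl⟩ := isConj_iff.mp (mem_classFinset.mp hx).symm
  refine (Finset.sum_bij' (fun r _ => c * (y * r) * c⁻¹) (fun g _ => y⁻¹ * (c⁻¹ * g * c))
    (fun r hr => ?_) (fun g hg => ?_) (fun r _ => by group) (fun g _ => by group) fun r _ => (hh _ _).symm).symm
  · obtain ⟨hrC, hr3⟩ := mem_regCent.mp hr
    have htp : threePart (c * (y * r) * c⁻¹) = c * y * c⁻¹ := by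
      rw [threePart_conj, threePart_eq (Blocks.isPPart_mul (p := 3)
        (Subgroup.mem_centralizer_singleton_iff.mp hrC).symm hy hr3)]
    refine Finset.mem_filter.mpr ⟨Finset.mem_filter.mpr ⟨Finset.mem_univ _, ?_⟩, htp⟩
    rw [htp]; exact (isConj_iff.mpr ⟨c, rfl⟩).symm
  · obtain ⟨-, hg'⟩ := Finset.mem_filter.mp hg
    obtain ⟨r, hr, hcom, -, hr3⟩ := hg' ▸ isPPart_threePart g
    have hcg : threePart (c⁻¹ * g * c) = y := by
      have := threePart_conj g c⁻¹
      rw [inv_inv, hg'] at this
      rw [this]; group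
    obtain ⟨r', hr', hcom', -, hr3'⟩ := hcg ▸ isPPart_threePart (c⁻¹ * g * c)
    rw [← hr', inv_mul_cancel_left]
    exact mem_regCent.mpr ⟨Subgroup.mem_centralizer_singleton_iff.mpr hcom'.symm.eq, hr3'⟩

theorem sum_secInd {y : G} (hy : ∃ e, orderOf y = 3 ^ e) :
    ∑ g : G, secInd y g = ((Subgroup.centralizer ({y} : Set G)).index : ℂ) * (regCent y).card := by
  have h := sum_secInd_mul hy (h := fun _ => (1 : ℂ)) (fun _ _ => rfl)
  simpa using h

/-- The mean value. -/
noncomputable def mean (f : G → ℂ) : ℂ := classInner f ((Blocks.trivIrr G : IrrCharacter G) : G → ℂ)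

theorem mean_eq (f : G → ℂ) : mean f = (Nat.card G : ℂ)⁻¹ * ∑ g : G, f g := by
  rw [mean, classInner]
  refine congrArg _ (Finset.sum_congr rfl fun g _ => ?_)
  rw [show ((Blocks.trivIrr G : IrrCharacter G) : G → ℂ) g = 1 from rfl, map_one, mul_one]

theorem classInner_eq_mean {f g : G → ℂ} (hg : ∀ x, conj (g x) = g x) : classInner f g = mean (f * g) := by
  rw [mean_eq, classInner]
  exact congrArg _ (Finset.sum_congr rfl fun x _ => by rw [hg, Pi.mul_apply])

theorem mean_smul (c : ℂ) (f : G → ℂ) : mean (c • f) = c * mean f := by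
  rw [mean, mean, Char.classInner_smul_left]

theorem mean_add (f g : G → ℂ) : mean (f + g) = mean f + mean g := by
  rw [mean, mean, mean, Char.classInner_add_left]

/-- The coefficients of a generalized character. -/
noncomputable def coef {f : G → ℂ} (hf : IsGeneralizedCharacter G f) : IrrCharacter G → ℤ := fun χ =>
  (Char.exists_int_classInner hf (Char.isGeneralized_of_isIrr χ.2)).choose

theorem coef_spec {f : G → ℂ} (hf : IsGeneralizedCharacter G f) (χ : IrrCharacter G) :
    classInner f (χ : G → ℂ) = (coef hf χ : ℂ) :=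
  (Char.exists_int_classInner hf (Char.isGeneralized_of_isIrr χ.2)).choose_spec

theorem coef_expansion {f : G → ℂ} (hf : IsGeneralizedCharacter G f) :
    f = ∑ χ : IrrCharacter G, (coef hf χ : ℂ) • (χ : G → ℂ) := by
  conv_lhs => rw [Char.classFunction_expansion (Char.isClassFunction_of_isGeneralized hf)]
  exact Finset.sum_congr rfl fun χ _ => by rw [coef_spec hf]

theorem coef_dot [DecidableEq (IrrCharacter G)] {f g : G → ℂ} (hf : IsGeneralizedCharacter G f)
    (hg : IsGeneralizedCharacter G g) {n : ℤ} (h : classInner f g = (n : ℂ)) :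
    dot (coef hf) (coef hg) = n := by
  apply Int.cast_injective (α := ℂ)
  rw [← h]
  conv_rhs => rw [coef_expansion hf, coef_expansion hg, Char.classInner_sum_smul_sum_smul]
  simp [dot]

theorem coef_triv {f : G → ℂ} (hf : IsGeneralizedCharacter G f) {n : ℤ} (h : mean f = (n : ℂ)) :
    coef hf (Blocks.trivIrr G) = n := by
  apply Int.cast_injective (α := ℂ)
  rw [← coef_spec hf, ← h]; rfl

theorem coef_deg [DecidableEq (IrrCharacter G)] {f : G → ℂ} (hf : IsGeneralizedCharacter G f) (h : f 1 = 0) :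
    dot (coef hf) (fun χ => (charDegree (χ : G → ℂ) : ℤ)) = 0 := by
  apply Int.cast_injective (α := ℂ)
  have h' := congrFun (coef_expansion hf) 1
  rw [h, Finset.sum_apply] at h'
  simp only [Pi.smul_apply, smul_eq_mul, BrauerReynolds.value_one] at h'
  rw [dot]
  push_cast
  exact h'.symm

namespace Klein

variable (K : Klein G)

/-- Three times the indicator of the sections of `a` and `x`. -/
noncomputable def R0 (g : G) : ℂ := 3 * (secInd (K.a : G) g + secInd (K.x : G) g)

theorem R0_swap (g : G) : K.swap.R0 g = 3 * (secInd (K.b : G) g + secInd (K.x : G) g) := by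
  rw [R0, K.swap_x]; rfl

/-- Nine times the indicator of the section of `x`. -/
noncomputable def T (g : G) : ℂ := 9 * secInd (K.x : G) g

theorem pow_of (y : (K.P : Subgroup G)) : ∃ e, orderOf (y : G) = 3 ^ e := pow_of_mem y.2

theorem isClassFunction_R0 : IsClassFunction G K.R0 := fun g h => by
  simp only [R0, secInd_conj]

theorem R0_of_type {g : G} {y : (K.P : Subgroup G)} (hy : IsConj (threePart g) (y : G))
    [Decidable (y ∈ Subgroup.zpowers K.b)] :
    K.R0 g = if y ∈ Subgroup.zpowers K.b then 0 else 3 := by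
  classical
  rw [R0, secInd_of_type hy, secInd_of_type hy]
  rcases K.classify y with rfl | ⟨h, h'⟩ | ⟨h, h'⟩ | ⟨h, -, h'⟩
  · rw [if_pos (one_mem _), if_neg, if_neg]
    · norm_num
    · exact K.not_isConj_one K.x_ne_one
    · exact K.not_isConj_one K.ha
  · rw [if_pos h, if_neg fun e => K.not_isConj_a_x (h.symm.trans e),
      if_neg fun e => K.a_notMem ((K.mem_zpowers_b_iff_of_isConj h).mp e)]
    norm_num
  · rw [if_neg fun e => K.not_isConj_a_b (e.symm.trans h),
      if_neg fun e => K.not_isConj_b_x (h.symm.trans e), if_pos h']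
    norm_num
  · rw [if_neg fun e => K.not_isConj_a_x (e.symm.trans h), if_pos h, if_neg h']
    norm_num

/-- The `3`-part on a nilpotent subgroup as a homomorphism into `P`. -/
theorem exists_rho (E : Subgroup G) [Group.IsNilpotent E] :
    ∃ (c : G) (ρ : E →* (K.P : Subgroup G)),
      (∀ e : E, ((ρ e : (K.P : Subgroup G)) : G) = threePart (c * (e : G) * c⁻¹)) ∧
      ∀ e e' : E, Commute (c * (e : G) * c⁻¹) ((ρ e' : (K.P : Subgroup G)) : G) := by
  classical
  haveI : Fact (Nat.Prime 3) := ⟨Nat.prime_three⟩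
  haveI := K.comm
  obtain ⟨S⟩ : Nonempty (Sylow 3 E) := inferInstance
  haveI hn : (S : Subgroup E).Normal :=
    S.normal_of_normalizerCondition normalizerCondition_of_isNilpotent
  haveI := Sylow.unique_of_normal S hn
  obtain ⟨Q, hQ⟩ := (S.2.map E.subtype).exists_le_sylow
  obtain ⟨c, hc⟩ := MulAction.exists_smul_eq G Q K.P
  have hin : ∀ s : (S : Subgroup E), c * ((s : E) : G) * c⁻¹ ∈ (K.P : Subgroup G) := fun s => by
    rw [← hc]
    exact Subgroup.mem_pointwise_smul_iff_inv_smul_mem.mpr (by
      simpa [MulAut.conj_apply, mul_assoc] using hQ ⟨(s : E), s.2, rfl⟩)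
  let κ : (S : Subgroup E) →* (K.P : Subgroup G) :=
    MonoidHom.mk' (fun s => ⟨_, hin s⟩) fun s t => Subtype.ext (by
      show c * (((s * t : (S : Subgroup E)) : E) : G) * c⁻¹ = _
      rw [Subgroup.coe_mul, Subgroup.coe_mul, Subgroup.coe_mul]
      group)
  have hκ : Function.Injective κ := fun s t e => by
    have e' : c * ((s : E) : G) * c⁻¹ = c * ((t : E) : G) * c⁻¹ := congrArg Subtype.val e
    exact Subtype.ext (Subtype.ext (mul_left_cancel (mul_right_cancel e')))
  haveI : IsMulCommutative (S : Subgroup E) := ⟨⟨fun s t => hκ (by rw [map_mul, map_mul, mul_comm])⟩⟩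
  have hmem : ∀ z : E, (∃ i, orderOf z = 3 ^ i) → z ∈ (S : Subgroup E) := by
    intro z hz
    obtain ⟨i, hi⟩ := hz
    obtain ⟨R, hR⟩ := (IsPGroup.of_card (n := i) (by rw [Nat.card_zpowers, hi]) :
      IsPGroup 3 (Subgroup.zpowers z)).exists_le_sylow
    rw [Subsingleton.elim R S] at hR
    exact hR (Subgroup.mem_zpowers z)
  have hdec : ∀ e : E, ∃ s : (S : Subgroup E), ∃ r : E, e = (s : E) * r ∧ ¬ 3 ∣ orderOf r ∧
      ((s : E) : G) = threePart (e : G) := by
    intro e
    obtain ⟨z, hz, hzz⟩ := Blocks.exists_isPPart (p := 3) Nat.prime_three e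
    obtain ⟨r, hr, hcom, hzo, hro⟩ := hz
    refine ⟨⟨z, hmem z hzo⟩, r, hr.symm, hro, (threePart_eq ⟨(r : G), ?_, ?_, ?_, ?_⟩).symm⟩
    · rw [← Subgroup.coe_mul, hr]
    · exact hcom.map E.subtype
    · simpa only [Subgroup.orderOf_coe] using hzo
    · rwa [Subgroup.orderOf_coe]
  have hcen : ∀ (e : E) (s : (S : Subgroup E)), Commute e (s : E) := by
    intro e s
    obtain ⟨t, r, rfl, hr, -⟩ := hdec e
    refine Commute.mul_left (congrArg Subtype.val (mul_comm t s)) ?_
    obtain ⟨i, hi⟩ := IsPGroup.iff_orderOf.mp S.2 s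
    refine Char.PiPart.commute_of_coprime ?_
    rw [Subgroup.orderOf_coe, hi]
    exact ((Nat.prime_three.coprime_iff_not_dvd.mpr hr).pow_left i).symm
  have hN : Subgroup.normalizer ((S : Subgroup E) : Set E) ≤
      Subgroup.centralizer ((S : Subgroup E) : Set E) := fun e _ => by
    rw [Subgroup.mem_centralizer_iff]
    intro t ht
    exact (hcen e ⟨t, ht⟩).symm.eq
  set f : E →* (S : Subgroup E) := MonoidHom.transferSylow S hN
  have hco : (Nat.card (S : Subgroup E)).Coprime (S : Subgroup E).index := by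
    obtain ⟨i, hi⟩ := S.2.exists_card_eq
    rw [hi]
    exact (Nat.prime_three.coprime_iff_not_dvd.mpr S.not_dvd_index).pow_left i
  set ν : (S : Subgroup E) ≃* (S : Subgroup E) :=
    MulEquiv.ofBijective (powMonoidHom (S : Subgroup E).index) (powCoprime hco).bijective
  have hτ : ∀ e : E, (((ν.symm (f e) : (S : Subgroup E)) : E) : G) = threePart (e : G) := by
    intro e
    obtain ⟨t, r, rfl, hr, ht⟩ := hdec e
    have hfr : f r = 1 := by
      obtain ⟨i, hi⟩ := IsPGroup.iff_orderOf.mp S.2 (f r)
      have h1 := orderOf_map_dvd f r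
      rw [hi] at h1
      rw [← orderOf_eq_one_iff, hi]
      rcases Nat.eq_zero_or_pos i with rfl | hi0
      · exact pow_zero 3
      · exact absurd ((dvd_pow_self 3 hi0.ne').trans h1) hr
    have hft : f (t : E) = t ^ (S : Subgroup E).index :=
      (MonoidHom.transferSylow_eq_pow S hN _ t.2).trans (Subtype.ext rfl)
    rw [map_mul, hfr, mul_one, hft, show ν.symm (t ^ (S : Subgroup E).index) = t from ν.symm_apply_apply t, ht]
  refine ⟨c, κ.comp (ν.symm.toMonoidHom.comp f), fun e => ?_, fun e e' => ?_⟩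
  · rw [threePart_conj, ← hτ e]; rfl
  · show Commute _ (c * (((ν.symm (f e') : (S : Subgroup E)) : E) : G) * c⁻¹)
    exact ((hcen e (ν.symm (f e'))).map E.subtype).map (MulAut.conj c).toMonoidHom

theorem isGeneralized_R0 : IsGeneralizedCharacter G K.R0 := by
  classical
  haveI := K.comm
  obtain ⟨ψ, -, hker, hψ3⟩ := exists_hom_kernel K.card K.cube_b K.hb
  refine BrauerInd.isGeneralized_of_elementary K.isClassFunction_R0 fun E p hp hE => ?_
  haveI := Char.isNilpotent_of_isElementary hp hE
  obtain ⟨c, ρ, hρ, -⟩ := K.exists_rho E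
  have e : (fun e : E => K.R0 e) = ((fun _ => (1 : ℂ)) + fun _ => (1 : ℂ)) -
      ((fun e => (((ψ.comp ρ) e : ℂˣ) : ℂ)) + fun e => ((((ψ.comp ρ)⁻¹ : E →* ℂˣ) e : ℂˣ) : ℂ)) := by
    funext e
    have ht : IsConj (threePart (e : G)) (ρ e : G) :=
      isConj_iff.mpr ⟨c, by rw [hρ, threePart_conj]⟩
    rw [K.R0_of_type ht]
    simp only [Pi.add_apply, Pi.sub_apply, MonoidHom.inv_apply, MonoidHom.comp_apply]
    by_cases h : ρ e ∈ Subgroup.zpowers K.b
    · rw [if_pos h, (hker _).mpr h]; simp
    · rw [if_neg h, root_sum (hψ3 _) fun h' => h ((hker _).mp h')]; norm_num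
  rw [e]
  exact Char.isGeneralized_sub (Char.isGeneralized_add Char.isGeneralized_one Char.isGeneralized_one)
    (Char.isGeneralized_add (Char.isGeneralized_of_isCharacter (Char.isCharacter_monoidHom _))
      (Char.isGeneralized_of_isCharacter (Char.isCharacter_monoidHom _)))

theorem R0_conj (g : G) : conj (K.R0 g) = K.R0 g := by
  simp only [R0, map_mul, map_add, secInd_conj_real, map_ofNat]

theorem R0_mul_self : K.R0 * K.R0 = (3 : ℂ) • K.R0 := by
  funext g
  simp only [Pi.mul_apply, Pi.smul_apply, smul_eq_mul, R0]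
  linear_combination (9 : ℂ) * secInd_sq (K.a : G) g + (9 : ℂ) * secInd_sq (K.x : G) g +
    (18 : ℂ) * secInd_mul_eq_zero K.not_isConj_a_x g

theorem R0_mul_swap : K.R0 * K.swap.R0 = K.T := by
  funext g
  rw [Pi.mul_apply, R0_swap]
  simp only [R0, T]
  linear_combination (9 : ℂ) * secInd_mul_eq_zero K.not_isConj_a_x g +
    (9 : ℂ) * secInd_mul_eq_zero K.not_isConj_a_b g + (9 : ℂ) * secInd_mul_eq_zero K.not_isConj_b_x g +
    (9 : ℂ) * secInd_sq (K.x : G) g

theorem T_mul_R0 : K.T * K.R0 = (3 : ℂ) • K.T := by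
  funext g
  simp only [Pi.mul_apply, Pi.smul_apply, smul_eq_mul, R0, T]
  linear_combination (27 : ℂ) * secInd_mul_eq_zero K.not_isConj_a_x g +
    (27 : ℂ) * secInd_sq (K.x : G) g

theorem T_mul_self : K.T * K.T = (9 : ℂ) • K.T := by
  funext g
  simp only [Pi.mul_apply, Pi.smul_apply, smul_eq_mul, T]
  linear_combination (81 : ℂ) * secInd_sq (K.x : G) g

theorem isGeneralized_T : IsGeneralizedCharacter G K.T :=
  K.R0_mul_swap ▸ Char.isGeneralized_mul K.isGeneralized_R0 K.swap.isGeneralized_R0

theorem T_conj (g : G) : conj (K.T g) = K.T g := by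
  simp only [T, map_mul, secInd_conj_real, map_ofNat]

theorem R0_one : K.R0 1 = 0 := by
  classical
  rw [K.R0_of_type (y := 1) (by rw [threePart_one]; exact IsConj.refl _), if_pos (one_mem _)]

theorem T_one : K.T 1 = 0 := by
  classical
  rw [T, secInd, threePart_one, if_neg (K.not_isConj_one K.x_ne_one), mul_zero]

theorem index_mul_regCent_x : ((Subgroup.centralizer ({(K.x : G)} : Set G)).index : ℂ) *
    (regCent (K.x : G)).card = (Nat.card G : ℂ) / 9 := by
  rw [eq_div_iff (by norm_num)]
  exact_mod_cast (show (Subgroup.centralizer ({(K.x : G)} : Set G)).index * (regCent (K.x : G)).card * 9 =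
    Nat.card G by rw [mul_assoc, K.card_regCent_x, mul_comm, Subgroup.card_mul_index])

theorem mean_secInd_x : mean (secInd (K.x : G)) = 1 / 9 := by
  rw [mean_eq, sum_secInd (K.pow_of K.x), K.index_mul_regCent_x]
  field_simp

theorem mean_T : mean K.T = 1 := by
  rw [show K.T = (9 : ℂ) • secInd (K.x : G) from rfl, mean_smul, K.mean_secInd_x]
  norm_num

/-- The regular elements centralizing `a` and the mean value of `R₀`. -/
theorem card_regCent_a : (regCent (K.a : G)).card * 9 =
    2 * Nat.card (Subgroup.centralizer ({(K.a : G)} : Set G)) := by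
  classical
  obtain ⟨m, hm⟩ := Char.exists_int_classInner K.isGeneralized_R0
    (Char.isGeneralized_of_isIrr (Blocks.trivIrr G).2)
  change mean K.R0 = _ at hm
  rw [mean_eq] at hm
  simp only [R0, ← Finset.mul_sum, Finset.sum_add_distrib, sum_secInd (K.pow_of _),
    K.index_mul_regCent_x] at hm
  have hle := K.three_mul_regCent_le K.ha
  have hpos := regCent_card_pos (K.a : G)
  set C := Subgroup.centralizer ({(K.a : G)} : Set G)
  have hG : (Nat.card G : ℂ) = (Nat.card C : ℂ) * C.index := by
    exact_mod_cast C.card_mul_index.symm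
  have hi : (C.index : ℂ) ≠ 0 := Nat.cast_ne_zero.mpr Subgroup.index_ne_zero_of_finite
  have hc : (Nat.card C : ℂ) ≠ 0 := Nat.cast_ne_zero.mpr Nat.card_pos.ne'
  have key : (((regCent (K.a : G)).card * 9 : ℕ) : ℤ) = (3 * m - 1) * (Nat.card C : ℤ) := by
    apply Int.cast_injective (α := ℂ)
    push_cast
    rw [hG] at hm
    field_simp at hm
    linear_combination hm / 3
  push_cast at key
  have hcpos : (0 : ℤ) < Nat.card C := by exact_mod_cast Nat.card_pos
  have h1 : 0 < 3 * m - 1 := by
    by_contra h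
    push Not at h
    have := mul_nonpos_of_nonpos_of_nonneg h hcpos.le
    omega
  have h2 : 3 * m - 1 ≤ 3 := by
    by_contra h
    push Not at h
    have : 4 * (Nat.card C : ℤ) ≤ (3 * m - 1) * Nat.card C := mul_le_mul_of_nonneg_right (by omega) hcpos.le
    omega
  obtain rfl : m = 1 := by omega
  rw [show (3 * (1 : ℤ) - 1) = ((2 : ℕ) : ℤ) by norm_num] at key
  exact_mod_cast key

theorem mean_secInd_a : mean (secInd (K.a : G)) = 2 / 9 := by
  have h : ((regCent (K.a : G)).card : ℂ) * 9 =
      2 * (Nat.card (Subgroup.centralizer ({(K.a : G)} : Set G)) : ℂ) := by exact_mod_cast K.card_regCent_a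
  have hG : (Nat.card G : ℂ) = (Nat.card (Subgroup.centralizer ({(K.a : G)} : Set G)) : ℂ) *
      (Subgroup.centralizer ({(K.a : G)} : Set G)).index := by
    exact_mod_cast (Subgroup.centralizer ({(K.a : G)} : Set G)).card_mul_index.symm
  rw [mean_eq, sum_secInd (K.pow_of K.a), hG, inv_mul_eq_iff_eq_mul₀ (by
    rw [← hG]; exact Nat.cast_ne_zero.mpr Nat.card_pos.ne')]
  linear_combination ((Subgroup.centralizer ({(K.a : G)} : Set G)).index : ℂ) / 9 * h

theorem mean_R0 : mean K.R0 = 1 := by
  rw [show K.R0 = (3 : ℂ) • (secInd (K.a : G) + secInd (K.x : G)) from rfl, mean_smul, mean_add,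
    K.mean_secInd_a, K.mean_secInd_x]
  norm_num

theorem swap_T : K.swap.T = K.T := by
  funext g
  rw [T, T, K.swap_x]

/-- The coefficient vectors of `R₀`, `C₀` and their product. -/
theorem stage [DecidableEq (IrrCharacter G)]
    (hsimp : ∀ χ : IrrCharacter G, χ ≠ Blocks.trivIrr G → 2 ≤ charDegree (χ : G → ℂ)) :
    Stage (Blocks.trivIrr G) (fun χ => (charDegree (χ : G → ℂ) : ℤ)) (coef K.isGeneralized_R0)
      (coef K.swap.isGeneralized_R0) (coef K.isGeneralized_T) where
  de := by
    apply Int.cast_injective (α := ℂ)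
    push_cast
    rw [← BrauerReynolds.value_one]
    rfl
  two := fun χ hχ => Int.ofNat_le.mpr (hsimp χ hχ)
  rr := coef_dot _ _ (by rw [classInner_eq_mean K.R0_conj, K.R0_mul_self, mean_smul, K.mean_R0]; norm_num)
  cc := coef_dot _ _ (by
    rw [classInner_eq_mean K.swap.R0_conj, K.swap.R0_mul_self, mean_smul, K.swap.mean_R0]; norm_num)
  rc := coef_dot _ _ (by rw [classInner_eq_mean K.swap.R0_conj, K.R0_mul_swap, K.mean_T]; norm_num)
  tt := coef_dot _ _ (by rw [classInner_eq_mean K.T_conj, K.T_mul_self, mean_smul, K.mean_T]; norm_num)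
  tr := coef_dot _ _ (by rw [classInner_eq_mean K.R0_conj, K.T_mul_R0, mean_smul, K.mean_T]; norm_num)
  tc := coef_dot _ _ (by
    rw [classInner_eq_mean K.swap.R0_conj, ← K.swap_T, K.swap.T_mul_R0, mean_smul, K.swap_T, K.mean_T]
    norm_num)
  re := coef_triv _ (by rw [K.mean_R0]; norm_num)
  ce := coef_triv _ (by rw [K.swap.mean_R0]; norm_num)
  te := coef_triv _ (by rw [K.mean_T]; norm_num)
  dr := coef_deg _ K.R0_one
  dc := coef_deg _ K.swap.R0_one
  dt := coef_deg _ K.T_one

end Klein

end CfsgLib.NineTwoPrimes
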