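import Cfsg.Agent.Lib.NineTwoPrimes.KleinPrincipal
import Cfsg.Agent.Lib.FourOrbit.Basic
import Cfsg.Agent.S0018

/-!
The sign character of the centralizer of an axis and the twisted generalized character.
-/

set_option autoImplicit false
set_option linter.style.haveILetI false
set_option linter.unusedSectionVars false

namespace CfsgLib.NineTwoPrimes

open Cfsg CfsgLib
open scoped ComplexConjugate CfsgLib.Char IsMulCommutative

universe u

theorem mem_zpowers_three {H : Type*} [Group H] {β y : H} (h3 : β ^ 3 = 1)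
    (hy : y ∈ Subgroup.zpowers β) : y = 1 ∨ y = β ∨ y = β⁻¹ := by
  obtain ⟨n, rfl⟩ := Subgroup.mem_zpowers_iff.mp hy
  have h3' : β ^ (3 : ℤ) = 1 := by rw [zpow_ofNat, h3]
  obtain ⟨d, r, hr0, hr3, rfl⟩ : ∃ d r : ℤ, 0 ≤ r ∧ r < 3 ∧ n = 3 * d + r :=
    ⟨n / 3, n % 3, Int.emod_nonneg _ (by norm_num), Int.emod_lt_of_pos _ (by norm_num),
      (Int.mul_ediv_add_emod n 3).symm⟩
  rw [zpow_add, zpow_mul, h3', one_zpow, one_mul]
  interval_cases r
  · exact Or.inl (zpow_zero β)
  · exact Or.inr (Or.inl (zpow_one β))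
  · refine Or.inr (Or.inr (eq_inv_of_mul_eq_one_left ?_))
    rw [← zpow_add_one]
    exact h3'

variable {G : Type u} [Group G] [Fintype G]

namespace Klein

variable (K : Klein G)

/-- A sign character of `C(a)` inverting `b`. -/
structure Sign where
  s : Subgroup.centralizer ({(K.a : G)} : Set G) →* ℂˣ
  sign : ∀ c, (s c : ℂ) = 1 ∨ (s c : ℂ) = -1
  neg : ∀ h : K.n₁ ∈ Subgroup.centralizer ({(K.a : G)} : Set G), (s ⟨K.n₁, h⟩ : ℂ) = -1
  trivial : ∀ c : Subgroup.centralizer ({(K.a : G)} : Set G),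
    (c : G) ∈ Subgroup.centralizer ((K.P : Subgroup G) : Set G) → s c = 1
  invariant : ∀ (c : Subgroup.centralizer ({(K.a : G)} : Set G))
    (h : K.n₂ * (c : G) * K.n₂⁻¹ ∈ Subgroup.centralizer ({(K.a : G)} : Set G)), s ⟨_, h⟩ = s c

theorem conj₂_mem {c : G} (hc : c ∈ Subgroup.centralizer ({(K.a : G)} : Set G)) :
    K.n₂ * c * K.n₂⁻¹ ∈ Subgroup.centralizer ({(K.a : G)} : Set G) := by
  refine Subgroup.mem_centralizer_singleton_iff.mpr ?_
  have ha : (K.a : G) = K.n₂ * (K.a : G)⁻¹ * K.n₂⁻¹ := by rw [← conj_inv, K.conj₂a, inv_inv]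
  have hc' : c * (K.a : G)⁻¹ = (K.a : G)⁻¹ * c :=
    (show Commute c (K.a : G) from Subgroup.mem_centralizer_singleton_iff.mp hc).inv_right.eq
  calc K.n₂ * c * K.n₂⁻¹ * (K.a : G) = K.n₂ * c * K.n₂⁻¹ * (K.n₂ * (K.a : G)⁻¹ * K.n₂⁻¹) := by rw [← ha]
    _ = K.n₂ * (c * (K.a : G)⁻¹) * K.n₂⁻¹ := by group
    _ = K.n₂ * ((K.a : G)⁻¹ * c) * K.n₂⁻¹ := by rw [hc']
    _ = K.n₂ * (K.a : G)⁻¹ * K.n₂⁻¹ * (K.n₂ * c * K.n₂⁻¹) := by group
    _ = (K.a : G) * (K.n₂ * c * K.n₂⁻¹) := by rw [← ha]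

theorem conj₂_symm_mem {c : G} (hc : c ∈ Subgroup.centralizer ({(K.a : G)} : Set G)) :
    K.n₂⁻¹ * c * K.n₂ ∈ Subgroup.centralizer ({(K.a : G)} : Set G) := by
  refine Subgroup.mem_centralizer_singleton_iff.mpr ?_
  have ha : (K.a : G) = K.n₂⁻¹ * (K.a : G)⁻¹ * K.n₂ := by
    conv_rhs => rw [← K.conj₂a]
    group
  have hc' : c * (K.a : G)⁻¹ = (K.a : G)⁻¹ * c :=
    (show Commute c (K.a : G) from Subgroup.mem_centralizer_singleton_iff.mp hc).inv_right.eq
  calc K.n₂⁻¹ * c * K.n₂ * (K.a : G) = K.n₂⁻¹ * c * K.n₂ * (K.n₂⁻¹ * (K.a : G)⁻¹ * K.n₂) := by rw [← ha]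
    _ = K.n₂⁻¹ * (c * (K.a : G)⁻¹) * K.n₂ := by group
    _ = K.n₂⁻¹ * ((K.a : G)⁻¹ * c) * K.n₂ := by rw [hc']
    _ = K.n₂⁻¹ * (K.a : G)⁻¹ * K.n₂ * (K.n₂⁻¹ * c * K.n₂) := by group
    _ = (K.a : G) * (K.n₂⁻¹ * c * K.n₂) := by rw [← ha]

variable {q m : ℕ}

theorem solvable_a (C : Ctx G q m 1) :
    Group.IsSolvable (Subgroup.centralizer ({(K.a : G)} : Set G)) := by
  refine FourOrbit.isSolvable_of_two_primes Nat.prime_two Nat.prime_three (by norm_num) fun r hr hrd => ?_
  have h := hrd.trans (Subgroup.centralizer ({(K.a : G)} : Set G)).card_subgroup_dvd_card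
  rw [C.hcard, pow_one] at h
  rcases hr.dvd_mul.mp h with h | h
  · rcases hr.dvd_mul.mp h with h | h
    · exact Or.inr ((Nat.prime_dvd_prime_iff_eq hr Nat.prime_three).mp
        (hr.dvd_of_dvd_pow (show r ∣ 3 ^ 2 from h)))
    · exact Or.inl ((Nat.prime_dvd_prime_iff_eq hr Nat.prime_two).mp (hr.dvd_of_dvd_pow h))
  · exfalso
    rw [(Nat.prime_dvd_prime_iff_eq hr C.hq).mp h] at hrd
    refine C.not_dvd_centralizer (fun e => K.ha (Subtype.ext e)) ?_ hrd
    rw [K.orderOf_coe_of_ne K.ha]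
    exact fun h' => C.hq3 ((Nat.prime_dvd_prime_iff_eq C.hq Nat.prime_three).mp h')

theorem exists_sign (C : Ctx G q m 1) : Nonempty K.Sign := by
  classical
  haveI : Fact (Nat.Prime 3) := ⟨Nat.prime_three⟩
  haveI := K.comm
  set H := Subgroup.centralizer ({(K.a : G)} : Set G) with hH
  haveI : Group.IsSolvable H := K.solvable_a C
  have hle := K.le_centralizer K.a.2
  set Q : Sylow 3 H := K.P.subtype hle
  have hQab : IsMulCommutative (Q : Subgroup H) := ⟨⟨fun u v => Subtype.ext (Subtype.ext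
    (K.commute_coe ⟨((u : H) : G), u.2⟩ ⟨((v : H) : G), v.2⟩))⟩⟩
  haveI hN : ((Q : Subgroup H) ⊔ pPrimeCore 3 H).Normal := Cfsg.Agent.S0018.result 3 Q hQab
  haveI := Transfer.pPrimeCore_normal 3 H
  set f := QuotientGroup.mk' (pPrimeCore 3 H) with hf
  set b' : H := ⟨(K.b : G), hle K.b.2⟩
  have hb'3 : b' ^ 3 = 1 := Subtype.ext (by simpa [b'] using congrArg Subtype.val K.cube_b)
  have hb'o : orderOf b' = 3 := by
    rw [← Subgroup.orderOf_coe]; exact K.orderOf_coe_of_ne K.hb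
  set β := f b' with hβ
  have hβ3 : β ^ 3 = 1 := by rw [hβ, ← map_pow, hb'3, map_one]
  have hβ1 : β ≠ 1 := by
    intro h
    have hm : b' ∈ pPrimeCore 3 H := (QuotientGroup.eq_one_iff b').mp h
    have hd := Subgroup.orderOf_dvd_natCard _ hm
    rw [hb'o] at hd
    exact Blocks.not_dvd_card_pPrimeCore (H := H) Nat.prime_three hd
  have hββ : β⁻¹ ≠ β := fun h => hβ1 (by
    have h2 : β * β = 1 := by nth_rw 1 [← h]; exact inv_mul_cancel β
    have h3' : β ^ 3 = β := by rw [pow_succ, pow_two, h2, one_mul]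
    exact h3'.symm.trans hβ3)
  -- every element normalizes the image of `⟨b⟩`
  set D := (Subgroup.normalizer ((Subgroup.zpowers β : Subgroup _) : Set (H ⧸ pPrimeCore 3 H))).comap f
  have hmemD : ∀ c : H, (f c * β * (f c)⁻¹ = β ∨ f c * β * (f c)⁻¹ = β⁻¹) → c ∈ D := fun c hc => by
    refine Subgroup.mem_comap.mpr ((Transfer.map_conj_eq_self_iff).mp ?_)
    rw [MonoidHom.map_zpowers]
    show Subgroup.zpowers (f c * β * (f c)⁻¹) = _
    rcases hc with e | e <;> rw [e]
    exact Subgroup.zpowers_inv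
  have htop : D = ⊤ := by
    refine top_le_iff.mp ?_
    rw [← Sylow.normalizer_sup_eq_top' Q (le_sup_left : (Q : Subgroup H) ≤ (Q : Subgroup H) ⊔ pPrimeCore 3 H)]
    refine sup_le ?_ (sup_le ?_ ?_)
    · intro c hc
      have hcN : (c : G) ∈ Subgroup.normalizer ((K.P : Subgroup G) : Set G) := by
        rw [Subgroup.mem_normalizer_iff]
        intro t
        constructor
        · intro ht
          exact (Subgroup.mem_normalizer_iff.mp hc ⟨t, hle ht⟩).mp ht
        · intro ht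
          have htC : t ∈ H := by
            have h2 := mul_mem (mul_mem (inv_mem c.2) (hle ht)) c.2
            simpa [mul_assoc] using h2
          exact (Subgroup.mem_normalizer_iff.mp hc ⟨t, htC⟩).mpr ht
      refine hmemD c ?_
      rcases (K.diag _ ⟨⟨c, hcN⟩, rfl⟩).2 with e | e
      · left
        have e' := congrArg Subtype.val e
        rw [Blocks.AbelianFrob.normalizerMonoidHom_coe] at e'
        rw [hβ, ← map_inv, ← map_mul, ← map_mul]
        exact congrArg f (Subtype.ext e')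
      · right
        have e' := congrArg Subtype.val e
        rw [Blocks.AbelianFrob.normalizerMonoidHom_coe] at e'
        rw [hβ, ← map_inv, ← map_mul, ← map_mul, ← map_inv]
        exact congrArg f (Subtype.ext e')
    · intro c hc
      refine hmemD c (Or.inl ?_)
      have hcb : c * b' = b' * c := Subtype.ext (K.commute_coe ⟨(c : G), hc⟩ K.b)
      rw [hβ, ← map_mul, hcb, map_mul, mul_inv_cancel_right]
    · intro c hc
      refine hmemD c (Or.inl ?_)
      rw [show f c = 1 from (QuotientGroup.eq_one_iff c).mpr hc]; simp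
  have hpm : ∀ c : H, f c * β * (f c)⁻¹ = β ∨ f c * β * (f c)⁻¹ = β⁻¹ := fun c => by
    have hc : f c ∈ Subgroup.normalizer ((Subgroup.zpowers β : Subgroup _) : Set (H ⧸ pPrimeCore 3 H)) :=
      Subgroup.mem_comap.mp (show c ∈ D from htop ▸ Subgroup.mem_top c)
    have h := (Subgroup.mem_normalizer_iff.mp hc β).mp (Subgroup.mem_zpowers β)
    rcases mem_zpowers_three hβ3 h with e | e | e
    · exact absurd (by simpa using e) hβ1
    · exact Or.inl e
    · exact Or.inr e
  let φ : H →* ℂˣ := MonoidHom.mk' (fun c => if f c * β * (f c)⁻¹ = β then 1 else -1) fun c d => by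
    have e : f (c * d) * β * (f (c * d))⁻¹ = f c * (f d * β * (f d)⁻¹) * (f c)⁻¹ := by
      rw [map_mul]; group
    rw [e]
    rcases hpm d with hd | hd <;> rcases hpm c with hc | hc
    · rw [hd, if_pos hc, if_pos rfl, mul_one]
    · rw [hd, hc, if_neg hββ, if_pos rfl, mul_one]
    · rw [hd, ← conj_inv, hc, if_neg hββ, if_pos rfl, one_mul]
    · rw [hd, ← conj_inv, hc, inv_inv, if_pos rfl, if_neg hββ, neg_one_mul, neg_neg]
  refine ⟨⟨φ, fun c => ?_, fun h => ?_, fun c hc => ?_, fun c h => ?_⟩⟩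
  · simp only [φ, MonoidHom.mk'_apply]
    split_ifs <;> simp
  · simp only [φ, MonoidHom.mk'_apply]
    rw [if_neg, Units.val_neg, Units.val_one]
    intro e
    refine hββ ?_
    have h2 : f ⟨K.n₁, h⟩ * β * (f ⟨K.n₁, h⟩)⁻¹ = β⁻¹ := by
      rw [hβ, ← map_inv, ← map_mul, ← map_mul, ← map_inv]
      exact congrArg f (Subtype.ext K.conj₁b)
    exact h2.symm.trans e
  · simp only [φ, MonoidHom.mk'_apply]
    refine if_pos ?_
    have hcb : c * b' = b' * c := Subtype.ext (Subgroup.mem_centralizer_iff.mp hc _ K.b.2).symm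
    rw [hβ, ← map_mul, hcb, map_mul, mul_inv_cancel_right]
  · let T : H ≃* H :=
      { toFun := fun u => ⟨K.n₂ * (u : G) * K.n₂⁻¹, K.conj₂_mem u.2⟩
        invFun := fun u => ⟨K.n₂⁻¹ * (u : G) * K.n₂, K.conj₂_symm_mem u.2⟩
        left_inv := fun u => Subtype.ext (by simp [mul_assoc])
        right_inv := fun u => Subtype.ext (by simp [mul_assoc])
        map_mul' := fun u v => Subtype.ext (by simp [mul_assoc]) }
    have hT : (pPrimeCore 3 H).map T.toMonoidHom ≤ pPrimeCore 3 H := by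
      refine Transfer.le_pPrimeCore ((Transfer.pPrimeCore_normal 3 H).map _ T.surjective) ?_
      rw [Subgroup.card_map_of_injective T.injective]
      exact Transfer.pPrimeCore_coprime 3
    have hcongr : ∀ u v : H, f u = f v → f (T u) = f (T v) := fun u v e => by
      have hm : u⁻¹ * v ∈ pPrimeCore 3 H := QuotientGroup.eq.mp e
      refine QuotientGroup.eq.mpr ?_
      rw [← map_inv, ← map_mul]
      exact hT ⟨_, hm, rfl⟩
    have hTb : T b' = b' := Subtype.ext K.conj₂b
    have hTc : T c = ⟨_, h⟩ := rfl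
    simp only [φ, MonoidHom.mk'_apply]
    rw [← hTc, hβ]
    rcases hpm c with e | e
    · rw [if_pos e, if_pos]
      rw [hβ, ← map_inv, ← map_mul, ← map_mul] at e
      have h' := hcongr _ _ e
      simp only [map_mul, map_inv, hTb] at h'
      exact h'
    · rw [if_neg (fun h1 => hββ (e.symm.trans h1)), if_neg]
      rw [hβ, ← map_inv, ← map_mul, ← map_mul, ← map_inv] at e
      have h' := hcongr _ _ e
      simp only [map_mul, map_inv, hTb] at h'
      exact fun h1 => hββ (h'.symm.trans h1)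

variable {K}

namespace Sign

variable (S : K.Sign)

theorem mem_of {g c : G} (hc : c * threePart g * c⁻¹ = (K.a : G)) :
    c * g * c⁻¹ ∈ Subgroup.centralizer ({(K.a : G)} : Set G) := by
  refine Subgroup.mem_centralizer_singleton_iff.mpr ?_
  rw [← hc]
  obtain ⟨i, hi⟩ := Subgroup.mem_zpowers_iff.mp (threePart_mem_zpowers g)
  rw [← hi]
  exact ((Commute.self_zpow g i).map (MulAut.conj c).toMonoidHom).eq

open scoped _root_.Classical in
/-- The sign on the section of `a`. -/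
noncomputable def sgn (g : G) : ℂ :=
  if h : ∃ c : G, c * threePart g * c⁻¹ = (K.a : G) then (S.s ⟨_, mem_of h.choose_spec⟩ : ℂ) else 0

theorem sgn_eq {g c : G} (hc : c * threePart g * c⁻¹ = (K.a : G)) :
    S.sgn g = (S.s ⟨_, mem_of hc⟩ : ℂ) := by
  classical
  have h : ∃ c : G, c * threePart g * c⁻¹ = (K.a : G) := ⟨c, hc⟩
  rw [sgn, dif_pos h]
  set c' := h.choose
  have hc' : c' * threePart g * c'⁻¹ = (K.a : G) := h.choose_spec
  have hd : c' * c⁻¹ ∈ Subgroup.centralizer ({(K.a : G)} : Set G) := by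
    refine Subgroup.mem_centralizer_singleton_iff.mpr ?_
    calc c' * c⁻¹ * (K.a : G) = c' * threePart g * c⁻¹ := by rw [← hc]; group
      _ = c' * threePart g * c'⁻¹ * (c' * c⁻¹) := by group
      _ = (K.a : G) * (c' * c⁻¹) := by rw [hc']
  have e : (⟨c' * g * c'⁻¹, mem_of hc'⟩ : Subgroup.centralizer ({(K.a : G)} : Set G)) =
      ⟨_, hd⟩ * ⟨c * g * c⁻¹, mem_of hc⟩ * ⟨_, hd⟩⁻¹ := by
    refine Subtype.ext ?_
    show c' * g * c'⁻¹ = c' * c⁻¹ * (c * g * c⁻¹) * (c' * c⁻¹)⁻¹
    group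
  show (S.s ⟨c' * g * c'⁻¹, mem_of hc'⟩ : ℂ) = _
  rw [e, map_mul, map_mul, map_inv, mul_comm (S.s ⟨_, hd⟩), mul_inv_cancel_right]

theorem sgn_of_not {g : G} (h : ¬ IsConj (threePart g) (K.a : G)) : S.sgn g = 0 := by
  classical
  rw [sgn, dif_neg]
  exact fun ⟨c, hc⟩ => h (isConj_iff.mpr ⟨c, hc⟩)

theorem sgn_conj (g u : G) : S.sgn (u * g * u⁻¹) = S.sgn g := by
  by_cases h : IsConj (threePart g) (K.a : G)
  · obtain ⟨c, hc⟩ := isConj_iff.mp h
    have hc' : c * u⁻¹ * threePart (u * g * u⁻¹) * (c * u⁻¹)⁻¹ = (K.a : G) := by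
      rw [threePart_conj, ← hc]; group
    rw [S.sgn_eq hc', S.sgn_eq hc]
    exact congrArg (fun z => (S.s z : ℂ)) (Subtype.ext (by group))
  · rw [S.sgn_of_not h, S.sgn_of_not]
    rw [threePart_conj]
    exact fun e => h ((isConj_iff.mpr ⟨u, rfl⟩).trans e)

theorem sgn_mul_secInd (g : G) : S.sgn g * secInd (K.a : G) g = S.sgn g := by
  classical
  by_cases h : IsConj (threePart g) (K.a : G)
  · rw [secInd, if_pos h, mul_one]
  · rw [S.sgn_of_not h, zero_mul]

theorem sgn_sq (g : G) : S.sgn g * S.sgn g = secInd (K.a : G) g := by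
  classical
  by_cases h : IsConj (threePart g) (K.a : G)
  · obtain ⟨c, hc⟩ := isConj_iff.mp h
    rw [secInd, if_pos h, S.sgn_eq hc]
    rcases S.sign ⟨_, mem_of hc⟩ with e | e <;> rw [e] <;> norm_num
  · rw [secInd, if_neg h, S.sgn_of_not h, zero_mul]

theorem sgn_real (g : G) : conj (S.sgn g) = S.sgn g := by
  classical
  by_cases h : IsConj (threePart g) (K.a : G)
  · obtain ⟨c, hc⟩ := isConj_iff.mp h
    rw [S.sgn_eq hc]
    rcases S.sign ⟨_, mem_of hc⟩ with e | e <;> rw [e] <;> simp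
  · rw [S.sgn_of_not h, map_zero]

/-- The twisted function. -/
noncomputable def R1 (g : G) : ℂ := 3 * (S.sgn g + secInd (K.x : G) g)

theorem isClassFunction_R1 : IsClassFunction G S.R1 := fun g h => by
  simp only [R1, S.sgn_conj, secInd_conj]

theorem isGeneralized_R1 : IsGeneralizedCharacter G S.R1 := by
  classical
  haveI := K.comm
  refine BrauerInd.isGeneralized_of_elementary S.isClassFunction_R1 fun E p hp hE => ?_
  haveI := Char.isNilpotent_of_isElementary hp hE
  obtain ⟨c, ρ, hρ, hcomm⟩ := K.exists_rho E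
  have hgen : IsGeneralizedCharacter E (fun e : E => K.R0 e) :=
    Char.isGeneralized_restrict E K.isGeneralized_R0
  have ht : ∀ e : E, IsConj (threePart (e : G)) (ρ e : G) := fun e =>
    isConj_iff.mpr ⟨c, by rw [hρ, threePart_conj]⟩
  by_cases hA : ∀ e : E, ¬ IsConj (ρ e : G) (K.a : G)
  · convert hgen using 1
    funext e
    rw [R1, R0, S.sgn_of_not fun h => hA e ((ht e).symm.trans h), secInd_of_type (ht e) (K.a : G),
      if_neg (hA e)]
  push Not at hA
  obtain ⟨e₀, he₀⟩ := hA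
  have h₀ := (K.mem_zpowers_a_iff_of_isConj he₀).mpr (Subgroup.mem_zpowers _)
  have h₀' : ρ e₀ = K.a ∨ ρ e₀ = K.a⁻¹ := (K.mem_zpowers_a.mp h₀).resolve_left fun h =>
    K.not_isConj_one K.ha (by rw [h] at he₀; exact he₀)
  have hca : ∀ e : E, c * (e : G) * c⁻¹ ∈ Subgroup.centralizer ({(K.a : G)} : Set G) := fun e => by
    refine Subgroup.mem_centralizer_singleton_iff.mpr ?_
    have h := hcomm e e₀
    rcases h₀' with h' | h' <;> rw [h'] at h
    · exact h.eq
    · simpa using h.inv_right.eq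
  set ε : E →* ℂˣ := S.s.comp (MonoidHom.mk' (fun e : E =>
      (⟨c * (e : G) * c⁻¹, hca e⟩ : Subgroup.centralizer ({(K.a : G)} : Set G))) fun u v =>
        Subtype.ext (by
          show c * ((u * v : E) : G) * c⁻¹ = c * (u : G) * c⁻¹ * (c * (v : G) * c⁻¹)
          rw [Subgroup.coe_mul]; group))
  have e : (fun e : E => S.R1 e) = (fun e : E => K.R0 e) * fun e => ((ε e : ℂˣ) : ℂ) := by
    funext e
    have hval : ((ε e : ℂˣ) : ℂ) = (S.s ⟨c * (e : G) * c⁻¹, hca e⟩ : ℂ) := rfl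
    rw [Pi.mul_apply, hval, R1, R0, secInd_of_type (ht e) (K.a : G), secInd_of_type (ht e) (K.x : G)]
    rcases K.classify (ρ e) with h | ⟨h, hmem⟩ | ⟨h, -⟩ | ⟨h, hna, -⟩
    · rw [S.sgn_of_not fun h' => K.not_isConj_one K.ha (by
        have := (ht e).symm.trans h'; rw [h] at this; exact this), if_neg, if_neg]
      · ring
      all_goals rw [h]; exact K.not_isConj_one (by first | exact K.x_ne_one | exact K.ha)
    · rw [if_pos h, if_neg fun h' => K.not_isConj_a_x (h.symm.trans h')]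
      have hc₀ : c * threePart (e : G) * c⁻¹ = (ρ e : G) := by rw [hρ, threePart_conj]
      rcases (K.mem_zpowers_a.mp hmem).resolve_left fun h1 =>
        K.not_isConj_one K.ha (by rw [h1] at h; exact h) with h1 | h1
      · rw [S.sgn_eq (hc₀.trans (congrArg Subtype.val h1))]
        ring
      · have hc₁ : K.n₂ * c * threePart (e : G) * (K.n₂ * c)⁻¹ = (K.a : G) := by
          calc _ = K.n₂ * (c * threePart (e : G) * c⁻¹) * K.n₂⁻¹ := by group
            _ = K.n₂ * (K.a : G)⁻¹ * K.n₂⁻¹ := by rw [hc₀, h1]; rfl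
            _ = (K.a : G) := by rw [← conj_inv, K.conj₂a, inv_inv]
        rw [S.sgn_eq hc₁, ← S.invariant ⟨c * (e : G) * c⁻¹, hca e⟩ (K.conj₂_mem (hca e))]
        rw [add_zero, add_zero, mul_one]
        exact congrArg (fun z => 3 * (S.s z : ℂ)) (Subtype.ext (by group))
    · have hx' : ¬ IsConj (ρ e : G) (K.x : G) := fun h' => K.not_isConj_b_x (h.symm.trans h')
      have ha' : ¬ IsConj (ρ e : G) (K.a : G) := fun h' => K.not_isConj_a_b (h'.symm.trans h)
      rw [S.sgn_of_not fun h' => ha' ((ht e).symm.trans h'), if_neg hx', if_neg ha']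
      ring
    · rw [S.sgn_of_not fun h' => K.not_isConj_a_x (((ht e).symm.trans h').symm.trans h), if_pos h,
        if_neg fun h' => K.not_isConj_a_x (h'.symm.trans h)]
      have hP : c * (e : G) * c⁻¹ ∈ Subgroup.centralizer ((K.P : Subgroup G) : Set G) := by
        set L := (Subgroup.centralizer ({c * (e : G) * c⁻¹} : Set G)).comap (K.P : Subgroup G).subtype
        have hL : L = ⊤ := by
          by_contra hne
          have haL : K.a ∈ L := Subgroup.mem_centralizer_singleton_iff.mpr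
            (Subgroup.mem_centralizer_singleton_iff.mp (hca e)).symm
          have h3 := card_of_proper K.card hne haL K.ha
          have heq : Subgroup.zpowers K.a = L := Subgroup.eq_of_le_of_card_ge (Subgroup.zpowers_le.mpr haL)
            (by rw [h3, K.card_zpowers_a])
          exact hna (heq ▸ Subgroup.mem_centralizer_singleton_iff.mpr (hcomm e e).symm.eq)
        rw [Subgroup.mem_centralizer_iff]
        intro t ht
        exact Subgroup.mem_centralizer_singleton_iff.mp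
          (show (⟨t, ht⟩ : (K.P : Subgroup G)) ∈ L from hL ▸ Subgroup.mem_top _)
      rw [S.trivial ⟨c * (e : G) * c⁻¹, hca e⟩ hP, Units.val_one]
      ring
  rw [e]
  exact Char.isGeneralized_mul hgen (Char.isGeneralized_of_isCharacter (Char.isCharacter_monoidHom ε))

theorem R1_one : S.R1 1 = 0 := by
  classical
  rw [R1, S.sgn_of_not, secInd, threePart_one, if_neg (K.not_isConj_one K.x_ne_one)]
  · norm_num
  · rw [threePart_one]; exact K.not_isConj_one K.ha

theorem mean_R1 : mean S.R1 = 0 := by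
  classical
  obtain ⟨k, hk⟩ := Char.exists_int_classInner S.isGeneralized_R1
    (Char.isGeneralized_of_isIrr (Blocks.trivIrr G).2)
  change mean S.R1 = _ at hk
  have haC : (K.a : G) ∈ Subgroup.centralizer ({(K.a : G)} : Set G) :=
    Subgroup.mem_centralizer_singleton_iff.mpr rfl
  have haP : (K.a : G) ∈ Subgroup.centralizer ((K.P : Subgroup G) : Set G) := by
    rw [Subgroup.mem_centralizer_iff]
    exact fun t ht => K.commute_coe ⟨t, ht⟩ K.a
  have hsum : ∑ g : G, S.sgn g = ((Subgroup.centralizer ({(K.a : G)} : Set G)).index : ℂ) *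
      ∑ r ∈ (regCent (K.a : G)).attach, (S.s ⟨r.1, (mem_regCent.mp r.2).1⟩ : ℂ) := by
    rw [Finset.sum_congr rfl fun g _ => ((mul_comm _ _).trans (S.sgn_mul_secInd g)).symm,
      sum_secInd_mul (K.pow_of K.a) (fun g u => S.sgn_conj g u), ← Finset.sum_attach]
    refine congrArg _ (Finset.sum_congr rfl fun r _ => ?_)
    obtain ⟨hrC, hr3⟩ := mem_regCent.mp r.2
    have htp : threePart ((K.a : G) * r.1) = (K.a : G) :=
      threePart_eq (Blocks.isPPart_mul (p := 3) (Subgroup.mem_centralizer_singleton_iff.mp hrC).symm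
        (K.pow_of K.a) hr3)
    rw [S.sgn_eq (c := 1) (by rw [htp]; group)]
    have e : (⟨1 * ((K.a : G) * r.1) * 1⁻¹, mem_of (by rw [htp]; group)⟩ :
        Subgroup.centralizer ({(K.a : G)} : Set G)) = ⟨_, haC⟩ * ⟨r.1, hrC⟩ := Subtype.ext (by simp)
    rw [e, map_mul, S.trivial ⟨_, haC⟩ haP, one_mul]
  set t := fun r : {r // r ∈ regCent (K.a : G)} => (S.s ⟨r.1, (mem_regCent.mp r.2).1⟩ : ℂ)
  have hint : ∀ r, t r = ((if t r = 1 then (1 : ℤ) else -1 : ℤ) : ℂ) := fun r => by
    rcases S.sign ⟨r.1, (mem_regCent.mp r.2).1⟩ with e | e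
    · rw [if_pos e, Int.cast_one]; exact e
    · rw [if_neg (by rw [show t r = -1 from e]; norm_num), Int.cast_neg, Int.cast_one]; exact e
  set Z : ℤ := ∑ r ∈ (regCent (K.a : G)).attach, if t r = 1 then (1 : ℤ) else -1
  have hZ : ∑ r ∈ (regCent (K.a : G)).attach, t r = (Z : ℂ) := by
    simp only [Z, Int.cast_sum]
    exact Finset.sum_congr rfl fun r _ => hint r
  set C := Subgroup.centralizer ({(K.a : G)} : Set G) with hC
  rw [show S.R1 = (3 : ℂ) • (S.sgn + secInd (K.x : G)) from rfl, mean_smul, mean_add, K.mean_secInd_x,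
    mean_eq, hsum, hZ] at hk
  have hG : (Nat.card G : ℂ) = (Nat.card C : ℂ) * C.index := by
    exact_mod_cast C.card_mul_index.symm
  have hi : (C.index : ℂ) ≠ 0 := Nat.cast_ne_zero.mpr Subgroup.index_ne_zero_of_finite
  have hc : (Nat.card C : ℂ) ≠ 0 := Nat.cast_ne_zero.mpr Nat.card_pos.ne'
  have key : 9 * Z = (3 * k - 1) * (Nat.card C : ℤ) := by
    apply Int.cast_injective (α := ℂ)
    push_cast
    rw [hG] at hk
    field_simp at hk
    linear_combination hk / 3
  have hcard : ((regCent (K.a : G)).card : ℤ) * 9 = 2 * (Nat.card C : ℤ) := by exact_mod_cast K.card_regCent_a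
  have hle : -((regCent (K.a : G)).card : ℤ) ≤ Z ∧ Z ≤ ((regCent (K.a : G)).card : ℤ) := by
    have h1 := Finset.card_nsmul_le_sum (regCent (K.a : G)).attach
      (fun r => if t r = 1 then (1 : ℤ) else -1) (-1) (fun r _ => by split_ifs <;> norm_num)
    have h2 := Finset.sum_le_card_nsmul (regCent (K.a : G)).attach
      (fun r => if t r = 1 then (1 : ℤ) else -1) 1 (fun r _ => by split_ifs <;> norm_num)
    simp only [Finset.card_attach, nsmul_eq_mul, mul_neg, mul_one] at h1 h2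
    exact ⟨h1, h2⟩
  have hcpos : (0 : ℤ) < Nat.card C := by exact_mod_cast Nat.card_pos
  have hk01 : k = 0 ∨ k = 1 := by
    have h1 : -2 * (Nat.card C : ℤ) ≤ (3 * k - 1) * Nat.card C := by omega
    have h2 : (3 * k - 1) * (Nat.card C : ℤ) ≤ 2 * Nat.card C := by omega
    have := le_of_mul_le_mul_right h1 hcpos
    have := le_of_mul_le_mul_right h2 hcpos
    omega
  rcases hk01 with rfl | rfl
  · rw [show S.R1 = (3 : ℂ) • (S.sgn + secInd (K.x : G)) from rfl, mean_smul, mean_add, K.mean_secInd_x,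
      mean_eq, hsum, hZ, hk]
    simp
  exfalso
  -- all regular elements have sign one
  have hZmax : Z = ((regCent (K.a : G)).card : ℤ) := by omega
  have hall : ∀ r : {r // r ∈ regCent (K.a : G)}, t r = 1 := by
    intro r
    by_contra hne
    have hlt : Z < ∑ _r ∈ (regCent (K.a : G)).attach, (1 : ℤ) :=
      Finset.sum_lt_sum (fun r _ => by split_ifs <;> norm_num)
        ⟨r, Finset.mem_attach _ _, by rw [if_neg hne]; norm_num⟩
    rw [Finset.sum_const, Finset.card_attach, nsmul_one] at hlt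
    omega
  have hn : K.n₁ ∈ C := Subgroup.mem_centralizer_singleton_iff.mpr (mul_inv_eq_iff_eq_mul.mp K.conj₁a)
  obtain ⟨r, hr, hcom, ⟨i, hi'⟩, hr3⟩ := isPPart_threePart K.n₁
  have htC : threePart K.n₁ ∈ C := Subgroup.zpowers_le.mpr hn (threePart_mem_zpowers _)
  have hrC : r ∈ C := by
    have e : r = (threePart K.n₁)⁻¹ * K.n₁ := eq_inv_mul_iff_mul_eq.mpr hr
    rw [e]; exact mul_mem (inv_mem htC) hn
  have h1 := S.neg hn
  have e : (⟨K.n₁, hn⟩ : C) = ⟨_, htC⟩ * ⟨r, hrC⟩ := Subtype.ext hr.symm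
  rw [e, map_mul, Units.val_mul, show (S.s ⟨r, hrC⟩ : ℂ) = 1 from
    hall ⟨r, mem_regCent.mpr ⟨hrC, hr3⟩⟩, mul_one] at h1
  have hpow : (⟨_, htC⟩ : C) ^ 3 ^ i = 1 := Subtype.ext (by
    rw [SubmonoidClass.coe_pow, OneMemClass.coe_one, ← hi', pow_orderOf_eq_one])
  have h2 := congrArg (fun z => (S.s z : ℂ)) hpow
  simp only [map_pow, map_one, Units.val_pow_eq_pow_val, Units.val_one, h1] at h2
  rw [(show Odd (3 ^ i) from (by decide : Odd 3).pow).neg_one_pow] at h2
  norm_num at h2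

theorem R1_real (g : G) : conj (S.R1 g) = S.R1 g := by
  simp only [R1, map_mul, map_add, S.sgn_real, secInd_conj_real, map_ofNat]

theorem sgn_mul_eq_zero {y : G} (hy : ¬ IsConj (K.a : G) y) (g : G) : S.sgn g * secInd y g = 0 := by
  rw [← S.sgn_mul_secInd, mul_assoc, secInd_mul_eq_zero hy, mul_zero]

theorem R1_mul_self : S.R1 * S.R1 = (3 : ℂ) • K.R0 := by
  funext g
  simp only [Pi.mul_apply, Pi.smul_apply, smul_eq_mul, R1, R0]
  linear_combination (9 : ℂ) * S.sgn_sq g + (9 : ℂ) * secInd_sq (K.x : G) g +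
    (18 : ℂ) * S.sgn_mul_eq_zero K.not_isConj_a_x g

theorem R0_mul_R1 : K.R0 * S.R1 = (3 : ℂ) • S.R1 := by
  funext g
  simp only [Pi.mul_apply, Pi.smul_apply, smul_eq_mul, R1, R0]
  linear_combination (9 : ℂ) * S.sgn_mul_secInd g + (9 : ℂ) * secInd_sq (K.x : G) g +
    (9 : ℂ) * S.sgn_mul_eq_zero K.not_isConj_a_x g + (9 : ℂ) * secInd_mul_eq_zero K.not_isConj_a_x g

theorem R1_mul_C0 : S.R1 * K.swap.R0 = K.T := by
  funext g
  rw [Pi.mul_apply, R0_swap]
  simp only [R1, T]
  linear_combination (9 : ℂ) * S.sgn_mul_eq_zero K.not_isConj_a_x g +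
    (9 : ℂ) * S.sgn_mul_eq_zero K.not_isConj_a_b g + (9 : ℂ) * secInd_mul_eq_zero K.not_isConj_b_x g +
    (9 : ℂ) * secInd_sq (K.x : G) g

theorem T_mul_R1 : K.T * S.R1 = (3 : ℂ) • K.T := by
  funext g
  simp only [Pi.mul_apply, Pi.smul_apply, smul_eq_mul, R1, T]
  linear_combination (27 : ℂ) * S.sgn_mul_eq_zero K.not_isConj_a_x g +
    (27 : ℂ) * secInd_sq (K.x : G) g

theorem R1_mul_C1 (S' : K.swap.Sign) : S.R1 * S'.R1 = K.T := by
  funext g
  rw [Pi.mul_apply]
  simp only [R1, T, K.swap_x]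
  have hb : secInd (K.swap.a : G) g = secInd (K.b : G) g := rfl
  have h1 : S.sgn g * S'.sgn g = 0 := by
    rw [← S'.sgn_mul_secInd, hb]
    linear_combination S'.sgn g * S.sgn_mul_eq_zero K.not_isConj_a_b g
  have h2 : secInd (K.x : G) g * S'.sgn g = 0 := by
    rw [← S'.sgn_mul_secInd, hb]
    linear_combination S'.sgn g * secInd_mul_eq_zero K.not_isConj_b_x g
  linear_combination (9 : ℂ) * h1 + (9 : ℂ) * h2 + (9 : ℂ) * S.sgn_mul_eq_zero K.not_isConj_a_x g +
    (9 : ℂ) * secInd_sq (K.x : G) g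

end Sign

end Klein

end CfsgLib.NineTwoPrimes
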