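import Cfsg.Agent.Lib.NineTwoPrimes.Basic
import Cfsg.Agent.Lib.M12Order.Basic

/-!
The principal block of the Sylow `q`-subgroup of order `q`: the range of `q` and the exceptional
degree.
-/

set_option autoImplicit false
set_option linter.style.haveILetI false
set_option linter.unusedSectionVars false

namespace CfsgLib.NineTwoPrimes

open Cfsg CfsgLib
open scoped ComplexConjugate CfsgLib.Char

universe u

/-- A divisor of `9 * 2 ^ a` congruent to `1` or `-1`. -/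
theorem divisor_congr {k q a n : ℕ} {δ : ℤ} (hk : 5 ≤ k) (hq : q = 2 ^ k + 1 ∨ q + 1 = 2 ^ k)
    (hn : n ∣ 9 * 2 ^ a) (hδ : δ = 1 ∨ δ = -1) (hmod : (n : ℤ) ≡ δ [ZMOD q]) :
    ∃ j, n = 2 ^ j ∧ k ∣ j ∧ (q + 1 = 2 ^ k → δ = 1) := by
  obtain ⟨c, v, hc, hv, rfl⟩ := Nat.dvd_mul.mp hn
  obtain ⟨j, -, rfl⟩ := (Nat.dvd_prime_pow Nat.prime_two).mp hv
  have hc' : c = 1 ∨ c = 3 ∨ c = 9 := by
    have := Nat.le_of_dvd (by norm_num) hc
    interval_cases c <;> norm_num at *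
  obtain ⟨s, hs, hs1⟩ : ∃ s : ℤ, (2 : ℤ) ^ k ≡ s [ZMOD q] ∧
      ((s = -1 ∧ q = 2 ^ k + 1) ∨ (s = 1 ∧ q + 1 = 2 ^ k)) := by
    rcases hq with h | h
    · refine ⟨-1, Int.modEq_iff_dvd.mpr ⟨-1, ?_⟩, Or.inl ⟨rfl, h⟩⟩
      rw [h]; push_cast; ring
    · refine ⟨1, Int.modEq_iff_dvd.mpr ⟨-1, ?_⟩, Or.inr ⟨rfl, h⟩⟩
      have h' : (q : ℤ) + 1 = (2 : ℤ) ^ k := by exact_mod_cast congrArg (Nat.cast : ℕ → ℤ) h
      rw [← h']; ring
  have hpm : ∀ m : ℕ, s ^ m = 1 ∨ s ^ m = -1 := fun m => by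
    rcases hs1 with ⟨rfl, -⟩ | ⟨rfl, -⟩
    · exact (neg_one_pow_eq_or ℤ m)
    · exact Or.inl (one_pow m)
  have hred : ((c * 2 ^ (j % k) : ℕ) : ℤ) ≡ δ * s ^ (j / k) [ZMOD q] := by
    have e : ((c * 2 ^ j : ℕ) : ℤ) = ((c * 2 ^ (j % k) : ℕ) : ℤ) * ((2 : ℤ) ^ k) ^ (j / k) := by
      push_cast
      rw [← pow_mul, mul_assoc, ← pow_add, Nat.mod_add_div]
    rw [e] at hmod
    have h1 := (((hs.pow (j / k)).mul_left ((c * 2 ^ (j % k) : ℕ) : ℤ)).symm.trans hmod).mul_right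
      (s ^ (j / k))
    rcases hpm (j / k) with h | h <;> simpa [h] using h1
  have hjk : j % k < k := Nat.mod_lt _ (by omega)
  have h1 : c = 1 ∧ j % k = 0 := by
    by_contra hne
    refine not_adjacent hk hq hjk hc' (by tauto) ?_
    have hd := Int.modEq_iff_dvd.mp hred.symm
    have hpos : 1 ≤ c * 2 ^ (j % k) := Nat.one_le_iff_ne_zero.mpr
      (Nat.mul_ne_zero (by omega) (Nat.pow_pos two_pos).ne')
    have hsign : δ * s ^ (j / k) = 1 ∨ δ * s ^ (j / k) = -1 := by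
      rcases hδ with rfl | rfl <;> rcases hpm (j / k) with h | h <;> simp [h]
    rcases hsign with h | h <;> rw [h] at hd
    · right; exact_mod_cast (show (q : ℤ) ∣ ((c * 2 ^ (j % k) - 1 : ℕ) : ℤ) by
        rw [Nat.cast_sub hpos]; exact_mod_cast hd)
    · left; exact_mod_cast (show (q : ℤ) ∣ ((c * 2 ^ (j % k) + 1 : ℕ) : ℤ) by
        push_cast; simpa using hd)
  obtain ⟨rfl, hj⟩ := h1
  refine ⟨j, one_mul _, Nat.dvd_of_mod_eq_zero hj, fun hm => ?_⟩
  rcases hs1 with ⟨-, h'⟩ | ⟨rfl, -⟩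
  · omega
  rw [hj, pow_zero, one_pow, mul_one, mul_one, Nat.cast_one] at hred
  rcases hδ with h | rfl
  · exact h
  · exfalso
    have hd := Int.le_of_dvd (by norm_num) (Int.modEq_iff_dvd.mp hred.symm)
    have : 32 ≤ 2 ^ k := (Nat.pow_le_pow_right (by norm_num) hk : 2 ^ 5 ≤ 2 ^ k)
    omega

variable {G : Type u} [Group G] [Fintype G] {q a : ℕ}

theorem Ctx.sylow_card (C : Ctx G q a 1) (Q : Sylow q G) [Fact q.Prime] :
    Nat.card (Q : Subgroup G) = q := by
  rw [Q.card_eq_multiplicity, C.hcard, pow_one, Nat.factorization_mul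
    (Nat.mul_ne_zero (by norm_num) (pow_pos two_pos a).ne') C.hq.ne_zero,
    Finsupp.add_apply, Nat.factorization_eq_zero_of_not_dvd (fun h => ?_), C.hq.factorization_self,
    zero_add, pow_one]
  rcases C.hq.dvd_mul.mp h with h' | h'
  · exact C.hq3 ((Nat.prime_dvd_prime_iff_eq C.hq Nat.prime_three).mp
      (C.hq.dvd_of_dvd_pow (show q ∣ 3 ^ 2 from h')))
  · exact C.hq2 ((Nat.prime_dvd_prime_iff_eq C.hq Nat.prime_two).mp (C.hq.dvd_of_dvd_pow h'))

theorem Ctx.sylow_self_centralizing (C : Ctx G q a 1) (Q : Sylow q G) [Fact q.Prime] :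
    Subgroup.centralizer ((Q : Subgroup G) : Set G) = (Q : Subgroup G) := by
  haveI := C.simple
  exact BrauerTuan.centralizer_eq_of_paqbr (p := 2) (q := 3) (a := a) (b := 2) Nat.prime_two
    Nat.prime_three C.hq2.symm C.hq3.symm (by rw [C.hcard]; ring) Q

/-- The centralizer of a nontrivial `{2, 3}`-element is a `{2, 3}`-group. -/
theorem Ctx.not_dvd_centralizer (C : Ctx G q a 1) {y : G} (hy : y ≠ 1) (hyq : ¬ q ∣ orderOf y) :
    ¬ q ∣ Nat.card (Subgroup.centralizer ({y} : Set G)) := by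
  haveI := Fact.mk C.hq
  intro h
  obtain ⟨v, hv⟩ := exists_prime_orderOf_dvd_card' (G := Subgroup.centralizer ({y} : Set G)) q h
  have hvG : orderOf (v : G) = q := by rw [Subgroup.orderOf_coe, hv]
  obtain ⟨Q, hQ⟩ := (IsPGroup.of_card (n := 1) (by rw [Nat.card_zpowers, hvG, pow_one]) :
    IsPGroup q (Subgroup.zpowers (v : G))).exists_le_sylow
  have hQeq : Subgroup.zpowers (v : G) = (Q : Subgroup G) :=
    Subgroup.eq_of_le_of_card_ge hQ (by rw [C.sylow_card Q, Nat.card_zpowers, hvG])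
  have hyQ : y ∈ Subgroup.centralizer ((Q : Subgroup G) : Set G) := by
    rw [Subgroup.mem_centralizer_iff]
    intro g hg
    obtain ⟨n, rfl⟩ := Subgroup.mem_zpowers_iff.mp (hQeq ▸ hg : g ∈ Subgroup.zpowers (v : G))
    exact ((show Commute (v : G) y from (Subgroup.mem_centralizer_singleton_iff.mp v.2)).zpow_left n).eq
  rw [C.sylow_self_centralizing Q] at hyQ
  have hd := Subgroup.orderOf_dvd_natCard (Q : Subgroup G) hyQ
  rw [C.sylow_card Q] at hd
  rcases C.hq.eq_one_or_self_of_dvd _ hd with h' | h'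
  · exact hy (orderOf_eq_one_iff.mp h')
  · exact hyq (dvd_of_eq h'.symm)

/-- The range of `q`. -/
theorem Ctx.q_mem (C : Ctx G q a 1) {k : ℕ} (h : q = 2 ^ k + 1 ∨ q + 1 = 2 ^ k) :
    q = 5 ∨ q = 7 ∨ q = 17 := by
  classical
  haveI := C.simple
  haveI := Fact.mk C.hq
  have hq5 := C.five_le
  rcases Nat.lt_or_ge k 5 with hk | hk
  · interval_cases k <;> rcases h with h | h <;> norm_num at h
    all_goals first
      | omega
      | exact absurd (h ▸ C.hq) (by norm_num)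
      | exact absurd ((show q = 15 by omega) ▸ C.hq) (by norm_num)
      | exact absurd ((show q = 9 by omega) ▸ C.hq) (by norm_num)
  exfalso
  have h32 : 32 ≤ 2 ^ k := (Nat.pow_le_pow_right (by norm_num) hk : 2 ^ 5 ≤ 2 ^ k)
  obtain ⟨Q⟩ : Nonempty (Sylow q G) := inferInstance
  obtain ⟨D⟩ := BrauerTuan.nonempty_data C.not_cyclic Q (C.sylow_card Q)
  have he : D.e * (1 + D.n * q) = 9 * 2 ^ a := by
    have h1 := D.card_G
    rw [C.hcard, C.sylow_self_centralizing Q, C.sylow_card Q, pow_one] at h1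
    exact (Nat.eq_of_mul_eq_mul_right C.hq.pos h1).symm
  obtain ⟨j, hj, -, -⟩ := divisor_congr (n := 1 + D.n * q) (δ := 1) hk h (he ▸ dvd_mul_left _ _)
    (Or.inl rfl) (Int.modEq_iff_dvd.mpr ⟨-(D.n : ℤ), by push_cast; ring⟩)
  have h9e : 9 ∣ D.e := by
    refine Nat.Coprime.dvd_of_dvd_mul_right (m := D.e) (n := 1 + D.n * q) ?_ (he ▸ dvd_mul_right _ _)
    rw [hj]
    exact Nat.Coprime.pow_right j (by norm_num)
  have het := D.het
  rcases h with h | h
  · -- `e` divides a power of two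
    have : D.e ∣ 2 ^ k := ⟨D.t, by omega⟩
    exact absurd (Nat.prime_three.dvd_of_dvd_pow ((dvd_trans (by norm_num) h9e).trans this)) (by norm_num)
  have he9 : 9 ≤ D.e := Nat.le_of_dvd (by have := D.two_le_e; omega) h9e
  have hX : ∀ χ ∈ D.X, D.δ χ = 1 ∧ ∃ i, charDegree (χ : G → ℂ) = 2 ^ i ∧ k ∣ i := fun χ hχ => by
    obtain ⟨i, hi, hki, hs⟩ := divisor_congr hk (Or.inr h) (he ▸ D.dvdX χ hχ) (D.hδ χ hχ) (D.degX χ hχ)
    exact ⟨hs h, i, hi, hki⟩
  rcases Finset.mem_union.mp D.triv with hT | hT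
  · obtain ⟨ψ, hψ⟩ : D.Y.Nonempty := Finset.card_pos.mp (by rw [D.card_Y]; exact D.one_le_t)
    have hrel := D.rel ψ hψ 1 (by rw [orderOf_one]; exact C.hq.not_dvd_one)
    simp only [BrauerReynolds.value_one] at hrel
    have hrel' : D.ε * (charDegree (ψ : G → ℂ) : ℤ) =
        ∑ χ ∈ D.X, D.δ χ * (charDegree (χ : G → ℂ) : ℤ) := by
      apply Int.cast_injective (α := ℂ)
      push_cast
      exact hrel
    rw [Finset.sum_congr rfl fun χ hχ => by rw [(hX χ hχ).1, one_mul],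
      ← Finset.add_sum_erase _ _ hT] at hrel'
    have h1 : charDegree ((Blocks.trivIrr G : IrrCharacter G) : G → ℂ) = 1 := by
      have := BrauerReynolds.value_one (Blocks.trivIrr G)
      rw [show ((Blocks.trivIrr G : IrrCharacter G) : G → ℂ) 1 = 1 from rfl] at this
      exact_mod_cast this.symm
    rw [h1] at hrel'
    have hev : ∀ χ ∈ D.X.erase (Blocks.trivIrr G),
        (2 : ℤ) ∣ charDegree (χ : G → ℂ) ∧ (2 : ℤ) ^ k ≤ charDegree (χ : G → ℂ) := by
      intro χ hχ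
      obtain ⟨hne, hχX⟩ := Finset.mem_erase.mp hχ
      obtain ⟨-, i, hi, hki⟩ := hX χ hχX
      have h2 := C.two_le_degree hne
      rw [hi] at h2
      have hi0 : i ≠ 0 := fun e => by rw [e] at h2; norm_num at h2
      rw [hi]; push_cast
      exact ⟨dvd_pow_self 2 hi0, pow_le_pow_right₀ (by norm_num)
        (Nat.le_of_dvd (Nat.pos_of_ne_zero hi0) hki)⟩
    obtain ⟨χ₀, hχ₀⟩ : (D.X.erase (Blocks.trivIrr G)).Nonempty := Finset.card_pos.mp (by
      rw [Finset.card_erase_of_mem hT, D.card_X]; omega)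
    set S : ℤ := ∑ χ ∈ D.X.erase (Blocks.trivIrr G), (charDegree (χ : G → ℂ) : ℤ)
    have hS2 : (2 : ℤ) ∣ S := Finset.dvd_sum fun χ hχ => (hev χ hχ).1
    have hSk : (2 : ℤ) ^ k ≤ S := (hev χ₀ hχ₀).2.trans
      (Finset.single_le_sum (f := fun χ : IrrCharacter G => (charDegree (χ : G → ℂ) : ℤ))
        (fun _ _ => Int.natCast_nonneg _) hχ₀)
    have h32' : (32 : ℤ) ≤ (2 : ℤ) ^ k := by exact_mod_cast h32
    have hpos := (Blocks.irr_degree_eq ψ).2
    rcases D.hε with hε | hε <;> rw [hε] at hrel'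
    · obtain ⟨c, v, hc, hv, hd⟩ := Nat.dvd_mul.mp (he ▸ D.dvdY ψ hψ)
      obtain ⟨i, -, rfl⟩ := (Nat.dvd_prime_pow Nat.prime_two).mp hv
      have hc9 := Nat.le_of_dvd (by norm_num) hc
      rcases Nat.eq_zero_or_pos i with rfl | hi
      · rw [pow_zero, mul_one] at hd
        push_cast at hrel'
        omega
      · have : 2 ∣ charDegree (ψ : G → ℂ) := hd ▸ dvd_mul_of_dvd_right (dvd_pow_self 2 hi.ne') c
        push_cast at hrel'
        omega
    · push_cast at hrel'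
      omega
  · -- the trivial character cannot be exceptional
    have hmod := D.degY _ hT
    have h1 : charDegree ((Blocks.trivIrr G : IrrCharacter G) : G → ℂ) = 1 := by
      have := BrauerReynolds.value_one (Blocks.trivIrr G)
      rw [show ((Blocks.trivIrr G : IrrCharacter G) : G → ℂ) 1 = 1 from rfl] at this
      exact_mod_cast this.symm
    rw [h1, Nat.cast_one] at hmod
    have hd := Int.modEq_iff_dvd.mp hmod
    have hle : D.e ≤ q - 1 := by
      have := Nat.le_mul_of_pos_right D.e D.one_le_t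
      omega
    have heq : D.e + 1 = q := by
      rcases D.hε with hε | hε <;> rw [hε] at hd
      · have := Int.le_of_dvd (by push_cast; omega) hd
        omega
      · have h2 : (q : ℤ) ∣ ((D.e : ℤ) + 1) := by
          have := dvd_neg.mpr hd
          simpa [add_comm] using this
        have := Int.le_of_dvd (by positivity) h2
        omega
    obtain ⟨c, v, hc, hv, hd'⟩ := Nat.dvd_mul.mp (he ▸ dvd_mul_right D.e _ : D.e ∣ 9 * 2 ^ a)
    obtain ⟨i, -, rfl⟩ := (Nat.dvd_prime_pow Nat.prime_two).mp hv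
    have hc9 := Nat.le_of_dvd (by norm_num) hc
    have h4 : 4 ∣ 2 ^ k := pow_dvd_pow 2 (by omega : 2 ≤ k)
    rcases Nat.lt_or_ge i 2 with hi | hi
    · interval_cases i <;> omega
    · have : 4 ∣ D.e := hd' ▸ dvd_mul_of_dvd_right (pow_dvd_pow 2 hi) c
      omega

/-- Degrees incongruent to `0`, `1` and `-1` modulo `q` are equal. -/
theorem Ctx.exceptional_degree_eq (C : Ctx G q a 1) (χ ψ : IrrCharacter G)
    (hχ : ∀ s : ℤ, (s = 0 ∨ s = 1 ∨ s = -1) → ¬ (charDegree (χ : G → ℂ) : ℤ) ≡ s [ZMOD q])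
    (hψ : ∀ s : ℤ, (s = 0 ∨ s = 1 ∨ s = -1) → ¬ (charDegree (ψ : G → ℂ) : ℤ) ≡ s [ZMOD q]) :
    charDegree (χ : G → ℂ) = charDegree (ψ : G → ℂ) := by
  classical
  haveI := C.simple
  haveI := Fact.mk C.hq
  obtain ⟨Q⟩ : Nonempty (Sylow q G) := inferInstance
  obtain ⟨D⟩ := BrauerTuan.nonempty_data C.not_cyclic Q (C.sylow_card Q)
  have key : ∀ η : IrrCharacter G,
      (∀ s : ℤ, (s = 0 ∨ s = 1 ∨ s = -1) → ¬ (charDegree (η : G → ℂ) : ℤ) ≡ s [ZMOD q]) → η ∈ D.Y := by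
    intro η hη
    by_contra hY
    by_cases hX : η ∈ D.X
    · exact hη (D.δ η) (Or.inr (D.hδ η hX)) (D.degX η hX)
    · refine hη 0 (Or.inl rfl) ?_
      obtain ⟨K, hK⟩ := M12Order.exists_nat_sum_subgroup (Char.isCharacter_of_isIrr η.2) (Q : Subgroup G)
      rw [Finset.sum_eq_single (1 : (Q : Subgroup G))
        (fun v _ hv => D.out (C.sylow_self_centralizing Q) η hX hY v v.2 fun e => hv (Subtype.ext e))
        (fun h => absurd (Finset.mem_univ _) h), OneMemClass.coe_one, BrauerReynolds.value_one,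
        C.sylow_card Q] at hK
      have hK' : charDegree (η : G → ℂ) = q * K := by exact_mod_cast hK
      rw [hK']; push_cast
      exact (Int.modEq_zero_iff_dvd).mpr (dvd_mul_right _ _)
  exact D.degY_eq χ (key χ hχ) ψ (key ψ hψ)

end CfsgLib.NineTwoPrimes
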