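import Cfsg.Agent.Lib.NineTwoPrimes.KleinMain
import Cfsg.Agent.Lib.Transfer.Focal
import Cfsg.Agent.Lib.Blocks.AbelianFrobeniusSmall

/-!
The two possible actions of the normalizer of a Sylow `3`-subgroup.
-/

set_option autoImplicit false
set_option linter.style.haveILetI false
set_option linter.unusedSectionVars false

namespace CfsgLib.NineTwoPrimes

open Cfsg CfsgLib
open scoped ComplexConjugate CfsgLib.Char IsMulCommutative commutatorElement

universe u

variable {G : Type u} [Group G] [Fintype G] {q m e : ℕ}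

theorem order_504_or_2448 (C : Ctx G q m e)
    (h3 : 3 ≤ Nat.card {c : ConjClasses G // ∃ g ∈ c.carrier, g ≠ 1 ∧ orderOf g ∣ 9}) :
    Nat.card G = 504 ∨ Nat.card G = 2448 := by
  classical
  haveI : Fact (Nat.Prime 3) := ⟨Nat.prime_three⟩
  haveI := C.simple
  obtain ⟨P⟩ : Nonempty (Sylow 3 G) := inferInstance
  have h9 : Nat.card (P : Subgroup G) = 9 := by
    have h2 : ¬ 3 ∣ 2 ^ m := fun h => by
      exact absurd (Nat.prime_three.dvd_of_dvd_pow h) (by norm_num)
    have hq : ¬ 3 ∣ q ^ e := fun h => C.hq3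
      ((Nat.prime_dvd_prime_iff_eq Nat.prime_three C.hq).mp (Nat.prime_three.dvd_of_dvd_pow h)).symm
    rw [P.card_eq_multiplicity, C.hcard, Nat.factorization_mul (by positivity) (pow_ne_zero _ C.hq.ne_zero),
      Nat.factorization_mul (by norm_num) (by positivity), Finsupp.add_apply, Finsupp.add_apply,
      Nat.factorization_eq_zero_of_not_dvd hq, Nat.factorization_eq_zero_of_not_dvd h2,
      show (9 : ℕ) = 3 ^ 2 by norm_num, Nat.prime_three.factorization_pow, Finsupp.single_eq_same]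
  haveI hab : IsMulCommutative (P : Subgroup G) :=
    IsPGroup.isMulCommutative_of_card_eq_prime_sq (p := 3) (by rw [h9]; norm_num)
  set W := Blocks.AbelianFrob.autG P with hW
  have hW3 : ¬ 3 ∣ Nat.card W := by
    rw [Blocks.AbelianFrob.card_autG]
    intro h
    refine P.not_dvd_index (h.trans ((Subgroup.relIndex_dvd_of_le_left _
      (Blocks.AbelianFrob.le_cent hab)).trans (Subgroup.relIndex_dvd_index_of_le Subgroup.le_normalizer)))
  have hdist : ∀ y z : (P : Subgroup G), ∀ w ∈ W, w y = z → ConjClasses.mk (y : G) = ConjClasses.mk (z : G) :=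
    fun y z w hw e => ConjClasses.mk_eq_mk_iff_isConj.mpr
      ((Blocks.AbelianFrob.isConj_iff_autG P hab y z).mpr ⟨w, hw, e⟩)
  have horb : ∃ x y z : (P : Subgroup G), x ≠ 1 ∧ y ≠ 1 ∧ z ≠ 1 ∧
      (∀ w ∈ W, w x ≠ y) ∧ (∀ w ∈ W, w x ≠ z) ∧ (∀ w ∈ W, w y ≠ z) := by
    haveI := Fintype.ofFinite {c : ConjClasses G // ∃ g ∈ c.carrier, g ≠ 1 ∧ orderOf g ∣ 9}
    rw [Nat.card_eq_fintype_card] at h3
    obtain ⟨⟨c₁, hc₁⟩, ⟨c₂, hc₂⟩, ⟨c₃, hc₃⟩, h12, h13, h23⟩ := Fintype.two_lt_card_iff.mp h3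
    have key : ∀ c : ConjClasses G, (∃ g ∈ c.carrier, g ≠ 1 ∧ orderOf g ∣ 9) →
        ∃ y : (P : Subgroup G), y ≠ 1 ∧ ConjClasses.mk (y : G) = c := by
      rintro c ⟨g, hgc, hg1, hg9⟩
      obtain ⟨i, -, hi⟩ := (Nat.dvd_prime_pow Nat.prime_three).mp (show orderOf g ∣ 3 ^ 2 from hg9)
      obtain ⟨u, hu⟩ := Blocks.AbelianFrob.exists_conj_mem_of_pow P ⟨i, hi⟩
      refine ⟨⟨_, hu⟩, fun e => hg1 (conj_eq_one_iff.mp (congrArg Subtype.val e)), ?_⟩
      rw [← ConjClasses.mem_carrier_iff_mk_eq.mp hgc]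
      exact (ConjClasses.mk_eq_mk_iff_isConj.mpr (isConj_iff.mpr ⟨u, rfl⟩)).symm
    obtain ⟨x, hx, ex⟩ := key c₁ hc₁
    obtain ⟨y, hy, ey⟩ := key c₂ hc₂
    obtain ⟨z, hz, ez⟩ := key c₃ hc₃
    refine ⟨x, y, z, hx, hy, hz, fun w hw e => h12 (Subtype.ext ?_), fun w hw e => h13 (Subtype.ext ?_),
      fun w hw e => h23 (Subtype.ext ?_)⟩
    · exact ex.symm.trans ((hdist x y w hw e).trans ey)
    · exact ex.symm.trans ((hdist x z w hw e).trans ez)
    · exact ey.symm.trans ((hdist y z w hw e).trans ez)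
  have hfix : ∀ a : (P : Subgroup G), (∀ w ∈ W, w a = a) → a = 1 := by
    intro a ha
    haveI := Fintype.ofFinite W
    let μ : (P : Subgroup G) →* (P : Subgroup G) :=
      MonoidHom.mk' (fun y => ∏ w : W, (w : MulAut (P : Subgroup G)) y) fun y z => by
        simp only [map_mul, Finset.prod_mul_distrib]
    have hμw : ∀ w ∈ W, ∀ y, μ (w y) = μ y := fun w hw y => by
      refine Fintype.prod_equiv (Equiv.mulRight (⟨w, hw⟩ : W)) _ _ fun v => ?_
      rfl
    have hfoc : ∀ z, z ∈ (P : Subgroup G).focalSubgroup → ∀ hz : z ∈ (P : Subgroup G), μ ⟨z, hz⟩ = 1 := by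
      intro z hz
      rw [Subgroup.focalSubgroup_def] at hz
      have hle : Subgroup.closure {g | g ∈ (P : Subgroup G) ∧ ∃ x ∈ (P : Subgroup G), ∃ u : G, g = ⁅x, u⁆} ≤
          μ.ker.map (P : Subgroup G).subtype := by
        rw [Subgroup.closure_le]
        rintro g ⟨hgP, x, hx, u, rfl⟩
        have h1 : u * x⁻¹ * u⁻¹ ∈ (P : Subgroup G) := by
          have e : u * x⁻¹ * u⁻¹ = x⁻¹ * ⁅x, u⁆ := by rw [commutatorElement_def]; group
          rw [e]
          exact mul_mem (inv_mem hx) hgP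
        obtain ⟨w, hw, ew⟩ := (Blocks.AbelianFrob.isConj_iff_autG P hab ⟨x⁻¹, inv_mem hx⟩ ⟨_, h1⟩).mp
          (isConj_iff.mpr ⟨u, rfl⟩)
        refine ⟨⟨_, hgP⟩, ?_, rfl⟩
        show μ _ = 1
        rw [show (⟨⁅x, u⁆, hgP⟩ : (P : Subgroup G)) = ⟨x, hx⟩ * w ⟨x⁻¹, inv_mem hx⟩ from Subtype.ext (by
          rw [ew]; show ⁅x, u⁆ = x * (u * x⁻¹ * u⁻¹); rw [commutatorElement_def]; group),
          map_mul, hμw w hw, ← map_mul]
        exact (congrArg μ (Subtype.ext (mul_inv_cancel x))).trans (map_one μ)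
      obtain ⟨y, hy, e⟩ := hle hz
      intro hz'
      rw [show (⟨z, hz'⟩ : (P : Subgroup G)) = y from Subtype.ext e.symm]
      exact hy
    have hmem : (a : G) ∈ (P : Subgroup G).focalSubgroup := by
      rw [← Subgroup.commutator_inf_eq_focalSubgroup, commutator_eq_top C.simple C.nonab]
      exact ⟨Subgroup.mem_top _, a.2⟩
    have h1 : a ^ Fintype.card W = 1 := by
      have h := hfoc _ hmem a.2
      rw [show μ ⟨(a : G), a.2⟩ = ∏ w : W, (w : MulAut (P : Subgroup G)) a from rfl,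
        Finset.prod_congr rfl fun w _ => ha _ w.2, Finset.prod_const, Finset.card_univ] at h
      exact h
    have h2 : a ^ 9 = 1 := by rw [← h9]; exact pow_card_eq_one'
    rw [← Nat.card_eq_fintype_card] at h1
    have := pow_gcd_eq_one (m := Nat.card W) (n := 9) |>.mpr ⟨h1, h2⟩
    rwa [show (Nat.card W).gcd 9 = 1 from
      ((Nat.prime_three.coprime_iff_not_dvd.mpr hW3).symm.pow_right 2), pow_one] at this
  rcases dichotomy h9 W hW3 horb hfix with hd | ⟨a, b, w₁, w₂, ha, hb, hw₁, hw₂, e1, e2, e3, e4, hgen, hdiag⟩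
  · refine inverted_order C P ⟨hab, h9, hd, ?_⟩
    by_contra hno
    push Not at hno
    have hall : ∀ y : (P : Subgroup G), y = 1 := fun y => hfix y fun w hw => by
      rcases hd w hw with h | h
      · rw [h]; rfl
      · obtain ⟨y', hy'⟩ := hno w hw
        exact absurd (h y') hy'
    have h1 : Nat.card (P : Subgroup G) = 1 :=
      Nat.card_eq_one_iff_unique.mpr ⟨⟨fun u v => by rw [hall u, hall v]⟩, ⟨1⟩⟩
    omega
  · exfalso
    obtain ⟨⟨n₁, hn₁⟩, rfl⟩ := hw₁
    obtain ⟨⟨n₂, hn₂⟩, rfl⟩ := hw₂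
    exact Klein.absurd_four
      { P := P, comm := hab, card := h9, a := a, b := b, ha := ha, hb := hb, n₁ := n₁, n₂ := n₂,
        hn₁ := hn₁, hn₂ := hn₂
        conj₁a := congrArg Subtype.val e1, conj₁b := congrArg Subtype.val e2
        conj₂a := congrArg Subtype.val e3, conj₂b := congrArg Subtype.val e4
        diag := hdiag, gen := hgen } C

end CfsgLib.NineTwoPrimes
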